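import Cfsg.Agent.Lib.SL213.Defs

/-! The tables of classes of subgroups pass the first checks. -/

namespace Cfsg.Agent.SL213

set_option maxRecDepth 100000

theorem base_ok : (List.range 21).all baseOK = true := by decide +kernel

theorem top_ok : topOK = true := by decide +kernel

end Cfsg.Agent.SL213
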