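import Cfsg.Agent.Lib.SL213.ChecksCoverMid

/-! Double cosets of the larger classes cover. -/

namespace Cfsg.Agent.SL213

set_option maxRecDepth 100000

theorem cover_high : (List.range' 16 5).all coverB = true := by decide +kernel

end Cfsg.Agent.SL213
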