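import Cfsg.Agent.Lib.SL213.ChecksRows

/-! Double cosets of the smaller classes cover. -/

namespace Cfsg.Agent.SL213

set_option maxRecDepth 100000

theorem cover_low : (List.range 10).all coverB = true := by decide +kernel

end Cfsg.Agent.SL213
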