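import Cfsg.Agent.Lib.SL213.ChecksRowsLow

/-! Steps from the other classes. -/

namespace Cfsg.Agent.SL213

set_option maxRecDepth 100000

theorem rows_other : (List.range' 1 20).all fun k => Nat.beq k topIdx || (stepT.getD k []).all (rowOK k) = true := by decide +kernel

end Cfsg.Agent.SL213
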