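import Cfsg.Agent.Lib.SL213.ChecksBase

/-! Steps from the first class. -/

namespace Cfsg.Agent.SL213

set_option maxRecDepth 100000

theorem rows_zero : (stepT.getD 0 []).all (rowOK 0) = true := by decide +kernel

end Cfsg.Agent.SL213
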