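/-! Generated tables: classes of subgroups of the special linear group of degree two over thirteen elements. -/

namespace Cfsg.Agent.SL213

set_option maxRecDepth 8000

/-- The class of the whole group. -/
def topIdx : Nat := 10

/-- Generators. -/
def gensT : List (List Nat) := [[], [325], [326], [327], [328], [329], [332], [336], [337], [26376], [325, 326], [325, 416], [325, 417], [325, 559], [325, 560], [325, 910], [325, 911], [325, 912], [325, 913], [326, 560], [327, 571]]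

/-- Table part. -/
def parT0_0 : List (Nat × Nat) := []

/-- Table. -/
def parT0 : List (Nat × Nat) := List.flatten [parT0_0]

/-- Table part. -/
def parT1_0 : List (Nat × Nat) := [(0, 0), (1, 0), (2, 0)]

/-- Table. -/
def parT1 : List (Nat × Nat) := List.flatten [parT1_0]

/-- Table part. -/
def parT2_0 : List (Nat × Nat) := [(0, 0), (1, 0), (2, 0), (3, 0), (4, 0)]

/-- Table. -/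
def parT2 : List (Nat × Nat) := List.flatten [parT2_0]

/-- Table part. -/
def parT3_0 : List (Nat × Nat) := [(0, 0), (1, 0), (2, 0), (3, 0), (4, 0), (5, 0), (6, 0), (7, 0), (8, 0), (9, 0), (10, 0), (11, 0)]

/-- Table. -/
def parT3 : List (Nat × Nat) := List.flatten [parT3_0]

/-- Table part. -/
def parT4_0 : List (Nat × Nat) := [(0, 0), (1, 0), (2, 0), (3, 0), (4, 0), (5, 0), (6, 0), (7, 0), (8, 0), (9, 0), (10, 0), (11, 0), (12, 0)]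

/-- Table. -/
def parT4 : List (Nat × Nat) := List.flatten [parT4_0]

/-- Table part. -/
def parT5_0 : List (Nat × Nat) := [(0, 0), (1, 0), (2, 0), (3, 0), (4, 0), (5, 0), (6, 0), (7, 0), (8, 0), (9, 0), (10, 0)]

/-- Table. -/
def parT5 : List (Nat × Nat) := List.flatten [parT5_0]

/-- Table part. -/
def parT6_0 : List (Nat × Nat) := [(0, 0), (1, 0), (2, 0), (3, 0), (4, 0), (5, 0)]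

/-- Table. -/
def parT6 : List (Nat × Nat) := List.flatten [parT6_0]

/-- Table part. -/
def parT7_0 : List (Nat × Nat) := [(0, 0), (1, 0), (2, 0), (3, 0), (4, 0), (5, 0), (6, 0), (7, 0), (8, 0), (9, 0), (10, 0), (11, 0), (12, 0), (13, 0), (14, 0), (15, 0), (16, 0), (17, 0), (18, 0), (19, 0), (20, 0), (21, 0), (22, 0), (23, 0), (24, 0)]

/-- Table. -/
def parT7 : List (Nat × Nat) := List.flatten [parT7_0]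

/-- Table part. -/
def parT8_0 : List (Nat × Nat) := [(0, 0), (1, 0)]

/-- Table. -/
def parT8 : List (Nat × Nat) := List.flatten [parT8_0]

/-- Table part. -/
def parT9_0 : List (Nat × Nat) := [(0, 0)]

/-- Table. -/
def parT9 : List (Nat × Nat) := List.flatten [parT9_0]

/-- Table part. -/
def parT10_0 : List (Nat × Nat) := [(0, 0), (0, 1), (1, 0), (1, 1), (2, 0), (2, 1), (3, 0), (3, 1), (4, 0), (4, 1), (5, 1), (6, 0), (7, 1), (8, 0), (8, 1), (9, 1), (10, 0), (11, 0), (11, 1), (12, 1), (13, 0), (13, 1), (14, 1), (15, 0), (16, 0), (16, 1), (17, 1), (18, 1), (19, 0), (20, 0), (20, 1), (21, 1), (22, 0), (23, 0), (23, 1), (24, 1), (25, 1), (26, 0), (27, 0), (27, 1), (28, 0), (28, 1), (29, 1), (30, 1), (31, 0), (32, 0), (32, 1), (33, 1), (34, 1), (35, 0), (36, 0),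 (36, 1), (37, 0), (37, 1), (38, 1), (39, 1), (40, 0), (41, 1), (42, 0), (43, 0), (43, 1), (44, 0), (44, 1), (45, 1)]

/-- Table part. -/
def parT10_1 : List (Nat × Nat) := [(46, 1), (47, 0), (48, 0), (48, 1), (49, 0), (49, 1), (50, 1), (51, 1), (52, 0), (53, 1), (54, 0), (55, 0), (55, 1), (56, 0), (56, 1), (57, 1), (58, 0), (58, 1), (59, 1), (60, 1), (61, 0), (62, 1), (63, 0), (64, 0), (64, 1), (65, 0), (65, 1), (66, 1), (67, 1), (68, 0), (69, 1), (70, 0), (71, 0), (71, 1), (72, 0), (72, 1), (73, 1), (74, 0), (74, 1), (75, 1), (76, 1), (77, 0), (78, 1), (79, 0), (80, 0), (80, 1), (81, 1), (82, 0), (83, 0), (83, 1), (84, 0), (84, 1), (85, 1), (86, 0), (86, 1), (87, 1), (88, 1), (89, 0), (90, 1), (91, 0), (92, 0), (92, 1), (93, 0), (93, 1)]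

/-- Table part. -/
def parT10_2 : List (Nat × Nat) := [(94, 1), (95, 0), (95, 1), (96, 1), (97, 1), (98, 0), (99, 1), (100, 0), (101, 0), (101, 1), (102, 1), (103, 0), (104, 0), (104, 1), (105, 0), (105, 1), (106, 1), (107, 0), (107, 1), (108, 1), (109, 1), (110, 0), (111, 0), (111, 1), (112, 1), (113, 1), (114, 0), (115, 1), (116, 0), (117, 0), (117, 1), (118, 1), (119, 0), (120, 0), (120, 1), (121, 0), (121, 1), (122, 1), (123, 0), (123, 1), (124, 1), (125, 1), (126, 0), (127, 1), (128, 0), (129, 0), (129, 1), (130, 1), (131, 0), (132, 0), (132, 1), (133, 0), (133, 1), (134, 1), (135, 0), (135, 1), (136, 1), (137, 1), (138, 0), (139, 0), (139, 1), (140, 1), (141, 1), (142, 0)]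

/-- Table part. -/
def parT10_3 : List (Nat × Nat) := [(143, 1), (144, 0), (145, 0), (145, 1), (146, 1), (147, 0), (148, 0), (148, 1), (149, 0), (149, 1), (150, 1), (151, 1), (152, 0), (153, 0), (153, 1), (154, 0), (154, 1), (155, 1), (156, 0), (156, 1), (157, 1), (158, 1), (159, 0), (160, 0), (160, 1), (161, 1), (162, 1), (163, 0), (164, 1), (165, 0), (166, 0), (166, 1), (167, 1), (168, 0), (169, 0), (169, 1), (170, 0), (170, 1), (171, 1), (172, 0), (172, 1), (173, 1), (174, 1), (175, 0), (176, 0), (176, 1), (177, 1), (178, 1), (179, 0), (180, 1), (181, 0), (182, 0), (182, 1), (183, 1), (184, 0), (185, 0), (185, 1), (186, 0), (186, 1), (187, 1), (188, 1), (189, 0), (190, 0), (190, 1)]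

/-- Table part. -/
def parT10_4 : List (Nat × Nat) := [(191, 0), (191, 1), (192, 1), (193, 0), (193, 1), (194, 1), (195, 1), (196, 0), (197, 0), (197, 1), (198, 1), (199, 1), (200, 0), (201, 1), (202, 0), (203, 0), (203, 1), (204, 0), (204, 1), (205, 1), (206, 1), (207, 0), (208, 1), (209, 0), (210, 0), (210, 1), (211, 1), (212, 0), (213, 0), (213, 1), (214, 0), (214, 1), (215, 1), (216, 1), (217, 0), (218, 0), (218, 1), (219, 0), (219, 1), (220, 1), (221, 0), (221, 1), (222, 1), (223, 1), (224, 0), (225, 0), (225, 1), (226, 1), (227, 1), (228, 0), (229, 1), (230, 0), (231, 0), (231, 1), (232, 1), (233, 0), (234, 0), (234, 1), (235, 0), (235, 1), (236, 1), (237, 1), (238, 0), (239, 0)]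

/-- Table part. -/
def parT10_5 : List (Nat × Nat) := [(239, 1), (240, 0), (240, 1), (241, 1), (242, 0), (242, 1), (243, 1), (244, 1), (245, 0), (246, 0), (246, 1), (247, 1), (248, 1), (249, 0), (250, 1), (251, 0), (252, 0), (252, 1), (253, 0), (253, 1), (254, 1), (255, 1), (256, 0), (257, 1), (258, 0), (259, 0), (259, 1), (260, 1), (261, 0), (262, 0), (262, 1), (263, 0), (263, 1), (264, 1), (265, 1), (266, 0), (267, 0), (267, 1), (268, 0), (268, 1), (269, 1), (270, 0), (270, 1), (271, 1), (272, 1), (273, 0), (274, 1), (275, 0), (276, 0), (276, 1), (277, 0), (277, 1), (278, 1), (279, 0), (279, 1), (280, 1), (281, 1), (282, 0), (283, 0), (283, 1), (284, 1), (285, 1), (286, 0), (287, 1)]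

/-- Table part. -/
def parT10_6 : List (Nat × Nat) := [(288, 0), (289, 0), (289, 1), (290, 0), (290, 1), (291, 1), (292, 1), (293, 0), (294, 1), (295, 0), (296, 0), (296, 1), (297, 1), (298, 0), (299, 0), (299, 1), (300, 0), (300, 1), (301, 1), (302, 1), (303, 0), (304, 0), (304, 1), (305, 0), (305, 1), (306, 1), (307, 0), (307, 1), (308, 1), (309, 1), (310, 0), (311, 0), (311, 1), (312, 1), (313, 1), (314, 0), (315, 1), (316, 0), (317, 0), (317, 1), (318, 0), (318, 1), (319, 1), (320, 1), (321, 0), (322, 1), (323, 0), (324, 0), (324, 1), (325, 1), (326, 0), (327, 0), (327, 1), (328, 0), (328, 1), (329, 1), (330, 1), (331, 0), (332, 0), (332, 1), (333, 0), (333, 1), (334, 1), (335, 0)]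

/-- Table part. -/
def parT10_7 : List (Nat × Nat) := [(335, 1), (336, 1), (337, 1), (338, 0), (339, 1), (340, 0), (341, 0), (341, 1), (342, 0), (342, 1), (343, 1), (344, 0), (344, 1), (345, 1), (346, 1), (347, 0), (348, 0), (348, 1), (349, 1), (350, 1), (351, 0), (352, 1), (353, 0), (354, 0), (354, 1), (355, 0), (355, 1), (356, 1), (357, 1), (358, 0), (359, 1), (360, 0), (361, 0), (361, 1), (362, 1), (363, 0), (364, 0), (364, 1), (365, 0), (365, 1), (366, 1), (367, 0), (367, 1), (368, 1), (369, 1), (370, 0), (371, 1), (372, 0), (373, 0), (373, 1), (374, 1), (375, 0), (376, 0), (376, 1), (377, 0), (377, 1), (378, 1), (379, 1), (380, 0), (381, 0), (381, 1), (382, 0), (382, 1), (383, 1)]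

/-- Table part. -/
def parT10_8 : List (Nat × Nat) := [(384, 0), (384, 1), (385, 1), (386, 1), (387, 0), (388, 1), (389, 0), (390, 0), (390, 1), (391, 0), (391, 1), (392, 1), (393, 0), (393, 1), (394, 1), (395, 1), (396, 0), (397, 0), (397, 1), (398, 1), (399, 1), (400, 0), (401, 1), (402, 0), (403, 0), (403, 1), (404, 0), (404, 1), (405, 1), (406, 1), (407, 0), (408, 1), (409, 0), (410, 0), (410, 1), (411, 1), (412, 0), (413, 0), (413, 1), (414, 0), (414, 1), (415, 1), (416, 1), (417, 0), (418, 0), (418, 1), (419, 0), (419, 1), (420, 1), (421, 0), (421, 1), (422, 1), (423, 1), (424, 0), (425, 1), (426, 0), (427, 0), (427, 1), (428, 0), (428, 1), (429, 1), (430, 0), (430, 1), (431, 1)]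

/-- Table part. -/
def parT10_9 : List (Nat × Nat) := [(432, 1), (433, 0), (434, 0), (434, 1), (435, 1), (436, 1), (437, 0), (438, 1), (439, 0), (440, 0), (440, 1), (441, 0), (441, 1), (442, 1), (443, 1), (444, 0), (445, 1), (446, 0), (447, 0), (447, 1), (448, 1), (449, 0), (450, 0), (450, 1), (451, 0), (451, 1), (452, 1), (453, 0), (453, 1), (454, 1), (455, 1), (456, 0), (457, 1), (458, 0), (459, 0), (459, 1), (460, 1), (461, 0), (462, 0), (462, 1), (463, 0), (463, 1), (464, 1), (465, 1), (466, 0), (467, 0), (467, 1), (468, 0), (468, 1), (469, 1), (470, 0), (470, 1), (471, 1), (472, 1), (473, 0), (474, 1), (475, 0), (476, 0), (476, 1), (477, 0), (477, 1), (478, 1), (479, 0), (479, 1)]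

/-- Table part. -/
def parT10_10 : List (Nat × Nat) := [(480, 1), (481, 1), (482, 0), (483, 0), (483, 1), (484, 1), (485, 1), (486, 0), (487, 1), (488, 0), (489, 0), (489, 1), (490, 1), (491, 0), (492, 0), (492, 1), (493, 0), (493, 1), (494, 1), (495, 0), (495, 1), (497, 1), (498, 0), (499, 0), (499, 1), (500, 1), (502, 0), (503, 1), (504, 0), (505, 0), (505, 1), (506, 0), (506, 1), (508, 1), (509, 0), (511, 0), (512, 0), (513, 1), (514, 0), (515, 0), (515, 1), (516, 0), (517, 1), (518, 0), (518, 1), (519, 1), (520, 1), (521, 0), (522, 1), (523, 0), (524, 0), (524, 1), (525, 1), (526, 0), (527, 0), (528, 0), (528, 1), (530, 1), (531, 0), (532, 0), (532, 1), (533, 0), (534, 1), (535, 0)]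

/-- Table part. -/
def parT10_11 : List (Nat × Nat) := [(535, 1), (537, 1), (538, 0), (539, 1), (540, 0), (541, 0), (541, 1), (542, 0), (542, 1), (543, 1), (544, 0), (544, 1), (545, 1), (546, 1), (547, 0), (548, 0), (548, 1), (549, 1), (550, 1), (551, 0), (552, 1), (553, 0), (554, 0), (554, 1), (555, 0), (555, 1), (556, 1), (557, 1), (558, 0), (559, 1), (560, 0), (561, 0), (561, 1), (562, 1), (563, 0), (564, 0), (564, 1), (565, 0), (565, 1), (566, 1), (567, 0), (567, 1), (568, 1), (569, 1), (570, 0), (571, 1), (572, 0), (573, 0), (573, 1), (574, 1), (575, 0), (576, 0), (576, 1), (577, 0), (577, 1), (578, 1), (579, 1), (580, 0), (581, 0), (581, 1), (582, 0), (582, 1), (583, 1), (584, 0)]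

/-- Table part. -/
def parT10_12 : List (Nat × Nat) := [(584, 1), (585, 1), (586, 1), (587, 0), (588, 1), (589, 0), (590, 0), (590, 1), (591, 0), (591, 1), (592, 1), (593, 0), (593, 1), (594, 1), (595, 1), (596, 0), (597, 0), (597, 1), (598, 1), (599, 1), (600, 0), (601, 1), (602, 0), (603, 0), (603, 1), (604, 1), (605, 0), (606, 0), (606, 1), (607, 0), (607, 1), (608, 1), (609, 0), (609, 1), (611, 1), (612, 0), (613, 0), (613, 1), (614, 1), (616, 0), (617, 1), (618, 0), (619, 0), (619, 1), (620, 0), (620, 1), (622, 1), (623, 0), (625, 0), (626, 0), (627, 1), (628, 0), (629, 0), (629, 1), (630, 0), (631, 1), (632, 0), (632, 1), (633, 1), (634, 1), (635, 0), (636, 1), (637, 0), (638, 0)]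

/-- Table part. -/
def parT10_13 : List (Nat × Nat) := [(638, 1), (639, 1), (640, 0), (641, 0), (642, 0), (642, 1), (644, 1), (645, 0), (646, 0), (646, 1), (647, 0), (648, 1), (649, 0), (649, 1), (651, 1), (653, 0), (653, 1), (654, 1), (655, 1), (656, 0), (657, 1), (658, 0), (659, 0), (659, 1), (660, 1), (661, 0), (662, 0), (662, 1), (663, 1), (664, 1), (665, 0), (666, 0), (666, 1), (667, 1), (668, 0), (668, 1), (669, 1), (670, 1), (671, 0), (672, 1), (673, 0), (674, 0), (674, 1), (675, 1), (676, 1), (677, 1), (678, 0), (678, 1), (679, 1), (680, 1), (681, 0), (682, 1), (683, 0), (683, 1), (684, 1), (685, 0), (686, 0), (686, 1), (687, 0), (688, 1), (689, 0), (689, 1), (691, 1), (692, 0)]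

/-- Table part. -/
def parT10_14 : List (Nat × Nat) := [(693, 0), (694, 1), (696, 1), (697, 0), (698, 0), (698, 1), (700, 1), (701, 0), (703, 0), (704, 1), (705, 0), (706, 0), (707, 1), (708, 0), (708, 1), (709, 1), (710, 1), (711, 0), (712, 1), (713, 0), (714, 0), (714, 1), (715, 1), (716, 0), (717, 0), (717, 1), (718, 0), (718, 1), (719, 1), (720, 1), (721, 0), (722, 0), (722, 1), (723, 0), (723, 1), (724, 1), (725, 0), (725, 1), (726, 1), (727, 1), (728, 0), (729, 1), (730, 0), (731, 0), (731, 1), (732, 0), (732, 1), (733, 1), (734, 0), (734, 1), (735, 1), (736, 1), (737, 0), (738, 0), (738, 1), (739, 1), (740, 1), (741, 0), (742, 1), (743, 0), (744, 0), (745, 1), (746, 0), (747, 0)]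

/-- Table part. -/
def parT10_15 : List (Nat × Nat) := [(747, 1), (748, 0), (748, 1), (749, 1), (750, 0), (750, 1), (752, 1), (753, 0), (754, 0), (754, 1), (755, 1), (757, 0), (758, 1), (759, 0), (760, 0), (760, 1), (761, 0), (761, 1), (763, 1), (764, 0), (766, 0), (767, 0), (768, 1), (769, 0), (770, 0), (770, 1), (771, 0), (772, 1), (773, 0), (773, 1), (774, 1), (775, 1), (776, 0), (777, 1), (778, 0), (779, 0), (779, 1), (780, 1), (781, 0), (782, 0), (783, 0), (783, 1), (785, 1), (786, 0), (787, 0), (787, 1), (788, 0), (789, 1), (790, 0), (790, 1), (792, 1), (794, 1), (795, 1), (796, 1), (797, 0), (798, 1), (799, 0), (800, 0), (800, 1), (801, 1), (802, 0), (803, 0), (803, 1), (804, 1)]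

/-- Table part. -/
def parT10_16 : List (Nat × Nat) := [(805, 1), (806, 0), (807, 0), (807, 1), (808, 1), (809, 0), (809, 1), (810, 1), (811, 1), (812, 0), (813, 1), (814, 0), (815, 0), (815, 1), (816, 1), (817, 1), (818, 1), (819, 0), (819, 1), (820, 1), (821, 1), (822, 0), (823, 1), (824, 0), (824, 1), (825, 1), (826, 0), (827, 0), (827, 1), (828, 0), (829, 1), (830, 0), (830, 1), (832, 1), (833, 0), (834, 0), (835, 1), (837, 1), (838, 0), (839, 0), (839, 1), (841, 1), (842, 0), (844, 0), (845, 1), (846, 0), (847, 0), (849, 0), (850, 0), (850, 1), (851, 0), (851, 1), (852, 1), (853, 0), (853, 1), (855, 1), (856, 0), (857, 0), (857, 1), (858, 1), (859, 1), (860, 0), (861, 0), (861, 1)]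

/-- Table part. -/
def parT10_17 : List (Nat × Nat) := [(862, 0), (862, 1), (864, 1), (865, 0), (866, 0), (867, 1), (868, 0), (869, 0), (869, 1), (870, 0), (871, 1), (872, 0), (872, 1), (873, 1), (874, 1), (875, 0), (876, 0), (876, 1), (877, 0), (878, 0), (878, 1), (879, 1), (880, 0), (881, 0), (881, 1), (882, 0), (883, 1), (884, 0), (884, 1), (885, 1), (887, 0), (887, 1), (888, 1), (889, 1), (890, 0), (891, 1), (892, 0), (892, 1), (893, 1), (894, 0), (895, 0), (895, 1), (896, 1), (897, 1), (898, 0), (898, 1), (899, 0), (899, 1), (900, 1), (901, 1), (902, 0), (903, 0), (903, 1), (904, 1), (905, 1), (906, 0), (906, 1), (907, 1), (908, 1), (909, 0), (911, 0), (912, 0), (912, 1), (913, 0)]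

/-- Table part. -/
def parT10_18 : List (Nat × Nat) := [(913, 1), (914, 1), (915, 0), (915, 1), (917, 1), (918, 0), (919, 0), (919, 1), (920, 1), (922, 0), (923, 1), (924, 0), (925, 0), (925, 1), (926, 0), (926, 1), (928, 1), (929, 0), (931, 0), (932, 0), (933, 1), (934, 0), (935, 0), (935, 1), (936, 0), (937, 1), (938, 0), (938, 1), (939, 1), (940, 1), (941, 0), (942, 1), (943, 0), (944, 0), (944, 1), (945, 1), (946, 0), (947, 0), (948, 0), (948, 1), (950, 1), (951, 0), (952, 0), (952, 1), (953, 0), (954, 1), (955, 0), (955, 1), (957, 1), (958, 1), (959, 1), (960, 1), (961, 0), (962, 1), (963, 0), (964, 0), (964, 1), (965, 1), (966, 0), (967, 0), (967, 1), (968, 1), (969, 1), (970, 0)]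

/-- Table part. -/
def parT10_19 : List (Nat × Nat) := [(971, 0), (971, 1), (972, 1), (973, 0), (973, 1), (974, 1), (975, 1), (976, 0), (977, 1), (978, 0), (979, 0), (979, 1), (980, 1), (981, 1), (982, 1), (983, 0), (983, 1), (984, 1), (985, 1), (986, 0), (987, 1), (988, 0), (989, 1), (990, 0), (991, 0), (991, 1), (992, 0), (993, 1), (994, 0), (994, 1), (996, 1), (997, 0), (998, 0), (999, 1), (1001, 1), (1002, 0), (1003, 0), (1003, 1), (1005, 1), (1006, 0), (1008, 0), (1009, 1), (1010, 0), (1011, 0), (1012, 0), (1013, 0), (1013, 1), (1014, 0), (1014, 1), (1015, 1), (1016, 1), (1018, 1), (1019, 0), (1020, 1), (1021, 1), (1022, 1), (1023, 0), (1024, 0), (1024, 1), (1025, 0), (1025, 1), (1027, 1), (1028, 0), (1029, 0)]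

/-- Table part. -/
def parT10_20 : List (Nat × Nat) := [(1030, 1), (1032, 0), (1032, 1), (1033, 0), (1034, 1), (1035, 0), (1035, 1), (1036, 1), (1037, 1), (1039, 0), (1039, 1), (1041, 0), (1041, 1), (1042, 1), (1043, 0), (1044, 0), (1044, 1), (1045, 0), (1046, 1), (1047, 0), (1047, 1), (1048, 1), (1050, 0), (1050, 1), (1051, 1), (1052, 1), (1053, 0), (1054, 1), (1055, 0), (1055, 1), (1056, 1), (1057, 0), (1058, 1), (1059, 1), (1060, 1), (1061, 1), (1062, 0), (1062, 1), (1063, 1), (1064, 1), (1065, 0), (1066, 0), (1066, 1), (1067, 1), (1068, 1), (1069, 0), (1069, 1), (1070, 1), (1071, 1), (1072, 1), (1073, 1), (1074, 0), (1075, 1), (1076, 0), (1077, 0), (1077, 1), (1079, 0), (1080, 0), (1080, 1), (1081, 1), (1082, 1), (1083, 0), (1084, 0), (1084, 1)]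

/-- Table part. -/
def parT10_21 : List (Nat × Nat) := [(1085, 1), (1086, 1), (1087, 1), (1088, 0), (1089, 1), (1090, 0), (1091, 0), (1091, 1), (1092, 1), (1093, 1), (1094, 0), (1094, 1), (1095, 1), (1096, 1), (1097, 0), (1098, 1), (1099, 0), (1099, 1), (1100, 1), (1101, 0), (1102, 1), (1103, 0), (1103, 1), (1105, 1), (1106, 0), (1108, 1), (1109, 0), (1110, 0), (1110, 1), (1112, 1), (1113, 0), (1115, 0), (1116, 1), (1117, 0), (1118, 0), (1120, 0), (1121, 0), (1121, 1), (1122, 0), (1122, 1), (1123, 1), (1124, 0), (1124, 1), (1125, 1), (1126, 0), (1127, 0), (1127, 1), (1128, 1), (1129, 1), (1130, 0), (1131, 0), (1131, 1), (1132, 0), (1132, 1), (1133, 1), (1134, 0), (1135, 1), (1136, 0), (1137, 0), (1137, 1), (1138, 0), (1138, 1), (1139, 1), (1140, 1)]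

/-- Table part. -/
def parT10_22 : List (Nat × Nat) := [(1141, 0), (1142, 0), (1142, 1), (1143, 0), (1143, 1), (1144, 1), (1145, 0), (1146, 0), (1146, 1), (1147, 0), (1147, 1), (1148, 1), (1149, 1), (1150, 1), (1151, 0), (1153, 0), (1154, 0), (1154, 1), (1156, 0), (1157, 0), (1157, 1), (1158, 1), (1159, 1), (1160, 0), (1161, 0), (1161, 1), (1162, 1), (1163, 0), (1164, 1), (1165, 1), (1166, 0), (1167, 1), (1168, 0), (1169, 0), (1170, 1), (1172, 1), (1173, 0), (1173, 1), (1174, 1), (1175, 1), (1176, 0), (1177, 1), (1178, 0), (1179, 1), (1180, 0), (1181, 0), (1181, 1), (1182, 0), (1183, 1), (1184, 0), (1184, 1), (1187, 0), (1188, 0), (1191, 1), (1192, 0), (1193, 0), (1193, 1), (1195, 1), (1196, 0), (1198, 0), (1199, 1), (1200, 0), (1201, 0), (1202, 0)]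

/-- Table part. -/
def parT10_23 : List (Nat × Nat) := [(1203, 0), (1203, 1), (1204, 0), (1204, 1), (1205, 1), (1206, 1), (1208, 1), (1209, 0), (1210, 1), (1211, 1), (1212, 1), (1213, 0), (1214, 0), (1214, 1), (1215, 0), (1215, 1), (1217, 1), (1218, 0), (1219, 0), (1220, 1), (1222, 0), (1222, 1), (1223, 0), (1224, 1), (1225, 0), (1225, 1), (1226, 1), (1227, 1), (1229, 0), (1229, 1), (1231, 0), (1231, 1), (1232, 1), (1233, 0), (1234, 0), (1234, 1), (1235, 0), (1236, 1), (1237, 0), (1237, 1), (1238, 1), (1239, 1), (1240, 1), (1241, 1), (1242, 0), (1243, 1), (1244, 0), (1244, 1), (1245, 1), (1246, 0), (1247, 1), (1248, 1), (1249, 1), (1250, 1), (1251, 0), (1251, 1), (1252, 1), (1253, 1), (1254, 0), (1255, 0), (1255, 1), (1256, 1), (1257, 1), (1258, 0)]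

/-- Table part. -/
def parT10_24 : List (Nat × Nat) := [(1258, 1), (1259, 1), (1260, 1), (1261, 1), (1262, 1), (1263, 0), (1264, 1), (1265, 0), (1266, 0), (1266, 1), (1267, 0), (1268, 1), (1269, 1), (1270, 0), (1271, 0), (1271, 1), (1272, 1), (1273, 1), (1274, 1), (1275, 0), (1276, 1), (1278, 0), (1278, 1), (1279, 1), (1280, 1), (1281, 1), (1282, 1), (1283, 0), (1284, 1), (1285, 1), (1286, 1), (1287, 0), (1288, 1), (1289, 0), (1289, 1), (1290, 1), (1291, 0), (1292, 1), (1294, 0), (1294, 1), (1296, 1), (1299, 0), (1300, 1), (1301, 0), (1304, 0), (1305, 0), (1305, 1), (1306, 1), (1307, 1), (1308, 0), (1308, 1), (1309, 1), (1310, 0), (1311, 0), (1311, 1), (1312, 1), (1313, 0), (1314, 0), (1314, 1), (1315, 0), (1315, 1), (1316, 0), (1317, 1), (1318, 0)]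

/-- Table part. -/
def parT10_25 : List (Nat × Nat) := [(1319, 1), (1320, 0), (1320, 1), (1321, 1), (1322, 1), (1323, 0), (1324, 1), (1325, 0), (1325, 1), (1326, 1), (1327, 0), (1328, 0), (1328, 1), (1329, 0), (1329, 1), (1330, 0), (1330, 1), (1331, 1), (1332, 1), (1333, 1), (1335, 1), (1336, 0), (1337, 1), (1338, 1), (1339, 0), (1340, 0), (1340, 1), (1341, 0), (1343, 1), (1344, 0), (1346, 0), (1346, 1), (1348, 1), (1349, 1), (1350, 1), (1351, 1), (1353, 1), (1354, 0), (1354, 1), (1355, 1), (1357, 0), (1358, 0), (1359, 1), (1360, 1), (1361, 1), (1363, 0), (1363, 1), (1364, 1), (1365, 0), (1366, 1), (1367, 0), (1368, 1), (1369, 1), (1370, 0), (1370, 1), (1372, 1), (1373, 0), (1374, 1), (1375, 1), (1376, 1), (1377, 0), (1377, 1), (1378, 1), (1379, 1)]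

/-- Table part. -/
def parT10_26 : List (Nat × Nat) := [(1380, 1), (1381, 1), (1382, 0), (1385, 0), (1385, 1), (1387, 0), (1388, 1), (1389, 1), (1390, 1), (1391, 0), (1392, 0), (1392, 1), (1394, 1), (1395, 1), (1396, 0), (1397, 1), (1399, 0), (1400, 1), (1401, 0), (1401, 1), (1402, 1), (1403, 1), (1404, 0), (1405, 1), (1406, 0), (1407, 1), (1408, 0), (1408, 1), (1411, 0), (1412, 1), (1413, 0), (1414, 0), (1414, 1), (1416, 1), (1417, 0), (1418, 1), (1419, 0), (1420, 0), (1421, 0), (1421, 1), (1422, 0), (1422, 1), (1423, 1), (1426, 0), (1427, 1), (1428, 1), (1429, 0), (1430, 0), (1430, 1), (1431, 0), (1433, 1), (1434, 0), (1435, 0), (1437, 0), (1437, 1), (1438, 0), (1440, 0), (1440, 1), (1441, 1), (1442, 1), (1443, 0), (1443, 1), (1444, 0), (1445, 1)]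

/-- Table part. -/
def parT10_27 : List (Nat × Nat) := [(1446, 0), (1447, 0), (1448, 0), (1449, 1), (1450, 0), (1450, 1), (1452, 1), (1453, 1), (1455, 0), (1456, 1), (1457, 0), (1457, 1), (1458, 1), (1459, 0), (1460, 1), (1461, 1), (1462, 0), (1462, 1), (1464, 1), (1465, 0), (1466, 0), (1466, 1), (1468, 1), (1469, 0), (1469, 1), (1470, 1), (1471, 1), (1472, 1), (1473, 1), (1474, 0), (1476, 0), (1477, 0), (1477, 1), (1478, 0), (1479, 1), (1480, 1), (1481, 0), (1482, 0), (1482, 1), (1484, 1), (1485, 1), (1486, 0), (1487, 1), (1489, 0), (1490, 1), (1491, 1), (1492, 1), (1493, 1), (1494, 0), (1495, 1), (1497, 1), (1498, 0), (1499, 1), (1500, 0), (1500, 1), (1502, 0), (1503, 1), (1505, 0), (1505, 1), (1507, 1), (1510, 0), (1511, 1), (1512, 0), (1514, 0)]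

/-- Table part. -/
def parT10_28 : List (Nat × Nat) := [(1515, 0), (1515, 1), (1516, 1), (1517, 1), (1518, 1), (1519, 1), (1520, 0), (1521, 1), (1522, 1), (1523, 0), (1524, 0), (1524, 1), (1525, 0), (1525, 1), (1526, 0), (1527, 1), (1529, 1), (1530, 0), (1530, 1), (1531, 1), (1532, 1), (1534, 1), (1535, 0), (1535, 1), (1536, 1), (1537, 0), (1538, 0), (1538, 1), (1539, 0), (1539, 1), (1540, 1), (1541, 1), (1542, 1), (1543, 1), (1545, 1), (1546, 0), (1547, 1), (1548, 0), (1549, 0), (1549, 1), (1551, 1), (1554, 0), (1556, 1), (1557, 1), (1558, 1), (1560, 1), (1561, 0), (1561, 1), (1563, 0), (1565, 1), (1567, 1), (1568, 1), (1570, 1), (1571, 0), (1572, 1), (1573, 1), (1574, 0), (1574, 1), (1575, 1), (1577, 1), (1579, 0), (1579, 1), (1580, 1), (1581, 1)]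

/-- Table part. -/
def parT10_29 : List (Nat × Nat) := [(1582, 1), (1583, 0), (1585, 1), (1589, 1), (1590, 1), (1592, 0), (1592, 1), (1593, 1), (1594, 1), (1596, 1), (1598, 1), (1599, 0), (1600, 1), (1601, 0), (1602, 1), (1603, 0), (1604, 1), (1605, 1), (1609, 0), (1610, 0), (1610, 1), (1612, 1), (1614, 1), (1616, 1), (1617, 0), (1618, 0), (1619, 0), (1619, 1), (1621, 1), (1623, 0), (1623, 1), (1625, 1), (1627, 0), (1628, 1), (1629, 0), (1629, 1), (1630, 1), (1631, 1), (1633, 1), (1634, 0), (1636, 0), (1636, 1), (1637, 0), (1638, 1), (1640, 0), (1641, 1), (1648, 0), (1648, 1), (1650, 0), (1650, 1), (1651, 1), (1653, 0), (1653, 1), (1654, 1), (1655, 0), (1656, 0), (1656, 1), (1658, 0), (1660, 1), (1663, 0), (1663, 1), (1664, 0), (1665, 1), (1666, 1)]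

/-- Table part. -/
def parT10_30 : List (Nat × Nat) := [(1667, 1), (1669, 0), (1670, 1), (1672, 1), (1675, 1), (1677, 0), (1677, 1), (1680, 1), (1681, 1), (1682, 1), (1683, 1), (1686, 0), (1687, 1), (1688, 0), (1688, 1), (1689, 1), (1690, 0), (1691, 1), (1693, 1), (1694, 1), (1696, 1), (1697, 0), (1698, 1), (1700, 0), (1700, 1), (1701, 1), (1702, 1), (1703, 1), (1704, 0), (1706, 0), (1707, 0), (1707, 1), (1708, 1), (1709, 0), (1711, 1), (1712, 1), (1713, 0), (1714, 1), (1715, 0), (1716, 1), (1717, 1), (1718, 1), (1719, 0), (1720, 1), (1722, 0), (1724, 0), (1724, 1), (1726, 0), (1727, 1), (1728, 0), (1730, 1), (1732, 0), (1733, 1), (1734, 0), (1735, 0), (1736, 0), (1736, 1), (1739, 1), (1740, 0), (1742, 1), (1743, 0), (1744, 0), (1744, 1), (1745, 1)]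

/-- Table part. -/
def parT10_31 : List (Nat × Nat) := [(1747, 0), (1747, 1), (1751, 0), (1751, 1), (1752, 1), (1753, 0), (1754, 0), (1755, 0), (1756, 1), (1757, 1), (1758, 1), (1761, 0), (1762, 1), (1763, 0), (1764, 0), (1764, 1), (1766, 1), (1768, 0), (1771, 1), (1772, 1), (1773, 1), (1774, 0), (1776, 0), (1778, 1), (1779, 1), (1780, 1), (1782, 1), (1783, 0), (1784, 1), (1785, 0), (1785, 1), (1786, 1), (1788, 1), (1790, 0), (1790, 1), (1791, 1), (1792, 1), (1793, 1), (1794, 0), (1796, 1), (1799, 1), (1801, 0), (1801, 1), (1802, 1), (1803, 1), (1805, 1), (1807, 1), (1809, 0), (1810, 1), (1811, 0), (1812, 1), (1813, 1), (1817, 0), (1817, 1), (1819, 1), (1821, 1), (1825, 1), (1827, 1), (1829, 1), (1830, 1), (1832, 0), (1833, 1), (1834, 1), (1837, 1)]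

/-- Table part. -/
def parT10_32 : List (Nat × Nat) := [(1839, 1), (1844, 0), (1844, 1), (1845, 1), (1848, 0), (1848, 1), (1849, 1), (1851, 1), (1855, 0), (1855, 1), (1856, 1), (1857, 1), (1858, 1), (1859, 0), (1862, 1), (1864, 1), (1866, 1), (1867, 1), (1868, 1), (1870, 1), (1871, 1), (1872, 1), (1873, 0), (1876, 1), (1877, 0), (1878, 1), (1879, 0), (1883, 1), (1884, 0), (1885, 0), (1886, 1), (1888, 0), (1889, 1), (1890, 1), (1894, 0), (1896, 1), (1897, 1), (1898, 0), (1900, 0), (1900, 1), (1901, 1), (1902, 1), (1903, 1), (1904, 0), (1907, 1), (1910, 0), (1913, 0), (1915, 0), (1918, 1), (1919, 0), (1920, 0), (1921, 0), (1923, 0), (1925, 0), (1925, 1), (1926, 1), (1928, 0), (1929, 0), (1929, 1), (1930, 0), (1931, 0), (1936, 0), (1941, 0), (1943, 0)]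

/-- Table part. -/
def parT10_33 : List (Nat × Nat) := [(1946, 0), (1953, 1), (1955, 0), (1961, 0), (1962, 0), (1964, 1), (1965, 1), (1967, 0), (1968, 1), (1969, 0), (1973, 1), (1974, 1), (1975, 1), (1979, 1), (1980, 0), (1980, 1), (1981, 1), (1989, 1), (1992, 1), (1995, 1), (1998, 1), (2000, 0), (2002, 1), (2004, 1), (2006, 1), (2010, 0), (2010, 1), (2013, 0), (2014, 1), (2016, 1), (2020, 0), (2021, 1), (2022, 1), (2023, 1), (2024, 0), (2026, 1), (2030, 1), (2031, 1), (2033, 1), (2034, 1), (2037, 1), (2039, 1), (2040, 0), (2044, 0), (2045, 1), (2047, 0), (2049, 0), (2049, 1), (2050, 1), (2055, 0), (2060, 0), (2065, 0), (2066, 0), (2074, 0), (2078, 1), (2080, 1), (2084, 0), (2087, 1), (2092, 1), (2094, 1), (2095, 1), (2097, 0), (2104, 0), (2114, 0)]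

/-- Table part. -/
def parT10_34 : List (Nat × Nat) := [(2115, 1), (2116, 1), (2122, 1), (2131, 0), (2133, 0), (2135, 0), (2137, 0)]

/-- Table. -/
def parT10 : List (Nat × Nat) := List.flatten [parT10_0, parT10_1, parT10_2, parT10_3, parT10_4, parT10_5, parT10_6, parT10_7, parT10_8, parT10_9, parT10_10, parT10_11, parT10_12, parT10_13, parT10_14, parT10_15, parT10_16, parT10_17, parT10_18, parT10_19, parT10_20, parT10_21, parT10_22, parT10_23, parT10_24, parT10_25, parT10_26, parT10_27, parT10_28, parT10_29, parT10_30, parT10_31, parT10_32, parT10_33, parT10_34]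

/-- Table part. -/
def parT11_0 : List (Nat × Nat) := [(0, 0), (0, 1), (1, 0), (1, 1), (2, 0), (3, 0), (3, 1), (4, 0), (5, 1), (6, 1), (7, 0), (8, 1), (9, 0), (10, 0), (11, 1), (12, 0), (13, 1), (14, 1), (15, 0), (16, 1), (17, 0), (18, 0), (19, 1)]

/-- Table. -/
def parT11 : List (Nat × Nat) := List.flatten [parT11_0]

/-- Table part. -/
def parT12_0 : List (Nat × Nat) := [(0, 0), (0, 1), (1, 0), (1, 1), (2, 0), (2, 1), (3, 0), (3, 1), (4, 0), (4, 1), (5, 1), (6, 0), (7, 1), (8, 0), (8, 1), (9, 1), (10, 0), (11, 0), (11, 1), (12, 1), (13, 0), (13, 1), (14, 1), (15, 0), (16, 0), (16, 1), (17, 1), (18, 1), (19, 0), (20, 0), (20, 1), (21, 1), (22, 0), (23, 0), (23, 1), (24, 1), (25, 1), (26, 0), (27, 0), (27, 1), (28, 0), (28, 1), (29, 1), (30, 1), (31, 0), (32,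 0), (32, 1), (33, 1), (34, 1), (35, 0), (36, 0), (36, 1), (37, 0), (37, 1), (38, 1), (39, 1), (40, 0), (42, 0), (43, 0), (43, 1), (44, 0), (44, 1), (45, 1), (46, 1)]

/-- Table part. -/
def parT12_1 : List (Nat × Nat) := [(47, 0), (48, 0), (48, 1), (49, 0), (49, 1), (50, 1), (51, 1), (52, 0), (54, 0), (55, 0), (55, 1), (56, 0), (56, 1), (57, 1), (58, 1), (59, 1), (60, 0), (62, 0), (63, 0), (64, 0), (64, 1), (65, 1), (66, 1), (67, 0), (69, 0), (70, 0), (70, 1), (71, 0), (71, 1), (72, 1), (73, 1), (74, 1), (75, 0), (77, 0), (78, 0), (79, 1), (80, 0), (80, 1), (81, 1), (82, 1), (83, 1), (85, 0), (86, 0), (86, 1), (87, 0), (87, 1), (88, 1), (89, 1), (90, 1), (91, 0), (93, 0), (94, 0), (95, 1), (96, 0), (96, 1), (97, 1), (98, 1), (99, 1), (100, 0), (104, 1), (105, 1),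 (106, 1), (107, 1), (108, 0)]

/-- Table part. -/
def parT12_2 : List (Nat × Nat) := [(110, 0), (111, 0), (112, 1), (113, 0), (113, 1), (114, 1), (115, 1), (116, 1), (117, 0), (121, 1), (122, 1), (123, 1), (126, 1), (127, 0), (127, 1), (128, 1), (129, 1), (130, 1), (131, 0), (135, 1), (136, 1), (137, 1), (141, 0), (145, 1), (146, 1), (147, 1), (151, 1)]

/-- Table. -/
def parT12 : List (Nat × Nat) := List.flatten [parT12_0, parT12_1, parT12_2]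

/-- Table part. -/
def parT13_0 : List (Nat × Nat) := [(0, 0), (0, 1), (1, 0), (1, 1), (2, 0), (3, 0), (3, 1), (4, 0), (6, 1), (7, 0), (9, 0)]

/-- Table. -/
def parT13 : List (Nat × Nat) := List.flatten [parT13_0]

/-- Table part. -/
def parT14_0 : List (Nat × Nat) := [(0, 0), (0, 1), (1, 0), (1, 1), (2, 0), (2, 1), (3, 0), (3, 1), (4, 0), (4, 1), (5, 1), (6, 0), (7, 1), (8, 0), (8, 1), (9, 1), (11, 0), (11, 1), (12, 1), (13, 0), (14, 1), (16, 1), (19, 0)]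

/-- Table. -/
def parT14 : List (Nat × Nat) := List.flatten [parT14_0]

/-- Table part. -/
def parT15_0 : List (Nat × Nat) := [(0, 0), (0, 1), (1, 0), (1, 1), (2, 0), (3, 0), (3, 1)]

/-- Table. -/
def parT15 : List (Nat × Nat) := List.flatten [parT15_0]

/-- Table part. -/
def parT16_0 : List (Nat × Nat) := [(0, 0), (0, 1), (1, 0), (1, 1), (2, 0), (2, 1), (3, 0), (3, 1), (4, 1), (6, 0), (8, 1)]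

/-- Table. -/
def parT16 : List (Nat × Nat) := List.flatten [parT16_0]

/-- Table part. -/
def parT17_0 : List (Nat × Nat) := [(0, 0), (0, 1), (1, 0), (1, 1), (2, 0), (2, 1), (3, 0), (3, 1), (4, 0), (4, 1), (6, 0), (6, 1), (7, 1), (8, 0), (8, 1), (10, 0), (10, 1), (12, 0), (12, 1), (13, 0), (13, 1), (15, 0), (15, 1), (17, 0), (17, 1), (19, 0), (19, 1), (21, 0), (21, 1), (23, 0), (23, 1), (25, 0), (25, 1), (27, 0), (27, 1), (29, 0), (29, 1), (31, 0), (31, 1), (33, 0), (33, 1), (35, 0), (35, 1), (37, 0), (37, 1), (39, 0), (39, 1), (41, 0), (43, 1), (45, 1), (47, 0)]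

/-- Table. -/
def parT17 : List (Nat × Nat) := List.flatten [parT17_0]

/-- Table part. -/
def parT18_0 : List (Nat × Nat) := [(0, 0), (0, 1), (1, 0), (1, 1), (2, 0), (2, 1), (3, 0), (3, 1), (4, 0), (4, 1), (6, 0), (6, 1), (7, 1), (8, 0), (8, 1), (10, 0), (10, 1), (12, 0), (12, 1), (13, 0), (13, 1), (15, 0), (15, 1), (17, 1), (19, 0), (21, 0), (23, 1)]

/-- Table. -/
def parT18 : List (Nat × Nat) := List.flatten [parT18_0]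

/-- Table part. -/
def parT19_0 : List (Nat × Nat) := [(0, 0), (0, 1), (1, 0), (1, 1), (2, 0), (2, 1), (3, 0), (3, 1), (4, 0), (4, 1), (5, 0), (5, 1), (6, 0), (7, 0), (7, 1), (8, 0), (8, 1), (9, 0), (9, 1), (10, 0), (12, 0), (12, 1), (13, 0), (13, 1), (14, 0), (14, 1), (15, 0), (15, 1), (16, 0), (16, 1), (17, 0), (19, 0), (19, 1), (20, 0), (20, 1), (21, 0), (21, 1), (22, 0), (24, 0), (25, 1), (26, 0), (26, 1), (27, 0), (27, 1), (28, 0), (30, 0), (31, 0), (31, 1), (32, 0), (33, 0), (35, 0), (37, 0), (37, 1), (38, 1), (39, 0), (39, 1), (40, 1), (41, 0), (41, 1), (42, 0), (44, 0), (45, 0), (45, 1), (46, 0)]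

/-- Table part. -/
def parT19_1 : List (Nat × Nat) := [(48, 0), (51, 0), (51, 1), (54, 0), (57, 0), (60, 1), (61, 0), (63, 0), (65, 0), (68, 1), (69, 1), (70, 0), (72, 0)]

/-- Table. -/
def parT19 : List (Nat × Nat) := List.flatten [parT19_0, parT19_1]

/-- Table part. -/
def parT20_0 : List (Nat × Nat) := [(0, 0), (0, 1), (1, 0), (1, 1), (2, 0), (2, 1), (3, 0), (3, 1), (4, 0), (4, 1), (5, 0), (5, 1), (6, 0), (7, 0), (7, 1), (8, 0), (8, 1), (9, 0), (9, 1), (10, 0), (11, 1), (12, 0), (12, 1), (13, 0), (14, 0), (14, 1), (15, 0), (16, 0), (16, 1), (19, 1), (20, 0), (21, 0), (22, 1), (24, 1), (27, 0), (29, 1), (31, 1), (32, 1)]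

/-- Table. -/
def parT20 : List (Nat × Nat) := List.flatten [parT20_0]

/-- Table. -/
def parT : List (List (Nat × Nat)) := [parT0, parT1, parT2, parT3, parT4, parT5, parT6, parT7, parT8, parT9, parT10, parT11, parT12, parT13, parT14, parT15, parT16, parT17, parT18, parT19, parT20]

/-- Table part. -/
def elsT0_0 : List Nat := [2198]

/-- Table. -/
def elsT0 : List Nat := List.flatten [elsT0_0]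

/-- Table part. -/
def elsT1_0 : List Nat := [2198, 325, 26376, 2041]

/-- Table. -/
def elsT1 : List Nat := List.flatten [elsT1_0]

/-- Table part. -/
def elsT2_0 : List Nat := [2198, 326, 26689, 26376, 2053, 4238]

/-- Table. -/
def elsT2 : List Nat := List.flatten [elsT2_0]

/-- Table part. -/
def elsT3_0 : List Nat := [2198, 327, 26848, 24808, 22768, 20728, 18688, 16648, 14608, 12568, 10528, 8488, 6435]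

/-- Table. -/
def elsT3 : List Nat := List.flatten [elsT3_0]

/-- Table part. -/
def elsT4_0 : List Nat := [2198, 328, 27009, 23395, 12405, 11623, 22295, 26376, 2051, 3931, 7545, 18535, 19317, 8632]

/-- Table. -/
def elsT4 : List Nat := List.flatten [elsT4_0]

/-- Table part. -/
def elsT5_0 : List Nat := [2198, 329, 27159, 20258, 24961, 20098, 26376, 2050, 3781, 10682, 5979, 10829]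

/-- Table. -/
def elsT5 : List Nat := List.flatten [elsT5_0]

/-- Table part. -/
def elsT6_0 : List Nat := [2198, 332, 27634, 14759, 9587, 20890, 17420]

/-- Table. -/
def elsT6 : List Nat := List.flatten [elsT6_0]

/-- Table part. -/
def elsT7_0 : List Nat := [2198, 336, 28252, 5040, 23548, 9744, 18844, 14448, 14140, 19152, 9436, 23856, 4719, 26376, 2043, 2688, 25900, 7392, 21196, 12096, 16492, 16800, 11788, 21504, 7084, 26208]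

/-- Table. -/
def elsT7 : List Nat := List.flatten [elsT7_0]

/-- Table part. -/
def elsT8_0 : List Nat := [2198, 337, 28405]

/-- Table. -/
def elsT8 : List Nat := List.flatten [elsT8_0]

/-- Table part. -/
def elsT9_0 : List Nat := [2198, 26376]

/-- Table. -/
def elsT9 : List Nat := List.flatten [elsT9_0]

/-- Table part. -/
def elsT10_0 : List Nat := [2198, 325, 326, 26376, 26545, 26532, 26689, 2041, 2053, 28405, 26389, 2052, 28404, 4226, 2211, 4238, 4057, 2042, 2224, 4263, 4081, 2522, 2354, 327, 2367, 4719, 6579, 4383, 328, 2381, 4577, 6435, 26714, 337, 26519, 26677, 26859, 26883, 2703, 2521, 2341, 26506, 26665, 26848, 27029, 2536, 26208, 24361, 26557, 2051, 28559, 26363, 24492, 24011, 22333, 24698, 26725, 336, 2050, 28545, 26336, 24467, 24153, 22452]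

/-- Table part. -/
def elsT10_1 : List Nat := [24831, 3888, 28237, 28419, 26402, 2237, 4275, 4092, 3911, 28235, 3719, 25871, 23856, 22177, 26235, 24386, 26569, 2250, 4287, 4103, 3921, 28389, 3741, 26024, 23997, 22295, 6916, 8607, 6242, 4215, 2043, 329, 2395, 4604, 6473, 6787, 8488, 6109, 9113, 10635, 8101, 5905, 28069, 4047, 28252, 28433, 26415, 330, 2409, 4631, 6498, 6827, 8525, 6132, 8997, 10528, 7979, 5770, 28066, 27052, 5069, 7084, 8763, 4705]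

/-- Table part. -/
def elsT10_2 : List Nat := [6554, 4371, 26493, 26653, 26837, 27019, 2551, 27199, 4916, 6943, 8632, 27221, 7435, 11647, 12988, 11465, 12807, 8258, 6889, 8570, 6219, 4204, 2044, 26480, 26641, 26826, 27009, 2566, 27190, 4945, 6984, 8683, 27369, 7296, 11533, 12895, 11350, 12713, 8137, 21814, 20305, 22839, 25035, 2871, 26893, 2688, 2507, 2328, 2049, 28531, 26309, 24442, 24113, 22415, 24808, 21943, 20412, 22961, 25170, 2705, 19617, 18277, 20980, 23345]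

/-- Table part. -/
def elsT10_3 : List Nat := [5406, 25372, 7589, 9436, 10947, 27061, 5040, 7043, 8725, 4678, 6529, 4359, 2048, 28517, 26282, 24417, 24073, 22378, 24785, 21890, 20363, 22927, 25149, 2721, 19733, 18372, 21091, 23470, 5255, 25509, 7451, 9309, 10829, 3550, 23505, 19293, 17952, 19475, 18133, 22682, 24051, 22370, 24721, 26736, 335, 2263, 4299, 4114, 3931, 28374, 3750, 25995, 23956, 22257, 3571, 23644, 19407, 18045, 19590, 18227, 22803, 3381, 21139, 14730]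

/-- Table part. -/
def elsT10_4 : List Nat := [13727, 12715, 11880, 18795, 15094, 14089, 18975, 23187, 3039, 21867, 20354, 22873, 25056, 2855, 26903, 2673, 2493, 2315, 2276, 4311, 4125, 3941, 28359, 3759, 25966, 23915, 22219, 3579, 23601, 19339, 17982, 19523, 18165, 22768, 3401, 21264, 14817, 13795, 12790, 11937, 18893, 15183, 14159, 19074, 23311, 2874, 11310, 12663, 9960, 7595, 25534, 5568, 23351, 21504, 19993, 3879, 25900, 23897, 22215, 26262, 24411, 26581, 331, 2423]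

/-- Table part. -/
def elsT10_5 : List Nat := [4658, 6523, 6867, 8562, 6155, 9050, 10577, 8013, 5791, 28219, 11207, 12568, 9849, 7470, 25685, 5431, 23489, 21631, 20098, 13507, 14691, 11819, 9285, 22999, 7089, 18450, 14575, 13571, 5231, 18633, 12405, 11568, 14939, 13933, 20666, 3711, 23548, 19361, 18015, 19542, 18195, 22717, 24091, 22407, 24744, 26747, 334, 332, 2437, 4685, 6548, 6907, 8599, 6178, 9103, 10626, 8047, 5812, 28203, 11273, 12629, 9894, 7501, 25654]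

/-- Table part. -/
def elsT10_6 : List Nat := [5450, 23445, 21576, 20047, 13417, 14608, 11719, 9170, 23135, 6961, 18559, 14661, 13638, 5092, 18743, 12478, 11623, 15027, 14002, 20775, 27390, 9801, 16210, 17213, 18225, 19060, 12145, 15846, 16851, 11965, 7753, 27901, 9073, 10586, 8067, 5884, 28085, 4037, 28267, 28447, 26428, 26467, 26629, 26815, 26999, 2581, 27181, 4974, 7025, 8721, 27361, 7339, 11601, 12958, 11417, 12775, 8172, 27539, 9676, 16123, 17145, 18150, 19003, 12047]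

/-- Table part. -/
def elsT10_7 : List Nat := [15757, 16781, 11866, 7629, 27897, 27559, 12167, 20773, 21438, 24985, 25313, 16032, 24803, 25132, 17711, 11302, 25197, 20227, 20895, 15672, 11123, 22846, 7248, 20831, 19152, 17809, 11257, 12602, 9915, 7564, 25565, 5549, 23395, 21559, 20044, 3870, 25929, 23938, 22253, 26289, 24436, 26593, 26454, 26617, 26804, 26976, 2596, 27159, 5003, 7066, 8759, 27340, 7382, 11500, 12852, 11484, 12837, 8207, 27532, 9733, 16218, 17233, 18088, 18933]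

/-- Table part. -/
def elsT10_8 : List Nat := [12105, 15850, 16867, 11923, 7661, 28049, 27709, 12056, 20713, 21395, 24950, 25293, 15957, 24767, 25111, 17646, 11199, 25346, 20164, 20849, 15595, 11019, 22981, 7121, 20954, 19265, 17901, 17420, 16249, 19121, 21655, 7941, 23851, 12490, 16365, 17369, 25709, 12307, 18535, 19372, 16001, 17007, 10274, 27229, 7392, 11579, 12925, 11398, 12745, 8223, 6849, 8533, 6196, 4193, 2045, 2047, 28503, 26255, 24392, 24033, 22341, 24762, 21837, 20314]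

/-- Table part. -/
def elsT10_9 : List Nat := [22880, 25128, 2737, 19667, 18311, 21046, 23426, 5286, 25490, 7495, 9364, 10893, 17523, 16332, 19221, 21770, 7805, 23979, 12381, 16279, 17302, 25848, 12197, 18462, 19317, 15913, 16938, 10165, 15223, 14221, 17262, 17768, 10476, 20133, 17391, 23294, 23791, 22160, 19574, 1466, 1458, 27324, 27485, 16189, 26046, 17025, 27634, 27797, 920, 915, 18025, 22566, 23067, 15829, 9601, 27733, 27397, 9744, 16115, 17125, 18118, 18961, 12087, 15753]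

/-- Table part. -/
def elsT10_10 : List Nat := [16765, 11895, 7721, 27918, 9020, 10537, 8033, 5850, 28101, 4027, 28282, 28461, 26441, 2046, 28489, 26228, 24367, 24162, 22473, 24726, 21953, 20434, 25094, 2753, 19770, 18419, 20988, 5304, 25458, 7539, 9419, 10944, 17444, 16259, 21716, 7851, 12441, 16375, 25818, 12269, 18571, 19418, 16007, 10212, 15313, 14292, 17351, 17873, 10355, 20252, 17311, 23249, 23762, 22291, 19507, 1461, 27303, 27478, 26187, 16943, 27615, 27792, 912, 17962]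

/-- Table part. -/
def elsT10_11 : List Nat := [22517, 23034, 9488, 27728, 3212, 18773, 10167, 9502, 5955, 5627, 14908, 6137, 5808, 11032, 19638, 5743, 10713, 10045, 15268, 17620, 8094, 23692, 10109, 11788, 13131, 19683, 18338, 21025, 23376, 5375, 25391, 7545, 9381, 10896, 27070, 5011, 7002, 8687, 4651, 6504, 4347, 2289, 4323, 4136, 3964, 28344, 3781, 25937, 23874, 22181, 3600, 23558, 19271, 17919, 19456, 18103, 22733, 3408, 21207, 14722, 13707, 12683, 11838, 18835]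

/-- Table part. -/
def elsT10_12 : List Nat := [15090, 14073, 19017, 23279, 2891, 3231, 18884, 10227, 9545, 5990, 5647, 14983, 6173, 5829, 11097, 19741, 5594, 10776, 10091, 15345, 17724, 7959, 23819, 9986, 11675, 13026, 3043, 16407, 5604, 5277, 27756, 27935, 8824, 25741, 26088, 13892, 8447, 28120, 28297, 5466, 11136, 18284, 17545, 21083, 21750, 6332, 6001, 14250, 13149, 17685, 25605, 22000, 17179, 25423, 25756, 20537, 12290, 17499, 16322, 19177, 21709, 7895, 23892, 12417]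

/-- Table part. -/
def elsT10_13 : List Nat := [16269, 17280, 25739, 12235, 18426, 15907, 16920, 27237, 7349, 11511, 12862, 11331, 8188, 6809, 8496, 4182, 2302, 4335, 4147, 3974, 28329, 3790, 25921, 23833, 22143, 3608, 23528, 19558, 18210, 22685, 3428, 21163, 14796, 13788, 18764, 15166, 14156, 18947, 23234, 2908, 3237, 18813, 6012, 5680, 14889, 10993, 19675, 10657, 9981, 15253, 17659, 8006, 23777, 11744, 13103, 3061, 16504, 5637, 5295, 27751, 8876, 25724, 26060, 13974]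

/-- Table part. -/
def elsT10_14 : List Nat := [8314, 28117, 5498, 18392, 17466, 6369, 6023, 14334, 13044, 25574, 22130, 17098, 20476, 12193, 15704, 16719, 13678, 13172, 20464, 10807, 13549, 7646, 7149, 8780, 11366, 913, 921, 3616, 3455, 14751, 4894, 13915, 3306, 3143, 1459, 1464, 12915, 8374, 7873, 15111, 21339, 3207, 3543, 21196, 14825, 13815, 12822, 11979, 18853, 15187, 14175, 19032, 23219, 3022, 21920, 20403, 22907, 25077, 2839, 26913, 2658, 2479, 333, 2451]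

/-- Table part. -/
def elsT10_15 : List Nat := [4712, 6573, 6778, 8467, 6201, 8987, 10506, 5846, 28187, 11170, 12521, 9952, 25623, 5482, 23401, 21521, 19996, 13496, 14681, 9224, 23089, 18486, 14565, 5109, 18671, 12369, 11522, 14933, 20728, 15627, 16648, 13589, 13067, 20585, 10688, 13629, 7691, 7178, 8649, 11433, 918, 3637, 3462, 4753, 13997, 3325, 3148, 1467, 12978, 8423, 7906, 21452, 18747, 15537, 14862, 17929, 12328, 10845, 717, 727, 10132, 6296, 20854, 21538]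

/-- Table part. -/
def elsT10_16 : List Nat := [6639, 8274, 6479, 15812, 16832, 916, 21218, 21900, 3281, 13734, 6080, 4557, 9197, 16540, 17556, 2967, 1456, 12065, 1809, 1813, 7359, 14092, 10782, 19815, 14140, 15315, 3375, 18844, 10289, 9615, 5933, 14989, 6114, 5774, 19704, 5710, 10663, 15360, 23734, 10050, 19749, 18399, 23420, 5344, 9326, 27079, 4982, 4624, 2465, 4570, 6429, 6818, 8504, 6237, 9040, 10568, 5867, 28171, 11236, 12595, 9828, 5501, 23370, 21466]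

/-- Table part. -/
def elsT10_17 : List Nat := [19945, 13406, 14598, 9278, 23056, 14638, 5139, 18612, 12429, 11590, 15008, 20681, 15550, 16564, 13669, 10738, 13540, 7723, 7220, 910, 3645, 3482, 4781, 13897, 3331, 3166, 1462, 12872, 8290, 7783, 21409, 17837, 18688, 15459, 14780, 18035, 12231, 721, 718, 10022, 6320, 20808, 21483, 6678, 8140, 15736, 16749, 21174, 21847, 3300, 4414, 9251, 16468, 17477, 2984, 12136, 1819, 1810, 7402, 19932, 14041, 14533, 25336, 25663]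

/-- Table part. -/
def elsT10_18 : List Nat := [3184, 3005, 19919, 5199, 4852, 17048, 22493, 2820, 2643, 25474, 17607, 12656, 13395, 9857, 9190, 24608, 24939, 16690, 17791, 11058, 5335, 6743, 13761, 5517, 5184, 10403, 18650, 13441, 14618, 11763, 9231, 23045, 7048, 18523, 14671, 13660, 5201, 18705, 12345, 15033, 14020, 3703, 23591, 19429, 18078, 19440, 22752, 24131, 22444, 26758, 26605, 26780, 26966, 2611, 27150, 5019, 6938, 8628, 27332, 7412, 11382, 12730, 8242, 27512]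

/-- Table part. -/
def elsT10_19 : List Nat := [9777, 16144, 17152, 12007, 15774, 16784, 11993, 7706, 28032, 27690, 12127, 24928, 25260, 16051, 17581, 11265, 20114, 20790, 15687, 11084, 22934, 7150, 19196, 27879, 14436, 25303, 25645, 3189, 19867, 5216, 4880, 16966, 22626, 2823, 25442, 12548, 13474, 24571, 24917, 16606, 17896, 5366, 6613, 13842, 10464, 16899, 1338, 1327, 9944, 9258, 26003, 15330, 20597, 19789, 15149, 4518, 15867, 8156, 562, 571, 9398, 10912, 25816, 12214]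

/-- Table part. -/
def elsT10_20 : List Nat := [17672, 11813, 15657, 16676, 23078, 10707, 428, 422, 25283, 15498, 20079, 20758, 16385, 17400, 8435, 6691, 20443, 21120, 18595, 4838, 1654, 1657, 19491, 15625, 16634, 13598, 13108, 20525, 10757, 7614, 7107, 8742, 11468, 3435, 14833, 4866, 3125, 8338, 7827, 15204, 3523, 21253, 12760, 11909, 18924, 23264, 21804, 20283, 22954, 26923, 26769, 26956, 2613, 27141, 5048, 6979, 8666, 7286, 11449, 12792, 8121, 27505, 9665, 16057]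

/-- Table part. -/
def elsT10_21 : List Nat := [17071, 16883, 11894, 7738, 28015, 27684, 12016, 24906, 25240, 15976, 11162, 20233, 20913, 15610, 11149, 22900, 7192, 19127, 17773, 27861, 14508, 25614, 5077, 4739, 17066, 22590, 12622, 13384, 24547, 24882, 16704, 17832, 5384, 6652, 13741, 10343, 16816, 1332, 1334, 9820, 9143, 25974, 14057, 15238, 20549, 19906, 13874, 15056, 4544, 15791, 8191, 565, 561, 9440, 10963, 25786, 12273, 11700, 3799, 15580, 16592, 417, 424, 25250]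

/-- Table part. -/
def elsT10_22 : List Nat := [15420, 3489, 20028, 20698, 16312, 17320, 8302, 6730, 20394, 21062, 1663, 1653, 19593, 13206, 16078, 13011, 20095, 1662, 1652, 24644, 10086, 9402, 22104, 22666, 24461, 15128, 14108, 1463, 9722, 27659, 17206, 24860, 24186, 21743, 14400, 27973, 18875, 570, 566, 23581, 16835, 20158, 8928, 16800, 27565, 12096, 20651, 21325, 25007, 15938, 24826, 25166, 25230, 20277, 7206, 20890, 11191, 12541, 7520, 25596, 21614, 3848, 25958, 26316]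

/-- Table part. -/
def elsT10_23 : List Nat := [28475, 26201, 24342, 24122, 22436, 24703, 20372, 25073, 2756, 18345, 21099, 25439, 7570, 9305, 10826, 17534, 16342, 21662, 7884, 16289, 25801, 18511, 19350, 15932, 10259, 15221, 14207, 17271, 20189, 23217, 23720, 27295, 27458, 26159, 17030, 27609, 27774, 917, 18068, 22481, 22988, 9531, 12252, 13284, 16160, 12905, 18709, 1658, 1661, 20918, 24620, 9457, 22065, 22800, 14191, 9766, 9093, 27640, 24329, 21689, 14472, 13463, 27956, 18804]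

/-- Table part. -/
def elsT10_24 : List Nat := [560, 569, 23538, 8811, 11347, 14388, 13349, 17091, 24996, 8591, 8074, 3350, 19880, 1655, 5533, 425, 419, 25771, 10928, 22614, 21987, 23172, 10682, 10004, 15298, 1468, 21353, 27820, 14412, 16026, 4809, 24523, 24264, 16086, 1335, 1337, 28136, 19146, 19712, 7135, 6626, 24082, 24656, 10439, 8889, 14448, 25187, 25525, 3001, 19802, 5169, 4824, 16961, 22529, 2804, 2628, 25493, 13485, 9812, 9136, 24632, 24961, 17855, 6704]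

/-- Table part. -/
def elsT10_25 : List Nat := [13849, 5154, 13362, 14545, 11694, 7007, 18583, 13580, 14958, 13938, 3682, 23621, 19328, 17972, 24002, 22312, 26343, 24486, 22386, 24680, 20323, 25039, 2772, 21054, 25407, 7445, 9347, 10877, 17455, 21777, 7917, 18438, 19282, 10150, 14278, 17360, 20139, 23678, 27274, 27451, 26131, 27590, 922, 17992, 23124, 9587, 13167, 12311, 13193, 12968, 20872, 24583, 9343, 22026, 9654, 8977, 24303, 21635, 13373, 27939, 18902, 563, 559, 23495]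

/-- Table part. -/
def elsT10_26 : List Nat := [8863, 11401, 14460, 13258, 8459, 7952, 3356, 19828, 1651, 21597, 5552, 427, 421, 10979, 22578, 22117, 23296, 10732, 15375, 20621, 21297, 10617, 27815, 14484, 24668, 24238, 16181, 1329, 1331, 19246, 19646, 5700, 7164, 6665, 24042, 14854, 10331, 8941, 5901, 1041, 1052, 20996, 21682, 4937, 8954, 24225, 15073, 22784, 1817, 1808, 21542, 5124, 18726, 11071, 15283, 14264, 7862, 1951, 1957, 5657, 13245, 10861, 10182, 14555]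

/-- Table part. -/
def elsT10_27 : List Nat := [22505, 22052, 10497, 12176, 26102, 725, 722, 14306, 17329, 10415, 20183, 23157, 23664, 22198, 19472, 16094, 26074, 22602, 23113, 27404, 9687, 18180, 19031, 7676, 8967, 10488, 7986, 4004, 4171, 3984, 28314, 25892, 23961, 22274, 23654, 18135, 22650, 21275, 14714, 13700, 19046, 23202, 2912, 3256, 6034, 14964, 19609, 10027, 17594, 8040, 23748, 3079, 16419, 5326, 25694, 26032, 8350, 18318, 6393, 6045, 14236, 25556, 22091, 17186]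

/-- Table part. -/
def elsT10_28 : List Nat := [14124, 1047, 1045, 21797, 4953, 15702, 10391, 8837, 15884, 24199, 22749, 1814, 1818, 21500, 19977, 18667, 19227, 14348, 1962, 1955, 5690, 13323, 10242, 14628, 13620, 22638, 22013, 10546, 9878, 716, 726, 25388, 13232, 1050, 7329, 4597, 11658, 16620, 1659, 8915, 10427, 24559, 2946, 1812, 13956, 4795, 3084, 11006, 12357, 13021, 23706, 24277, 1950, 14424, 13219, 8239, 9503, 3674, 3509, 23010, 3821, 9474, 8798, 719]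

/-- Table part. -/
def elsT10_29 : List Nat := [13297, 16152, 12935, 1656, 21974, 22701, 15052, 14038, 27665, 17118, 24212, 27977, 567, 23611, 20208, 27584, 12025, 21381, 25018, 20936, 11294, 12636, 7476, 3839, 3994, 28312, 25863, 23920, 22236, 18242, 14788, 13768, 18989, 2929, 3275, 6069, 5720, 14883, 17698, 13062, 16516, 25833, 26173, 8386, 18257, 6417, 14320, 1040, 1051, 16984, 15795, 24173, 1811, 1815, 19171, 27119, 1960, 1953, 27431, 13531, 10595, 9923, 720, 25356]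

/-- Table part. -/
def elsT10_30 : List Nat := [13310, 1043, 11544, 16705, 10319, 24535, 2963, 2788, 13869, 4810, 3102, 17878, 13085, 13336, 26116, 24251, 1961, 21017, 14496, 9559, 3516, 23146, 564, 3830, 9517, 8850, 723, 12698, 16552, 15394, 5944, 22349, 22866, 724, 1954, 20012, 8326, 6756, 7768, 20258, 15642, 911, 3107, 16528, 14914, 4479, 1044, 1042, 11794, 11228, 23805, 6858, 6284, 20488, 19854, 16492, 5584, 5246, 13979, 8398, 5434, 20959, 6308, 5979]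

/-- Table part. -/
def elsT10_31 : List Nat := [22039, 17409, 16226, 15982, 17002, 27258, 7306, 11612, 6769, 6454, 8541, 6091, 28168, 9886, 23326, 21580, 20063, 9163, 12502, 16662, 10801, 7262, 3653, 1457, 7816, 18616, 15381, 10068, 6344, 6717, 21286, 21963, 4440, 17567, 1816, 1807, 7276, 19526, 16480, 15485, 22819, 715, 1952, 1958, 19961, 8362, 7631, 15565, 16456, 6272, 4505, 14759, 1048, 23776, 22078, 6898, 20609, 16444, 26946, 13452, 10379, 9629, 24316, 20683]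

/-- Table part. -/
def elsT10_32 : List Nat := [24871, 919, 4401, 6260, 13271, 20452, 21128, 12575, 15888, 19893, 20573, 1046, 21723, 4908, 8902, 5107, 14362, 1959, 10304, 22554, 26117, 14222, 17240, 10367, 27424, 9643, 19088, 9083, 5753, 28152, 23464, 9204, 12393, 20743, 16578, 1465, 15472, 10114, 6381, 21229, 21910, 4466, 17488, 16395, 15407, 1956, 10197, 4531, 25207, 20561, 15132, 1049, 15511, 14376, 26145, 24290, 20636, 20813, 24511, 24849, 17814, 27856, 4427, 17172]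

/-- Table part. -/
def elsT10_33 : List Nat := [9030, 19841, 20513, 27994, 17737, 17750, 7234, 416, 15524, 21424, 27266, 19776, 1660, 15446, 6600, 15719, 16733, 13822, 18291, 27101, 8704, 11951, 28011, 11045, 4767, 12514, 1326, 1328, 568, 11769, 426, 20332, 5415, 15433, 1336, 19383, 6405, 16902, 27838, 4492, 418, 7794, 27110, 21423, 9573, 21185, 19102, 17633, 18474, 423, 9755, 5922, 4453, 11738, 12466, 11852, 11110, 1333, 11669, 1330, 13126, 420, 21367, 19202]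

/-- Table part. -/
def elsT10_34 : List Nat := [21311, 10244, 1460, 18365, 21857, 18547, 914, 9698]

/-- Table. -/
def elsT10 : List Nat := List.flatten [elsT10_0, elsT10_1, elsT10_2, elsT10_3, elsT10_4, elsT10_5, elsT10_6, elsT10_7, elsT10_8, elsT10_9, elsT10_10, elsT10_11, elsT10_12, elsT10_13, elsT10_14, elsT10_15, elsT10_16, elsT10_17, elsT10_18, elsT10_19, elsT10_20, elsT10_21, elsT10_22, elsT10_23, elsT10_24, elsT10_25, elsT10_26, elsT10_27, elsT10_28, elsT10_29, elsT10_30, elsT10_31, elsT10_32, elsT10_33, elsT10_34]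

/-- Table part. -/
def elsT11_0 : List Nat := [2198, 325, 416, 26376, 13193, 24173, 2041, 1950, 1040, 1651, 15381, 4401, 21974, 8798, 1326, 715, 1807, 1456, 6600, 19776, 17581, 10993, 559, 910]

/-- Table. -/
def elsT11 : List Nat := List.flatten [elsT11_0]

/-- Table part. -/
def elsT12_0 : List Nat := [2198, 325, 417, 26376, 13362, 24329, 26780, 2041, 1962, 27404, 13206, 1655, 26201, 17409, 4414, 4147, 22650, 1041, 8915, 6069, 16867, 3523, 15537, 724, 4570, 21580, 26173, 23067, 1458, 9163, 12269, 21424, 8121, 1338, 19828, 24871, 14073, 17919, 6381, 17179, 22026, 11136, 21286, 28069, 7382, 10319, 9347, 4767, 7873, 921, 21777, 18671, 9503, 25623, 27266, 2551, 19574, 1811, 12622, 8763, 19088, 20314, 25871, 5184]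

/-- Table part. -/
def elsT12_1 : List Nat := [12852, 24559, 13761, 6717, 17607, 9654, 2871, 23558, 20452, 19712, 24467, 27110, 5808, 2395, 19418, 5501, 16312, 12466, 8607, 20158, 5304, 3674, 28389, 11366, 568, 18318, 22177, 11852, 10626, 5069, 25756, 15867, 14958, 21910, 26665, 8006, 23819, 18804, 9915, 20713, 2963, 27665, 11228, 6473, 3830, 25132, 28545, 11522, 25439, 14628, 18474, 22333, 10782, 26913, 7676, 19221, 16115, 15375, 19961, 8423, 25283, 7520, 15073, 15982]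

/-- Table part. -/
def elsT12_2 : List Nat := [9030, 4275, 22934, 7121, 12136, 21025, 10227, 27977, 3275, 24131, 17271, 14334, 18180, 4027, 23264, 11719, 14825, 15565, 10979, 22517, 5657, 23420, 16468, 6809, 13669, 16606, 12760, 14472]

/-- Table. -/
def elsT12 : List Nat := List.flatten [elsT12_0, elsT12_1, elsT12_2]

/-- Table part. -/
def elsT13_0 : List Nat := [2198, 325, 559, 26376, 8798, 21974, 2041, 1807, 715, 19776, 6600, 1651]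

/-- Table. -/
def elsT13 : List Nat := List.flatten [elsT13_0]

/-- Table part. -/
def elsT14_0 : List Nat := [2198, 325, 560, 26376, 8967, 22130, 26923, 2041, 1819, 27079, 8811, 716, 24002, 21804, 6613, 4004, 6769, 19932, 7329, 20323, 3848, 1663, 10617, 23611]

/-- Table. -/
def elsT14 : List Nat := List.flatten [elsT14_0]

/-- Table part. -/
def elsT15_0 : List Nat := [2198, 325, 910, 26376, 10993, 17581, 2041, 1456]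

/-- Table. -/
def elsT15 : List Nat := List.flatten [elsT15_0]

/-- Table part. -/
def elsT16_0 : List Nat := [2198, 325, 911, 26376, 11162, 17737, 27274, 2041, 1468, 11006, 19609, 3653]

/-- Table. -/
def elsT16 : List Nat := List.flatten [elsT16_0]

/-- Table part. -/
def elsT17_0 : List Nat := [2198, 325, 912, 26376, 11331, 17724, 28187, 2041, 1467, 25077, 22493, 8759, 24535, 19440, 11019, 2753, 23791, 5107, 26145, 23249, 5850, 8447, 22181, 6405, 20139, 16269, 14983, 21963, 7149, 25833, 4795, 7691, 18853, 27431, 3821, 18311, 10801, 14671, 15957, 8977, 17567, 10045, 21207, 17025, 12087, 3509, 27119, 12629, 13915, 13373, 20895, 9733]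

/-- Table. -/
def elsT17 : List Nat := List.flatten [elsT17_0]

/-- Table part. -/
def elsT18_0 : List Nat := [2198, 325, 913, 26376, 11500, 17711, 26736, 2041, 1466, 22880, 5770, 26262, 22160, 19271, 11032, 4204, 11350, 3600, 28120, 11170, 8047, 25170, 4678, 8780, 2820, 27340, 19590, 19770]

/-- Table. -/
def elsT18 : List Nat := List.flatten [elsT18_0]

/-- Table part. -/
def elsT19_0 : List Nat := [2198, 326, 560, 26689, 9020, 22638, 26923, 26376, 10657, 27237, 8863, 22078, 27640, 22312, 2053, 1819, 4781, 12698, 18399, 15829, 717, 14348, 5184, 26316, 18633, 4238, 21920, 8302, 4004, 24882, 18947, 6979, 25756, 19350, 20597, 7382, 17466, 26159, 20831, 15672, 20114, 3703, 19880, 6665, 3300, 8459, 11590, 25039, 19507, 10109, 7539, 20988, 6045, 11993, 25442, 27797,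 10343, 18242, 12541, 15111, 1662, 16592, 4624, 12307]

/-- Table part. -/
def elsT19_1 : List Nat := [23401, 5498, 13788, 5901, 14191, 23961, 23558, 13474, 15268, 16749, 17152, 11433, 9952, 3143]

/-- Table. -/
def elsT19 : List Nat := List.flatten [elsT19_0, elsT19_1]

/-- Table part. -/
def elsT20_0 : List Nat := [2198, 327, 571, 26848, 10928, 22999, 28171, 24808, 19088, 2611, 19854, 17048, 26131, 7614, 22768, 27079, 12968, 13734, 25039, 17814, 1663, 24091, 5743, 12568, 15774, 20728, 6691, 20959, 4651, 11694, 10528, 9654, 3703, 6435, 18688, 15008, 8488, 16648, 14608]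

/-- Table. -/
def elsT20 : List Nat := List.flatten [elsT20_0]

/-- Table. -/
def elsT : List (List Nat) := [elsT0, elsT1, elsT2, elsT3, elsT4, elsT5, elsT6, elsT7, elsT8, elsT9, elsT10, elsT11, elsT12, elsT13, elsT14, elsT15, elsT16, elsT17, elsT18, elsT19, elsT20]

/-- Steps from class 0, part. -/
def step0_0 : List (Nat × Nat × Nat × List (List Nat) × List (List Nat)) :=
  [(325, 1, 325, [[0]], [[0]]),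
    (326, 2, 326, [[0]], [[0]]),
    (327, 3, 327, [[0]], [[0]]),
    (328, 4, 328, [[0]], [[0]]),
    (329, 5, 329, [[0]], [[0]]),
    (330, 4, 2395, [[0, 0, 0, 0, 0]], [[0, 0, 0]]),
    (331, 4, 426, [[0, 0, 0, 0, 0, 0, 0, 0, 0, 0, 0]], [[0, 0, 0, 0, 0, 0, 0, 0, 0]]),
    (332, 6, 332, [[0]], [[0]]),
    (333, 6, 3741, [[0, 0, 0, 0]], [[0, 0]]),
    (334, 5, 325, [[0, 0, 0, 0, 0]], [[0, 0, 0, 0, 0]]),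
    (335, 6, 718, [[0, 0, 0, 0, 0]], [[0, 0, 0]]),
    (336, 7, 336, [[0]], [[0]]),
    (337, 8, 337, [[0]], [[0]]),
    (416, 1, 2451, [[0]], [[0]]),
    (417, 2, 5216, [[0]], [[0]]),
    (418, 3, 333, [[0, 0, 0, 0, 0, 0, 0]], [[0, 0]]),
    (419, 4, 2658, [[0, 0, 0, 0, 0, 0, 0, 0, 0, 0, 0, 0, 0]], [[0, 0, 0, 0, 0, 0, 0, 0, 0, 0, 0, 0, 0]]),
    (420, 5, 3984, [[0, 0, 0, 0, 0, 0, 0, 0, 0, 0, 0]], [[0, 0, 0, 0, 0, 0, 0, 0, 0, 0, 0]]),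
    (421, 4, 722, [[0, 0, 0, 0, 0, 0, 0, 0, 0]], [[0, 0, 0, 0, 0, 0, 0, 0, 0, 0, 0]]),
    (422, 4, 2381, [[0, 0, 0]], [[0, 0, 0, 0, 0]]),
    (423, 6, 3750, [[0]], [[0]]),
    (424, 6, 425, [[0, 0, 0, 0]], [[0, 0]]),
    (425, 5, 3964, [[0, 0, 0, 0, 0, 0, 0]], [[0, 0, 0, 0, 0, 0, 0]]),
    (426, 6, 2628, [[0, 0, 0, 0, 0]], [[0, 0, 0]]),
    (427, 7, 330, [[0, 0, 0, 0, 0, 0, 0]], [[0, 0, 0, 0, 0, 0, 0, 0, 0, 0, 0, 0, 0, 0, 0]]),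
    (428, 8, 5549, [[0]], [[0]]),
    (559, 1, 715, [[0]], [[0]]),
    (560, 2, 725, [[0]], [[0]]),
    (561, 3, 335, [[0, 0, 0, 0, 0, 0, 0, 0, 0]], [[0, 0, 0]]),
    (562, 4, 719, [[0]], [[0]]),
    (563, 5, 716, [[0]], [[0]]),
    (564, 4, 2643, [[0, 0, 0, 0, 0, 0, 0, 0, 0]], [[0, 0, 0, 0, 0, 0, 0, 0, 0, 0, 0]]),
    (565, 4, 334, [[0, 0, 0]], [[0, 0, 0, 0, 0]]),
    (566, 6, 720, [[0]], [[0]]),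
    (567, 6, 2643, [[0, 0, 0, 0]], [[0, 0]]),
    (568, 5, 715, [[0, 0, 0, 0, 0]], [[0, 0, 0, 0, 0]]),
    (569, 6, 420, [[0, 0]], [[0, 0, 0, 0]]),
    (570, 7, 328, [[0, 0, 0, 0, 0, 0, 0, 0, 0]], [[0, 0, 0]]),
    (571, 8, 718, [[0]], [[0]]),
    (715, 1, 416, [[0]], [[0]]),
    (716, 2, 423, [[0]], [[0]]),
    (717, 3, 336, [[0, 0, 0, 0, 0, 0, 0, 0, 0, 0]], [[0, 0, 0, 0]]),
    (718, 4, 424, [[0]], [[0]]),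
    (719, 5, 418, [[0]], [[0]]),
    (720, 4, 2820, [[0, 0, 0, 0, 0, 0, 0, 0, 0]], [[0, 0, 0, 0, 0, 0, 0, 0, 0, 0, 0]]),
    (721, 4, 720, [[0, 0, 0, 0, 0, 0, 0, 0, 0, 0, 0]], [[0, 0, 0, 0, 0, 0, 0, 0, 0]]),
    (722, 6, 426, [[0]], [[0]]),
    (723, 6, 2721, [[0, 0, 0]], [[0, 0, 0, 0, 0]]),
    (724, 5, 416, [[0, 0, 0, 0, 0]], [[0, 0, 0, 0, 0]]),
    (725, 6, 333, [[0, 0]], [[0, 0, 0, 0]]),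
    (726, 7, 327, [[0, 0, 0, 0, 0, 0, 0, 0, 0, 0, 0, 0, 0, 0, 0, 0, 0, 0, 0, 0, 0, 0, 0]], [[0, 0, 0, 0, 0, 0, 0, 0, 0, 0, 0, 0, 0, 0, 0, 0, 0]]),
    (727, 8, 422, [[0]], [[0]]),
    (910, 1, 2673, [[0]], [[0]]),
    (911, 2, 2891, [[0, 0, 0, 0, 0]], [[0, 0, 0, 0, 0]]),
    (912, 3, 334, [[0, 0, 0, 0, 0, 0, 0, 0]], [[0, 0, 0, 0, 0]]),
    (913, 4, 2437, [[0]], [[0]]),
    (914, 5, 5700, [[0]], [[0]]),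
    (915, 4, 327, [[0, 0, 0, 0, 0, 0, 0, 0, 0]], [[0, 0, 0, 0, 0, 0, 0, 0, 0, 0, 0]]),
    (916, 4, 2804, [[0, 0, 0]], [[0, 0, 0, 0, 0]]),
    (917, 6, 2737, [[0]], [[0]]),
    (918, 6, 722, [[0, 0, 0]], [[0, 0, 0, 0, 0]]),
    (919, 5, 5710, [[0, 0, 0, 0, 0]], [[0, 0, 0, 0, 0]]),
    (920, 6, 3870, [[0, 0, 0, 0, 0]], [[0, 0, 0]]),
    (921, 7, 329, [[0, 0, 0, 0, 0, 0, 0, 0, 0, 0, 0, 0, 0, 0, 0, 0, 0, 0, 0, 0, 0]], [[0, 0, 0, 0, 0]])]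

/-- Steps from class 0, part. -/
def step0_1 : List (Nat × Nat × Nat × List (List Nat) × List (List Nat)) :=
  [(922, 8, 3125, [[0, 0]], [[0, 0]]),
    (1040, 1, 5139, [[0, 0, 0]], [[0, 0, 0]]),
    (1041, 2, 2628, [[0, 0, 0, 0, 0]], [[0, 0, 0, 0, 0]]),
    (1042, 3, 337, [[0, 0, 0, 0, 0, 0, 0, 0, 0, 0, 0]], [[0, 0, 0, 0, 0, 0]]),
    (1043, 4, 2788, [[0]], [[0]]),
    (1044, 5, 2395, [[0]], [[0]]),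
    (1045, 4, 423, [[0, 0, 0, 0, 0]], [[0, 0, 0]]),
    (1046, 4, 2703, [[0, 0, 0, 0, 0, 0, 0, 0, 0, 0, 0]], [[0, 0, 0, 0, 0, 0, 0, 0, 0]]),
    (1047, 6, 2596, [[0]], [[0]]),
    (1048, 6, 327, [[0, 0, 0]], [[0, 0, 0, 0, 0]]),
    (1049, 5, 2507, [[0, 0, 0, 0, 0]], [[0, 0, 0, 0, 0]]),
    (1050, 6, 2753, [[0, 0, 0, 0, 0]], [[0, 0, 0]]),
    (1051, 7, 326, [[0, 0, 0, 0, 0, 0, 0, 0, 0, 0, 0]], [[0, 0, 0, 0, 0, 0, 0, 0, 0, 0, 0, 0, 0, 0, 0, 0, 0, 0, 0]]),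
    (1052, 8, 2823, [[0, 0]], [[0, 0]]),
    (1326, 1, 5139, [[0]], [[0]]),
    (1327, 2, 2658, [[0]], [[0]]),
    (1328, 3, 328, [[0, 0]], [[0, 0, 0, 0, 0, 0, 0]]),
    (1329, 4, 2871, [[0, 0, 0, 0, 0, 0, 0, 0, 0, 0, 0, 0, 0]], [[0, 0, 0, 0, 0, 0, 0, 0, 0, 0, 0, 0, 0]]),
    (1330, 5, 2507, [[0, 0, 0, 0, 0, 0, 0, 0, 0, 0, 0]], [[0, 0, 0, 0, 0, 0, 0, 0, 0, 0, 0]]),
    (1331, 4, 417, [[0, 0, 0, 0, 0, 0, 0, 0, 0]], [[0, 0, 0, 0, 0, 0, 0, 0, 0, 0, 0]]),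
    (1332, 4, 2688, [[0, 0, 0]], [[0, 0, 0, 0, 0]]),
    (1333, 6, 2611, [[0, 0, 0, 0, 0, 0]], [[0, 0, 0, 0, 0, 0]]),
    (1334, 6, 330, [[0, 0, 0, 0]], [[0, 0]]),
    (1335, 5, 2395, [[0, 0, 0, 0, 0, 0, 0]], [[0, 0, 0, 0, 0, 0, 0]]),
    (1336, 6, 2839, [[0, 0]], [[0, 0, 0, 0]]),
    (1337, 7, 335, [[0, 0, 0, 0, 0, 0, 0, 0, 0, 0, 0, 0, 0, 0, 0]], [[0, 0, 0, 0, 0, 0, 0]]),
    (1338, 8, 2804, [[0]], [[0]]),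
    (1456, 1, 2673, [[0, 0, 0]], [[0, 0, 0]]),
    (1457, 2, 2963, [[0]], [[0]]),
    (1458, 3, 331, [[0, 0, 0, 0, 0]], [[0, 0, 0, 0, 0, 0, 0, 0]]),
    (1459, 4, 2465, [[0, 0, 0, 0, 0, 0, 0, 0, 0, 0, 0, 0, 0]], [[0, 0, 0, 0, 0, 0, 0, 0, 0, 0, 0, 0, 0]]),
    (1460, 5, 5710, [[0, 0, 0, 0, 0, 0, 0, 0, 0, 0, 0]], [[0, 0, 0, 0, 0, 0, 0, 0, 0, 0, 0]]),
    (1461, 4, 326, [[0, 0, 0, 0, 0]], [[0, 0, 0]]),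
    (1462, 4, 2855, [[0, 0, 0, 0, 0, 0, 0, 0, 0, 0, 0]], [[0, 0, 0, 0, 0, 0, 0, 0, 0]]),
    (1463, 6, 2855, [[0, 0, 0, 0, 0, 0]], [[0, 0, 0, 0, 0, 0]]),
    (1464, 6, 726, [[0, 0, 0, 0]], [[0, 0]]),
    (1465, 5, 5700, [[0, 0, 0, 0, 0, 0, 0]], [[0, 0, 0, 0, 0, 0, 0]]),
    (1466, 6, 3839, [[0, 0]], [[0, 0, 0, 0]]),
    (1467, 7, 332, [[0, 0, 0, 0, 0]], [[0, 0, 0, 0, 0, 0, 0, 0, 0, 0, 0, 0, 0, 0, 0, 0, 0, 0, 0, 0, 0]]),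
    (1468, 8, 3061, [[0]], [[0]]),
    (1651, 1, 416, [[0, 0, 0]], [[0, 0, 0]]),
    (1652, 2, 416, [[0, 0, 0, 0, 0]], [[0, 0, 0, 0, 0]]),
    (1653, 3, 329, [[0, 0, 0]], [[0, 0, 0, 0, 0, 0, 0, 0, 0]]),
    (1654, 4, 416, [[0, 0, 0, 0, 0, 0, 0, 0, 0, 0, 0, 0, 0]], [[0, 0, 0, 0, 0, 0, 0, 0, 0, 0, 0, 0, 0]]),
    (1655, 5, 416, [[0, 0, 0, 0, 0, 0, 0, 0, 0, 0, 0]], [[0, 0, 0, 0, 0, 0, 0, 0, 0, 0, 0]]),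
    (1656, 4, 2839, [[0, 0, 0, 0, 0]], [[0, 0, 0]]),
    (1657, 4, 727, [[0, 0, 0]], [[0, 0, 0, 0, 0]]),
    (1658, 6, 416, [[0, 0, 0, 0, 0, 0]], [[0, 0, 0, 0, 0, 0]]),
    (1659, 6, 2871, [[0, 0, 0, 0]], [[0, 0]]),
    (1660, 5, 418, [[0, 0, 0, 0, 0, 0, 0]], [[0, 0, 0, 0, 0, 0, 0]]),
    (1661, 6, 337, [[0, 0, 0, 0, 0]], [[0, 0, 0]]),
    (1662, 7, 334, [[0, 0, 0]], [[0, 0, 0, 0, 0, 0, 0, 0, 0]]),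
    (1663, 8, 416, [[0, 0]], [[0, 0]]),
    (1807, 1, 715, [[0, 0, 0]], [[0, 0, 0]]),
    (1808, 2, 715, [[0, 0, 0, 0, 0]], [[0, 0, 0, 0, 0]]),
    (1809, 3, 330, [[0, 0, 0, 0]], [[0, 0, 0, 0, 0, 0, 0, 0, 0, 0]]),
    (1810, 4, 715, [[0, 0, 0, 0, 0, 0, 0, 0, 0, 0, 0, 0, 0]], [[0, 0, 0, 0, 0, 0, 0, 0, 0, 0, 0, 0, 0]]),
    (1811, 5, 715, [[0, 0, 0, 0, 0, 0, 0, 0, 0, 0, 0]], [[0, 0, 0, 0, 0, 0, 0, 0, 0, 0, 0]]),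
    (1812, 4, 2566, [[0, 0, 0, 0, 0]], [[0, 0, 0]]),
    (1813, 4, 332, [[0, 0, 0, 0, 0, 0, 0, 0, 0, 0, 0]], [[0, 0, 0, 0, 0, 0, 0, 0, 0]]),
    (1814, 6, 715, [[0, 0, 0, 0, 0, 0]], [[0, 0, 0, 0, 0, 0]]),
    (1815, 6, 2551, [[0, 0, 0]], [[0, 0, 0, 0, 0]]),
    (1816, 5, 716, [[0, 0, 0, 0, 0, 0, 0]], [[0, 0, 0, 0, 0, 0, 0]]),
    (1817, 6, 422, [[0, 0, 0, 0, 0]], [[0, 0, 0]])]

/-- Steps from class 0, part. -/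
def step0_2 : List (Nat × Nat × Nat × List (List Nat) × List (List Nat)) :=
  [(1818, 7, 333, [[0, 0, 0, 0, 0, 0, 0, 0, 0, 0, 0, 0, 0, 0, 0, 0, 0]], [[0, 0, 0, 0, 0, 0, 0, 0, 0, 0, 0, 0, 0, 0, 0, 0, 0, 0, 0, 0, 0, 0, 0]]),
    (1819, 8, 715, [[0, 0]], [[0, 0]]),
    (1950, 1, 2451, [[0, 0, 0]], [[0, 0, 0]]),
    (1951, 2, 5201, [[0, 0, 0, 0, 0]], [[0, 0, 0, 0, 0]]),
    (1952, 3, 332, [[0, 0, 0, 0, 0, 0]], [[0, 0, 0, 0, 0, 0, 0, 0, 0, 0, 0]]),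
    (1953, 4, 2551, [[0]], [[0]]),
    (1954, 5, 3964, [[0]], [[0]]),
    (1955, 4, 725, [[0, 0, 0, 0, 0]], [[0, 0, 0]]),
    (1956, 4, 2521, [[0, 0, 0, 0, 0, 0, 0, 0, 0, 0, 0]], [[0, 0, 0, 0, 0, 0, 0, 0, 0]]),
    (1957, 6, 3790, [[0, 0, 0, 0, 0, 0]], [[0, 0, 0, 0, 0, 0]]),
    (1958, 6, 417, [[0, 0, 0]], [[0, 0, 0, 0, 0]]),
    (1959, 5, 3984, [[0, 0, 0, 0, 0]], [[0, 0, 0, 0, 0]]),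
    (1960, 6, 2566, [[0, 0]], [[0, 0, 0, 0]]),
    (1961, 7, 331, [[0, 0, 0, 0, 0, 0, 0, 0, 0, 0, 0, 0, 0, 0, 0, 0, 0, 0, 0]], [[0, 0, 0, 0, 0, 0, 0, 0, 0, 0, 0]]),
    (1962, 8, 5552, [[0, 0]], [[0, 0]]),
    (2041, 1, 325, [[0, 0, 0]], [[0, 0, 0]]),
    (2042, 2, 325, [[0, 0, 0, 0, 0]], [[0, 0, 0, 0, 0]]),
    (2043, 3, 325, [[0, 0, 0, 0, 0, 0, 0, 0, 0, 0, 0, 0]], [[0, 0, 0, 0, 0, 0, 0, 0, 0, 0, 0, 0]]),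
    (2044, 4, 325, [[0, 0, 0, 0, 0, 0, 0, 0, 0, 0, 0, 0, 0]], [[0, 0, 0, 0, 0, 0, 0, 0, 0, 0, 0, 0, 0]]),
    (2045, 5, 325, [[0, 0, 0, 0, 0, 0, 0, 0, 0, 0, 0]], [[0, 0, 0, 0, 0, 0, 0, 0, 0, 0, 0]]),
    (2046, 4, 2507, [[0, 0, 0, 0, 0, 0, 0, 0, 0]], [[0, 0, 0, 0, 0, 0, 0, 0, 0, 0, 0]]),
    (2047, 4, 427, [[0, 0, 0]], [[0, 0, 0, 0, 0]]),
    (2048, 6, 325, [[0, 0, 0, 0, 0, 0]], [[0, 0, 0, 0, 0, 0]]),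
    (2049, 6, 3799, [[0, 0, 0]], [[0, 0, 0, 0, 0]]),
    (2050, 5, 329, [[0, 0, 0, 0, 0, 0, 0]], [[0, 0, 0, 0, 0, 0, 0]]),
    (2051, 6, 717, [[0, 0]], [[0, 0, 0, 0]]),
    (2052, 7, 325, [[0, 0, 0, 0, 0, 0, 0, 0, 0, 0, 0, 0, 0, 0, 0, 0, 0, 0, 0, 0, 0, 0, 0, 0, 0]], [[0, 0, 0, 0, 0, 0, 0, 0, 0, 0, 0, 0, 0, 0, 0, 0, 0, 0, 0, 0, 0, 0, 0, 0, 0]]),
    (2053, 8, 325, [[0, 0]], [[0, 0]]),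
    (2198, 0, 325, [], [[]]),
    (2211, 3, 4226, [[0, 0, 0, 0, 0, 0, 0, 0, 0, 0, 0, 0]], [[0, 0, 0, 0, 0, 0, 0, 0, 0, 0, 0, 0]]),
    (2224, 3, 4226, [[0, 0, 0, 0, 0, 0]], [[0, 0, 0, 0, 0, 0, 0, 0, 0, 0, 0]]),
    (2237, 3, 4226, [[0, 0, 0, 0]], [[0, 0, 0, 0, 0, 0, 0, 0, 0, 0]]),
    (2250, 3, 4226, [[0, 0, 0]], [[0, 0, 0, 0, 0, 0, 0, 0, 0]]),
    (2263, 3, 4226, [[0, 0, 0, 0, 0]], [[0, 0, 0, 0, 0, 0, 0, 0]]),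
    (2276, 3, 4226, [[0, 0]], [[0, 0, 0, 0, 0, 0, 0]]),
    (2289, 3, 4226, [[0, 0, 0, 0, 0, 0, 0, 0, 0, 0, 0]], [[0, 0, 0, 0, 0, 0]]),
    (2302, 3, 4226, [[0, 0, 0, 0, 0, 0, 0, 0]], [[0, 0, 0, 0, 0]]),
    (2315, 3, 4226, [[0, 0, 0, 0, 0, 0, 0, 0, 0, 0]], [[0, 0, 0, 0]]),
    (2328, 3, 4226, [[0, 0, 0, 0, 0, 0, 0, 0, 0]], [[0, 0, 0]]),
    (2341, 3, 4226, [[0, 0, 0, 0, 0, 0, 0]], [[0, 0]]),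
    (2354, 3, 4226, [[0]], [[0]]),
    (2367, 3, 326, [[0]], [[0]]),
    (2381, 4, 327, [[0]], [[0]]),
    (2395, 5, 328, [[0]], [[0]]),
    (2409, 4, 2381, [[0, 0, 0, 0, 0]], [[0, 0, 0]]),
    (2423, 4, 424, [[0, 0, 0, 0, 0, 0, 0, 0, 0, 0, 0]], [[0, 0, 0, 0, 0, 0, 0, 0, 0]]),
    (2437, 6, 331, [[0]], [[0]]),
    (2451, 6, 3719, [[0, 0, 0, 0]], [[0, 0]]),
    (2465, 5, 337, [[0, 0, 0, 0, 0]], [[0, 0, 0, 0, 0]]),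
    (2479, 6, 727, [[0, 0, 0, 0, 0]], [[0, 0, 0]]),
    (2493, 7, 335, [[0]], [[0]]),
    (2507, 8, 336, [[0]], [[0]]),
    (2521, 1, 337, [[0]], [[0]]),
    (2522, 2, 325, [[0]], [[0]]),
    (2536, 3, 326, [[0, 0, 0, 0, 0, 0, 0]], [[0, 0]]),
    (2551, 5, 3888, [[0, 0, 0, 0, 0, 0, 0, 0, 0, 0, 0]], [[0, 0, 0, 0, 0, 0, 0, 0, 0, 0, 0]]),
    (2566, 4, 2465, [[0, 0, 0]], [[0, 0, 0, 0, 0]]),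
    (2581, 6, 424, [[0, 0, 0, 0]], [[0, 0]]),
    (2596, 6, 2536, [[0, 0, 0, 0, 0]], [[0, 0, 0]]),
    (2611, 8, 5533, [[0]], [[0]]),
    (2613, 2, 5201, [[0]], [[0]]),
    (2628, 4, 2566, [[0, 0, 0, 0, 0, 0, 0, 0, 0, 0, 0, 0, 0]], [[0, 0, 0, 0, 0, 0, 0, 0, 0, 0, 0, 0, 0]]),
    (2643, 4, 720, [[0, 0, 0, 0, 0, 0, 0, 0, 0]], [[0, 0, 0, 0, 0, 0, 0, 0, 0, 0, 0]]),
    (2658, 6, 3830, [[0]], [[0]])]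

/-- Steps from class 0, part. -/
def step0_3 : List (Nat × Nat × Nat × List (List Nat) × List (List Nat)) :=
  [(2673, 5, 4037, [[0, 0, 0, 0, 0, 0, 0]], [[0, 0, 0, 0, 0, 0, 0]]),
    (2688, 7, 336, [[0, 0, 0, 0, 0, 0, 0]], [[0, 0, 0, 0, 0, 0, 0, 0, 0, 0, 0, 0, 0, 0, 0]]),
    (2703, 1, 2522, [[0]], [[0]]),
    (2705, 3, 326, [[0, 0, 0, 0, 0, 0, 0, 0, 0]], [[0, 0, 0]]),
    (2721, 4, 2703, [[0, 0, 0, 0, 0, 0, 0, 0, 0]], [[0, 0, 0, 0, 0, 0, 0, 0, 0, 0, 0]]),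
    (2737, 6, 2703, [[0, 0, 0, 0]], [[0, 0]]),
    (2753, 7, 332, [[0, 0, 0, 0, 0, 0, 0, 0, 0]], [[0, 0, 0]]),
    (2756, 2, 715, [[0]], [[0]]),
    (2772, 5, 719, [[0]], [[0]]),
    (2788, 6, 723, [[0]], [[0]]),
    (2804, 6, 428, [[0, 0]], [[0, 0, 0, 0]]),
    (2820, 1, 718, [[0]], [[0]]),
    (2823, 4, 722, [[0]], [[0]]),
    (2839, 4, 325, [[0, 0, 0]], [[0, 0, 0, 0, 0]]),
    (2855, 5, 718, [[0, 0, 0, 0, 0]], [[0, 0, 0, 0, 0]]),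
    (2871, 8, 721, [[0]], [[0]]),
    (2874, 3, 326, [[0, 0, 0, 0, 0, 0, 0, 0, 0, 0]], [[0, 0, 0, 0]]),
    (2891, 4, 719, [[0, 0, 0, 0, 0, 0, 0, 0, 0, 0, 0]], [[0, 0, 0, 0, 0, 0, 0, 0, 0]]),
    (2908, 6, 336, [[0, 0]], [[0, 0, 0, 0]]),
    (2912, 2, 416, [[0]], [[0]]),
    (2929, 4, 2855, [[0, 0, 0, 0, 0, 0, 0, 0, 0]], [[0, 0, 0, 0, 0, 0, 0, 0, 0, 0, 0]]),
    (2946, 5, 422, [[0, 0, 0, 0, 0]], [[0, 0, 0, 0, 0]]),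
    (2963, 1, 422, [[0]], [[0]]),
    (2967, 5, 424, [[0]], [[0]]),
    (2984, 6, 2756, [[0, 0, 0]], [[0, 0, 0, 0, 0]]),
    (3001, 8, 428, [[0]], [[0]]),
    (3005, 4, 417, [[0]], [[0]]),
    (3022, 6, 419, [[0]], [[0]]),
    (3039, 7, 330, [[0, 0, 0, 0, 0, 0, 0, 0, 0, 0, 0, 0, 0, 0, 0, 0, 0, 0, 0, 0, 0, 0, 0]], [[0, 0, 0, 0, 0, 0, 0, 0, 0, 0, 0, 0, 0, 0, 0, 0, 0]]),
    (3043, 3, 326, [[0, 0, 0, 0, 0, 0, 0, 0]], [[0, 0, 0, 0, 0]]),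
    (3061, 6, 2804, [[0]], [[0]]),
    (3079, 8, 3189, [[0, 0]], [[0, 0]]),
    (3084, 5, 5657, [[0]], [[0]]),
    (3102, 5, 5680, [[0, 0, 0, 0, 0]], [[0, 0, 0, 0, 0]]),
    (3107, 2, 2963, [[0, 0, 0, 0, 0]], [[0, 0, 0, 0, 0]]),
    (3125, 4, 2871, [[0, 0, 0]], [[0, 0, 0, 0, 0]]),
    (3143, 7, 334, [[0, 0, 0, 0, 0, 0, 0, 0, 0, 0, 0, 0, 0, 0, 0, 0, 0, 0, 0, 0, 0]], [[0, 0, 0, 0, 0]]),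
    (3148, 4, 2507, [[0]], [[0]]),
    (3166, 6, 716, [[0, 0, 0]], [[0, 0, 0, 0, 0]]),
    (3184, 1, 2566, [[0]], [[0]]),
    (3189, 4, 332, [[0, 0, 0, 0, 0, 0, 0, 0, 0]], [[0, 0, 0, 0, 0, 0, 0, 0, 0, 0, 0]]),
    (3207, 6, 3759, [[0, 0, 0, 0, 0]], [[0, 0, 0]]),
    (3212, 3, 326, [[0, 0, 0, 0, 0, 0, 0, 0, 0, 0, 0]], [[0, 0, 0, 0, 0, 0]]),
    (3231, 6, 329, [[0, 0, 0]], [[0, 0, 0, 0, 0]]),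
    (3237, 2, 2658, [[0, 0, 0, 0, 0]], [[0, 0, 0, 0, 0]]),
    (3256, 6, 2613, [[0]], [[0]]),
    (3275, 1, 5199, [[0, 0, 0]], [[0, 0, 0]]),
    (3281, 4, 2551, [[0, 0, 0, 0, 0, 0, 0, 0, 0, 0, 0]], [[0, 0, 0, 0, 0, 0, 0, 0, 0]]),
    (3300, 8, 2855, [[0, 0]], [[0, 0]]),
    (3306, 4, 427, [[0, 0, 0, 0, 0]], [[0, 0, 0]]),
    (3325, 7, 328, [[0, 0, 0, 0, 0, 0, 0, 0, 0, 0, 0]], [[0, 0, 0, 0, 0, 0, 0, 0, 0, 0, 0, 0, 0, 0, 0, 0, 0, 0, 0]]),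
    (3331, 5, 2423, [[0]], [[0]]),
    (3350, 6, 2772, [[0, 0, 0, 0, 0]], [[0, 0, 0]]),
    (3356, 4, 2820, [[0]], [[0]]),
    (3375, 5, 2522, [[0, 0, 0, 0, 0]], [[0, 0, 0, 0, 0]]),
    (3381, 3, 326, [[0, 0]], [[0, 0, 0, 0, 0, 0, 0]]),
    (3401, 5, 2367, [[0, 0, 0, 0, 0, 0, 0]], [[0, 0, 0, 0, 0, 0, 0]]),
    (3408, 4, 2839, [[0, 0, 0, 0, 0, 0, 0, 0, 0, 0, 0, 0, 0]], [[0, 0, 0, 0, 0, 0, 0, 0, 0, 0, 0, 0, 0]]),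
    (3428, 6, 2820, [[0, 0]], [[0, 0, 0, 0]]),
    (3435, 5, 2479, [[0, 0, 0, 0, 0, 0, 0, 0, 0, 0, 0]], [[0, 0, 0, 0, 0, 0, 0, 0, 0, 0, 0]]),
    (3455, 7, 333, [[0, 0, 0, 0, 0, 0, 0, 0, 0, 0, 0, 0, 0, 0, 0]], [[0, 0, 0, 0, 0, 0, 0]]),
    (3462, 4, 426, [[0, 0, 0, 0, 0, 0, 0, 0, 0]], [[0, 0, 0, 0, 0, 0, 0, 0, 0, 0, 0]]),
    (3482, 8, 2772, [[0]], [[0]]),
    (3489, 4, 2658, [[0, 0, 0]], [[0, 0, 0, 0, 0]])]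

/-- Steps from class 0, part. -/
def step0_4 : List (Nat × Nat × Nat × List (List Nat) × List (List Nat)) :=
  [(3509, 1, 5092, [[0]], [[0]]),
    (3516, 6, 2581, [[0, 0, 0, 0, 0, 0]], [[0, 0, 0, 0, 0, 0]]),
    (3523, 2, 2628, [[0]], [[0]]),
    (3543, 6, 328, [[0, 0, 0, 0]], [[0, 0]]),
    (3550, 3, 326, [[0, 0, 0, 0, 0]], [[0, 0, 0, 0, 0, 0, 0, 0]]),
    (3571, 6, 3781, [[0, 0]], [[0, 0, 0, 0]]),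
    (3579, 4, 334, [[0, 0, 0, 0, 0]], [[0, 0, 0]]),
    (3600, 1, 2611, [[0, 0, 0]], [[0, 0, 0]]),
    (3608, 6, 719, [[0, 0, 0, 0]], [[0, 0]]),
    (3616, 4, 2395, [[0, 0, 0, 0, 0, 0, 0, 0, 0, 0, 0, 0, 0]], [[0, 0, 0, 0, 0, 0, 0, 0, 0, 0, 0, 0, 0]]),
    (3637, 7, 327, [[0, 0, 0, 0, 0]], [[0, 0, 0, 0, 0, 0, 0, 0, 0, 0, 0, 0, 0, 0, 0, 0, 0, 0, 0, 0, 0]]),
    (3645, 4, 2788, [[0, 0, 0, 0, 0, 0, 0, 0, 0, 0, 0]], [[0, 0, 0, 0, 0, 0, 0, 0, 0]]),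
    (3653, 2, 2891, [[0]], [[0]]),
    (3674, 5, 5743, [[0, 0, 0, 0, 0, 0, 0]], [[0, 0, 0, 0, 0, 0, 0]]),
    (3682, 5, 5584, [[0, 0, 0, 0, 0, 0, 0, 0, 0, 0, 0]], [[0, 0, 0, 0, 0, 0, 0, 0, 0, 0, 0]]),
    (3703, 8, 3166, [[0]], [[0]]),
    (3711, 6, 2788, [[0, 0, 0, 0, 0, 0]], [[0, 0, 0, 0, 0, 0]]),
    (3719, 3, 326, [[0, 0, 0]], [[0, 0, 0, 0, 0, 0, 0, 0, 0]]),
    (3741, 7, 331, [[0, 0, 0]], [[0, 0, 0, 0, 0, 0, 0, 0, 0]]),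
    (3750, 6, 423, [[0, 0, 0, 0, 0, 0]], [[0, 0, 0, 0, 0, 0]]),
    (3759, 4, 423, [[0, 0, 0, 0, 0, 0, 0, 0, 0, 0, 0, 0, 0]], [[0, 0, 0, 0, 0, 0, 0, 0, 0, 0, 0, 0, 0]]),
    (3781, 8, 423, [[0, 0]], [[0, 0]]),
    (3790, 6, 2823, [[0, 0, 0, 0]], [[0, 0]]),
    (3799, 5, 423, [[0, 0, 0, 0, 0, 0, 0, 0, 0, 0, 0]], [[0, 0, 0, 0, 0, 0, 0, 0, 0, 0, 0]]),
    (3821, 1, 423, [[0, 0, 0]], [[0, 0, 0]]),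
    (3830, 5, 425, [[0, 0, 0, 0, 0, 0, 0]], [[0, 0, 0, 0, 0, 0, 0]]),
    (3839, 4, 2804, [[0, 0, 0, 0, 0]], [[0, 0, 0]]),
    (3848, 2, 423, [[0, 0, 0, 0, 0]], [[0, 0, 0, 0, 0]]),
    (3870, 6, 334, [[0, 0, 0, 0, 0]], [[0, 0, 0]]),
    (3879, 4, 715, [[0, 0, 0]], [[0, 0, 0, 0, 0]]),
    (3888, 3, 326, [[0, 0, 0, 0]], [[0, 0, 0, 0, 0, 0, 0, 0, 0, 0]]),
    (3911, 8, 725, [[0, 0]], [[0, 0]]),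
    (3921, 5, 726, [[0, 0, 0, 0, 0, 0, 0]], [[0, 0, 0, 0, 0, 0, 0]]),
    (3931, 4, 328, [[0, 0, 0, 0, 0, 0, 0, 0, 0, 0, 0]], [[0, 0, 0, 0, 0, 0, 0, 0, 0]]),
    (3941, 4, 725, [[0, 0, 0, 0, 0, 0, 0, 0, 0, 0, 0, 0, 0]], [[0, 0, 0, 0, 0, 0, 0, 0, 0, 0, 0, 0, 0]]),
    (3964, 1, 725, [[0, 0, 0]], [[0, 0, 0]]),
    (3974, 6, 427, [[0, 0, 0, 0, 0]], [[0, 0, 0]]),
    (3984, 6, 725, [[0, 0, 0, 0, 0, 0]], [[0, 0, 0, 0, 0, 0]]),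
    (3994, 5, 725, [[0, 0, 0, 0, 0, 0, 0, 0, 0, 0, 0]], [[0, 0, 0, 0, 0, 0, 0, 0, 0, 0, 0]]),
    (4004, 2, 725, [[0, 0, 0, 0, 0]], [[0, 0, 0, 0, 0]]),
    (4027, 7, 329, [[0, 0, 0, 0, 0, 0, 0, 0, 0, 0, 0, 0, 0, 0, 0, 0, 0]], [[0, 0, 0, 0, 0, 0, 0, 0, 0, 0, 0, 0, 0, 0, 0, 0, 0, 0, 0, 0, 0, 0, 0]]),
    (4037, 6, 2673, [[0, 0, 0]], [[0, 0, 0, 0, 0]]),
    (4047, 4, 2688, [[0, 0, 0, 0, 0]], [[0, 0, 0]]),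
    (4057, 3, 326, [[0, 0, 0, 0, 0, 0]], [[0, 0, 0, 0, 0, 0, 0, 0, 0, 0, 0]]),
    (4081, 1, 2367, [[0, 0, 0]], [[0, 0, 0]]),
    (4092, 7, 325, [[0, 0, 0, 0, 0, 0, 0, 0, 0, 0, 0, 0, 0, 0, 0, 0, 0, 0, 0]], [[0, 0, 0, 0, 0, 0, 0, 0, 0, 0, 0]]),
    (4103, 5, 3911, [[0, 0, 0, 0, 0]], [[0, 0, 0, 0, 0]]),
    (4114, 6, 3879, [[0, 0, 0, 0, 0, 0]], [[0, 0, 0, 0, 0, 0]]),
    (4125, 4, 727, [[0, 0, 0, 0, 0]], [[0, 0, 0]]),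
    (4136, 4, 2643, [[0]], [[0]]),
    (4147, 2, 5216, [[0, 0, 0, 0, 0]], [[0, 0, 0, 0, 0]]),
    (4171, 8, 5568, [[0, 0]], [[0, 0]]),
    (4182, 6, 2658, [[0, 0]], [[0, 0, 0, 0]]),
    (4193, 6, 418, [[0, 0, 0]], [[0, 0, 0, 0, 0]]),
    (4204, 4, 2437, [[0, 0, 0, 0, 0, 0, 0, 0, 0, 0, 0]], [[0, 0, 0, 0, 0, 0, 0, 0, 0]]),
    (4215, 5, 4047, [[0]], [[0]]),
    (4226, 3, 326, [[0, 0, 0, 0, 0, 0, 0, 0, 0, 0, 0, 0]], [[0, 0, 0, 0, 0, 0, 0, 0, 0, 0, 0, 0]]),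
    (4238, 2, 326, [[0, 0, 0, 0, 0]], [[0, 0, 0, 0, 0]]),
    (4263, 1, 326, [[0, 0, 0]], [[0, 0, 0]]),
    (4275, 8, 326, [[0, 0]], [[0, 0]]),
    (4287, 7, 326, [[0, 0, 0, 0, 0, 0, 0, 0, 0, 0, 0, 0, 0, 0, 0, 0, 0, 0, 0, 0, 0, 0, 0, 0, 0]], [[0, 0, 0, 0, 0, 0, 0, 0, 0, 0, 0, 0, 0, 0, 0, 0, 0, 0, 0, 0, 0, 0, 0, 0, 0]]),
    (4299, 6, 721, [[0, 0]], [[0, 0, 0, 0]]),
    (4311, 5, 330, [[0, 0, 0, 0, 0, 0, 0]], [[0, 0, 0, 0, 0, 0, 0]]),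
    (4323, 6, 3821, [[0, 0, 0]], [[0, 0, 0, 0, 0]])]

/-- Steps from class 0, part. -/
def step0_5 : List (Nat × Nat × Nat × List (List Nat) × List (List Nat)) :=
  [(4335, 6, 326, [[0, 0, 0, 0, 0, 0]], [[0, 0, 0, 0, 0, 0]]),
    (4347, 4, 416, [[0, 0, 0]], [[0, 0, 0, 0, 0]]),
    (4359, 4, 2521, [[0, 0, 0, 0, 0, 0, 0, 0, 0]], [[0, 0, 0, 0, 0, 0, 0, 0, 0, 0, 0]]),
    (4371, 5, 326, [[0, 0, 0, 0, 0, 0, 0, 0, 0, 0, 0]], [[0, 0, 0, 0, 0, 0, 0, 0, 0, 0, 0]]),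
    (4383, 4, 326, [[0, 0, 0, 0, 0, 0, 0, 0, 0, 0, 0, 0, 0]], [[0, 0, 0, 0, 0, 0, 0, 0, 0, 0, 0, 0, 0]]),
    (4401, 5, 2643, [[0, 0, 0, 0, 0, 0, 0]], [[0, 0, 0, 0, 0, 0, 0]]),
    (4414, 5, 2536, [[0, 0, 0, 0, 0, 0, 0]], [[0, 0, 0, 0, 0, 0, 0]]),
    (4427, 5, 2611, [[0, 0, 0, 0, 0, 0, 0]], [[0, 0, 0, 0, 0, 0, 0]]),
    (4440, 5, 2673, [[0, 0, 0, 0, 0, 0, 0]], [[0, 0, 0, 0, 0, 0, 0]]),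
    (4453, 5, 2566, [[0, 0, 0, 0, 0, 0, 0]], [[0, 0, 0, 0, 0, 0, 0]]),
    (4466, 5, 2628, [[0, 0, 0, 0, 0, 0, 0]], [[0, 0, 0, 0, 0, 0, 0]]),
    (4479, 5, 2703, [[0, 0, 0, 0, 0, 0, 0]], [[0, 0, 0, 0, 0, 0, 0]]),
    (4492, 5, 2596, [[0, 0, 0, 0, 0, 0, 0]], [[0, 0, 0, 0, 0, 0, 0]]),
    (4505, 5, 2658, [[0, 0, 0, 0, 0, 0, 0]], [[0, 0, 0, 0, 0, 0, 0]]),
    (4518, 5, 2551, [[0, 0, 0, 0, 0, 0, 0]], [[0, 0, 0, 0, 0, 0, 0]]),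
    (4531, 5, 2613, [[0, 0, 0, 0, 0, 0, 0]], [[0, 0, 0, 0, 0, 0, 0]]),
    (4544, 5, 2688, [[0, 0, 0, 0, 0, 0, 0]], [[0, 0, 0, 0, 0, 0, 0]]),
    (4557, 5, 2581, [[0, 0, 0, 0, 0, 0, 0]], [[0, 0, 0, 0, 0, 0, 0]]),
    (4570, 5, 336, [[0, 0, 0, 0, 0]], [[0, 0, 0, 0, 0]]),
    (4577, 4, 326, [[0]], [[0]]),
    (4597, 6, 723, [[0, 0, 0, 0, 0]], [[0, 0, 0]]),
    (4604, 5, 327, [[0]], [[0]]),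
    (4624, 7, 334, [[0]], [[0]]),
    (4631, 4, 2367, [[0, 0, 0, 0, 0]], [[0, 0, 0]]),
    (4651, 8, 335, [[0]], [[0]]),
    (4658, 4, 422, [[0, 0, 0, 0, 0, 0, 0, 0, 0, 0, 0]], [[0, 0, 0, 0, 0, 0, 0, 0, 0]]),
    (4678, 1, 336, [[0]], [[0]]),
    (4685, 6, 330, [[0]], [[0]]),
    (4705, 2, 337, [[0]], [[0]]),
    (4712, 6, 3879, [[0, 0, 0, 0]], [[0, 0]]),
    (4719, 3, 325, [[0]], [[0]]),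
    (4739, 5, 3941, [[0, 0, 0, 0, 0, 0, 0]], [[0, 0, 0, 0, 0, 0, 0]]),
    (4753, 6, 2613, [[0, 0, 0, 0, 0]], [[0, 0, 0]]),
    (4767, 7, 329, [[0, 0, 0, 0, 0, 0, 0]], [[0, 0, 0, 0, 0, 0, 0, 0, 0, 0, 0, 0, 0, 0, 0]]),
    (4781, 8, 5517, [[0]], [[0]]),
    (4795, 1, 2437, [[0]], [[0]]),
    (4809, 2, 5199, [[0]], [[0]]),
    (4810, 3, 332, [[0, 0, 0, 0, 0, 0, 0]], [[0, 0]]),
    (4824, 4, 2643, [[0, 0, 0, 0, 0, 0, 0, 0, 0, 0, 0, 0, 0]], [[0, 0, 0, 0, 0, 0, 0, 0, 0, 0, 0, 0, 0]]),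
    (4838, 5, 3974, [[0, 0, 0, 0, 0, 0, 0, 0, 0, 0, 0]], [[0, 0, 0, 0, 0, 0, 0, 0, 0, 0, 0]]),
    (4852, 4, 718, [[0, 0, 0, 0, 0, 0, 0, 0, 0]], [[0, 0, 0, 0, 0, 0, 0, 0, 0, 0, 0]]),
    (4866, 4, 2367, [[0, 0, 0]], [[0, 0, 0, 0, 0]]),
    (4880, 6, 3741, [[0]], [[0]]),
    (4894, 6, 423, [[0, 0, 0, 0]], [[0, 0]]),
    (4908, 5, 721, [[0, 0, 0, 0, 0]], [[0, 0, 0, 0, 0]]),
    (4916, 5, 722, [[0]], [[0]]),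
    (4937, 8, 724, [[0]], [[0]]),
    (4945, 6, 726, [[0]], [[0]]),
    (4953, 3, 330, [[0, 0, 0, 0, 0, 0, 0, 0, 0]], [[0, 0, 0]]),
    (4974, 6, 423, [[0, 0]], [[0, 0, 0, 0]]),
    (4982, 4, 2581, [[0, 0, 0, 0, 0, 0, 0, 0, 0]], [[0, 0, 0, 0, 0, 0, 0, 0, 0, 0, 0]]),
    (5003, 1, 721, [[0]], [[0]]),
    (5011, 6, 2581, [[0, 0, 0, 0]], [[0, 0]]),
    (5019, 4, 725, [[0]], [[0]]),
    (5040, 7, 336, [[0, 0, 0, 0, 0, 0, 0, 0, 0]], [[0, 0, 0]]),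
    (5048, 4, 329, [[0, 0, 0]], [[0, 0, 0, 0, 0]]),
    (5069, 2, 718, [[0]], [[0]]),
    (5077, 5, 428, [[0, 0, 0, 0, 0]], [[0, 0, 0, 0, 0]]),
    (5092, 7, 333, [[0, 0, 0, 0, 0, 0, 0, 0, 0, 0, 0, 0, 0, 0, 0, 0, 0, 0, 0, 0, 0, 0, 0]], [[0, 0, 0, 0, 0, 0, 0, 0, 0, 0, 0, 0, 0, 0, 0, 0, 0]]),
    (5107, 1, 428, [[0]], [[0]]),
    (5109, 3, 329, [[0, 0, 0, 0, 0, 0, 0, 0, 0, 0]], [[0, 0, 0, 0]]),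
    (5124, 5, 417, [[0]], [[0]]),
    (5139, 4, 718, [[0, 0, 0, 0, 0, 0, 0, 0, 0, 0, 0]], [[0, 0, 0, 0, 0, 0, 0, 0, 0]]),
    (5154, 6, 2804, [[0, 0, 0]], [[0, 0, 0, 0, 0]])]

/-- Steps from class 0, part. -/
def step0_6 : List (Nat × Nat × Nat × List (List Nat) × List (List Nat)) :=
  [(5169, 6, 326, [[0, 0]], [[0, 0, 0, 0]]),
    (5184, 8, 421, [[0]], [[0]]),
    (5199, 2, 422, [[0]], [[0]]),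
    (5201, 4, 423, [[0]], [[0]]),
    (5216, 4, 2721, [[0, 0, 0, 0, 0, 0, 0, 0, 0]], [[0, 0, 0, 0, 0, 0, 0, 0, 0, 0, 0]]),
    (5231, 6, 425, [[0]], [[0]]),
    (5246, 5, 5637, [[0, 0, 0, 0, 0]], [[0, 0, 0, 0, 0]]),
    (5255, 4, 337, [[0, 0, 0, 0, 0, 0, 0, 0, 0]], [[0, 0, 0, 0, 0, 0, 0, 0, 0, 0, 0]]),
    (5277, 2, 3022, [[0, 0, 0, 0, 0]], [[0, 0, 0, 0, 0]]),
    (5286, 6, 3830, [[0, 0, 0, 0, 0]], [[0, 0, 0]]),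
    (5295, 4, 2756, [[0, 0, 0]], [[0, 0, 0, 0, 0]]),
    (5304, 3, 331, [[0, 0, 0, 0, 0, 0, 0, 0]], [[0, 0, 0, 0, 0]]),
    (5326, 7, 326, [[0, 0, 0, 0, 0, 0, 0, 0, 0, 0, 0, 0, 0, 0, 0, 0, 0, 0, 0, 0, 0]], [[0, 0, 0, 0, 0]]),
    (5335, 6, 2871, [[0]], [[0]]),
    (5344, 4, 2395, [[0]], [[0]]),
    (5366, 8, 3084, [[0, 0]], [[0, 0]]),
    (5375, 6, 723, [[0, 0, 0]], [[0, 0, 0, 0, 0]]),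
    (5384, 5, 5627, [[0]], [[0]]),
    (5406, 1, 2628, [[0]], [[0]]),
    (5415, 5, 2381, [[0, 0, 0, 0, 0]], [[0, 0, 0, 0, 0]]),
    (5431, 8, 2705, [[0, 0]], [[0, 0]]),
    (5434, 3, 328, [[0, 0, 0, 0, 0, 0, 0, 0, 0, 0, 0]], [[0, 0, 0, 0, 0, 0]]),
    (5450, 4, 418, [[0, 0, 0, 0, 0]], [[0, 0, 0]]),
    (5466, 6, 331, [[0, 0, 0]], [[0, 0, 0, 0, 0]]),
    (5482, 7, 330, [[0, 0, 0, 0, 0, 0, 0, 0, 0, 0, 0]], [[0, 0, 0, 0, 0, 0, 0, 0, 0, 0, 0, 0, 0, 0, 0, 0, 0, 0, 0]]),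
    (5498, 2, 2688, [[0, 0, 0, 0, 0]], [[0, 0, 0, 0, 0]]),
    (5501, 5, 2451, [[0]], [[0]]),
    (5517, 6, 2643, [[0]], [[0]]),
    (5533, 6, 2804, [[0, 0, 0, 0, 0]], [[0, 0, 0]]),
    (5549, 1, 5077, [[0, 0, 0]], [[0, 0, 0]]),
    (5552, 4, 2839, [[0]], [[0]]),
    (5568, 4, 2581, [[0, 0, 0, 0, 0, 0, 0, 0, 0, 0, 0]], [[0, 0, 0, 0, 0, 0, 0, 0, 0]]),
    (5584, 5, 2521, [[0, 0, 0, 0, 0, 0, 0]], [[0, 0, 0, 0, 0, 0, 0]]),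
    (5594, 4, 2628, [[0, 0, 0]], [[0, 0, 0, 0, 0]]),
    (5604, 4, 2820, [[0, 0, 0, 0, 0, 0, 0, 0, 0, 0, 0, 0, 0]], [[0, 0, 0, 0, 0, 0, 0, 0, 0, 0, 0, 0, 0]]),
    (5627, 1, 5201, [[0]], [[0]]),
    (5637, 6, 2788, [[0, 0]], [[0, 0, 0, 0]]),
    (5647, 6, 2551, [[0, 0, 0, 0, 0, 0]], [[0, 0, 0, 0, 0, 0]]),
    (5657, 5, 2451, [[0, 0, 0, 0, 0, 0, 0, 0, 0, 0, 0]], [[0, 0, 0, 0, 0, 0, 0, 0, 0, 0, 0]]),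
    (5680, 2, 2611, [[0]], [[0]]),
    (5690, 7, 331, [[0, 0, 0, 0, 0, 0, 0, 0, 0, 0, 0, 0, 0, 0, 0]], [[0, 0, 0, 0, 0, 0, 0]]),
    (5700, 6, 326, [[0, 0, 0, 0]], [[0, 0]]),
    (5710, 4, 422, [[0, 0, 0, 0, 0, 0, 0, 0, 0]], [[0, 0, 0, 0, 0, 0, 0, 0, 0, 0, 0]]),
    (5720, 3, 337, [[0, 0]], [[0, 0, 0, 0, 0, 0, 0]]),
    (5743, 8, 2753, [[0]], [[0]]),
    (5753, 5, 5604, [[0, 0, 0, 0, 0, 0, 0]], [[0, 0, 0, 0, 0, 0, 0]]),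
    (5770, 1, 2536, [[0, 0, 0]], [[0, 0, 0]]),
    (5774, 5, 5627, [[0, 0, 0, 0, 0, 0, 0, 0, 0, 0, 0]], [[0, 0, 0, 0, 0, 0, 0, 0, 0, 0, 0]]),
    (5791, 6, 725, [[0, 0, 0, 0]], [[0, 0]]),
    (5808, 8, 3102, [[0]], [[0]]),
    (5812, 4, 2507, [[0, 0, 0, 0, 0, 0, 0, 0, 0, 0, 0, 0, 0]], [[0, 0, 0, 0, 0, 0, 0, 0, 0, 0, 0, 0, 0]]),
    (5829, 6, 2721, [[0, 0, 0, 0, 0, 0]], [[0, 0, 0, 0, 0, 0]]),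
    (5846, 7, 335, [[0, 0, 0, 0, 0]], [[0, 0, 0, 0, 0, 0, 0, 0, 0, 0, 0, 0, 0, 0, 0, 0, 0, 0, 0, 0, 0]]),
    (5850, 3, 334, [[0, 0, 0, 0, 0]], [[0, 0, 0, 0, 0, 0, 0, 0]]),
    (5867, 4, 2721, [[0, 0, 0, 0, 0, 0, 0, 0, 0, 0, 0]], [[0, 0, 0, 0, 0, 0, 0, 0, 0]]),
    (5884, 6, 3879, [[0, 0]], [[0, 0, 0, 0]]),
    (5901, 2, 3001, [[0]], [[0]]),
    (5905, 4, 329, [[0, 0, 0, 0, 0]], [[0, 0, 0]]),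
    (5922, 5, 419, [[0, 0, 0, 0, 0, 0, 0]], [[0, 0, 0, 0, 0, 0, 0]]),
    (5933, 6, 417, [[0, 0, 0, 0, 0, 0]], [[0, 0, 0, 0, 0, 0]]),
    (5944, 4, 2756, [[0, 0, 0, 0, 0]], [[0, 0, 0]]),
    (5955, 4, 417, [[0, 0, 0, 0, 0, 0, 0, 0, 0, 0, 0, 0, 0]], [[0, 0, 0, 0, 0, 0, 0, 0, 0, 0, 0, 0, 0]]),
    (5979, 2, 417, [[0, 0, 0, 0, 0]], [[0, 0, 0, 0, 0]]),
    (5990, 8, 417, [[0, 0]], [[0, 0]])]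

/-- Steps from class 0, part. -/
def step0_7 : List (Nat × Nat × Nat × List (List Nat) × List (List Nat)) :=
  [(6001, 6, 331, [[0, 0, 0, 0, 0]], [[0, 0, 0]]),
    (6012, 6, 2788, [[0, 0, 0, 0]], [[0, 0]]),
    (6023, 4, 716, [[0, 0, 0]], [[0, 0, 0, 0, 0]]),
    (6034, 5, 417, [[0, 0, 0, 0, 0, 0, 0, 0, 0, 0, 0]], [[0, 0, 0, 0, 0, 0, 0, 0, 0, 0, 0]]),
    (6045, 3, 336, [[0, 0, 0]], [[0, 0, 0, 0, 0, 0, 0, 0, 0]]),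
    (6069, 1, 417, [[0, 0, 0]], [[0, 0, 0]]),
    (6080, 7, 328, [[0, 0, 0]], [[0, 0, 0, 0, 0, 0, 0, 0, 0]]),
    (6091, 5, 723, [[0, 0, 0, 0, 0, 0, 0]], [[0, 0, 0, 0, 0, 0, 0]]),
    (6109, 2, 722, [[0, 0, 0, 0, 0]], [[0, 0, 0, 0, 0]]),
    (6114, 4, 337, [[0, 0, 0, 0, 0, 0, 0, 0, 0, 0, 0]], [[0, 0, 0, 0, 0, 0, 0, 0, 0]]),
    (6132, 7, 325, [[0, 0, 0, 0, 0, 0, 0, 0, 0, 0, 0, 0, 0, 0, 0, 0, 0]], [[0, 0, 0, 0, 0, 0, 0, 0, 0, 0, 0, 0, 0, 0, 0, 0, 0, 0, 0, 0, 0, 0, 0]]),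
    (6137, 4, 722, [[0, 0, 0, 0, 0, 0, 0, 0, 0, 0, 0, 0, 0]], [[0, 0, 0, 0, 0, 0, 0, 0, 0, 0, 0, 0, 0]]),
    (6155, 6, 2613, [[0, 0, 0]], [[0, 0, 0, 0, 0]]),
    (6173, 1, 722, [[0, 0, 0]], [[0, 0, 0]]),
    (6178, 4, 2628, [[0, 0, 0, 0, 0]], [[0, 0, 0]]),
    (6196, 6, 419, [[0, 0, 0, 0, 0]], [[0, 0, 0]]),
    (6201, 3, 335, [[0, 0, 0, 0]], [[0, 0, 0, 0, 0, 0, 0, 0, 0, 0]]),
    (6219, 6, 722, [[0, 0, 0, 0, 0, 0]], [[0, 0, 0, 0, 0, 0]]),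
    (6237, 8, 722, [[0, 0]], [[0, 0]]),
    (6242, 5, 722, [[0, 0, 0, 0, 0, 0, 0, 0, 0, 0, 0]], [[0, 0, 0, 0, 0, 0, 0, 0, 0, 0, 0]]),
    (6260, 5, 3994, [[0, 0, 0, 0, 0]], [[0, 0, 0, 0, 0]]),
    (6272, 6, 419, [[0, 0, 0]], [[0, 0, 0, 0, 0]]),
    (6284, 6, 3799, [[0, 0, 0, 0, 0, 0]], [[0, 0, 0, 0, 0, 0]]),
    (6296, 4, 2522, [[0, 0, 0, 0, 0, 0, 0, 0, 0, 0, 0]], [[0, 0, 0, 0, 0, 0, 0, 0, 0]]),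
    (6308, 4, 716, [[0, 0, 0, 0, 0]], [[0, 0, 0]]),
    (6320, 5, 3974, [[0]], [[0]]),
    (6332, 4, 2566, [[0]], [[0]]),
    (6344, 3, 333, [[0, 0, 0, 0, 0, 0]], [[0, 0, 0, 0, 0, 0, 0, 0, 0, 0, 0]]),
    (6369, 2, 5231, [[0, 0, 0, 0, 0]], [[0, 0, 0, 0, 0]]),
    (6381, 1, 2465, [[0, 0, 0]], [[0, 0, 0]]),
    (6393, 8, 5415, [[0, 0]], [[0, 0]]),
    (6405, 7, 332, [[0, 0, 0, 0, 0, 0, 0, 0, 0, 0, 0, 0, 0, 0, 0, 0, 0, 0, 0]], [[0, 0, 0, 0, 0, 0, 0, 0, 0, 0, 0]]),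
    (6417, 6, 2581, [[0, 0]], [[0, 0, 0, 0]]),
    (6429, 5, 331, [[0, 0, 0, 0, 0, 0, 0]], [[0, 0, 0, 0, 0, 0, 0]]),
    (6435, 3, 327, [[0, 0, 0, 0, 0, 0, 0, 0, 0, 0, 0, 0]], [[0, 0, 0, 0, 0, 0, 0, 0, 0, 0, 0, 0]]),
    (6454, 6, 3830, [[0, 0, 0]], [[0, 0, 0, 0, 0]]),
    (6473, 2, 327, [[0, 0, 0, 0, 0]], [[0, 0, 0, 0, 0]]),
    (6479, 6, 327, [[0, 0, 0, 0, 0, 0]], [[0, 0, 0, 0, 0, 0]]),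
    (6498, 1, 327, [[0, 0, 0]], [[0, 0, 0]]),
    (6504, 4, 418, [[0, 0, 0]], [[0, 0, 0, 0, 0]]),
    (6523, 8, 327, [[0, 0]], [[0, 0]]),
    (6529, 4, 2522, [[0, 0, 0, 0, 0, 0, 0, 0, 0]], [[0, 0, 0, 0, 0, 0, 0, 0, 0, 0, 0]]),
    (6548, 7, 327, [[0, 0, 0, 0, 0, 0, 0, 0, 0, 0, 0, 0, 0, 0, 0, 0, 0, 0, 0, 0, 0, 0, 0, 0, 0]], [[0, 0, 0, 0, 0, 0, 0, 0, 0, 0, 0, 0, 0, 0, 0, 0, 0, 0, 0, 0, 0, 0, 0, 0, 0]]),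
    (6554, 5, 327, [[0, 0, 0, 0, 0, 0, 0, 0, 0, 0, 0]], [[0, 0, 0, 0, 0, 0, 0, 0, 0, 0, 0]]),
    (6573, 6, 725, [[0, 0]], [[0, 0, 0, 0]]),
    (6579, 4, 327, [[0, 0, 0, 0, 0, 0, 0, 0, 0, 0, 0, 0, 0]], [[0, 0, 0, 0, 0, 0, 0, 0, 0, 0, 0, 0, 0]]),
    (6600, 8, 3022, [[0, 0]], [[0, 0]]),
    (6613, 8, 2874, [[0, 0]], [[0, 0]]),
    (6626, 8, 2908, [[0, 0]], [[0, 0]]),
    (6639, 8, 2929, [[0, 0]], [[0, 0]]),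
    (6652, 8, 2963, [[0, 0]], [[0, 0]]),
    (6665, 8, 2984, [[0, 0]], [[0, 0]]),
    (6678, 8, 3005, [[0, 0]], [[0, 0]]),
    (6691, 8, 3039, [[0, 0]], [[0, 0]]),
    (6704, 8, 2891, [[0, 0]], [[0, 0]]),
    (6717, 8, 2912, [[0, 0]], [[0, 0]]),
    (6730, 8, 2946, [[0, 0]], [[0, 0]]),
    (6743, 8, 2967, [[0, 0]], [[0, 0]]),
    (6756, 8, 3001, [[0, 0]], [[0, 0]]),
    (6769, 8, 334, [[0]], [[0]]),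
    (6778, 6, 3870, [[0, 0, 0, 0]], [[0, 0]]),
    (6787, 5, 326, [[0]], [[0]]),
    (6809, 1, 335, [[0]], [[0]]),
    (6818, 5, 335, [[0, 0, 0, 0, 0]], [[0, 0, 0, 0, 0]])]

/-- Steps from class 0, part. -/
def step0_8 : List (Nat × Nat × Nat × List (List Nat) × List (List Nat)) :=
  [(6827, 4, 2522, [[0, 0, 0, 0, 0]], [[0, 0, 0]]),
    (6849, 2, 336, [[0]], [[0]]),
    (6858, 6, 719, [[0, 0, 0, 0, 0]], [[0, 0, 0]]),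
    (6867, 4, 420, [[0, 0, 0, 0, 0, 0, 0, 0, 0, 0, 0]], [[0, 0, 0, 0, 0, 0, 0, 0, 0]]),
    (6889, 3, 337, [[0]], [[0]]),
    (6898, 7, 333, [[0]], [[0]]),
    (6907, 6, 329, [[0]], [[0]]),
    (6916, 4, 325, [[0]], [[0]]),
    (6938, 8, 5501, [[0]], [[0]]),
    (6943, 5, 4047, [[0, 0, 0, 0, 0, 0, 0, 0, 0, 0, 0]], [[0, 0, 0, 0, 0, 0, 0, 0, 0, 0, 0]]),
    (6961, 5, 4027, [[0, 0, 0, 0, 0, 0, 0]], [[0, 0, 0, 0, 0, 0, 0]]),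
    (6979, 2, 5184, [[0]], [[0]]),
    (6984, 4, 2451, [[0, 0, 0]], [[0, 0, 0, 0, 0]]),
    (7002, 7, 335, [[0, 0, 0, 0, 0, 0, 0]], [[0, 0, 0, 0, 0, 0, 0, 0, 0, 0, 0, 0, 0, 0, 0]]),
    (7007, 4, 2551, [[0, 0, 0, 0, 0, 0, 0, 0, 0, 0, 0, 0, 0]], [[0, 0, 0, 0, 0, 0, 0, 0, 0, 0, 0, 0, 0]]),
    (7025, 6, 422, [[0, 0, 0, 0]], [[0, 0]]),
    (7043, 1, 2521, [[0]], [[0]]),
    (7048, 4, 716, [[0, 0, 0, 0, 0, 0, 0, 0, 0]], [[0, 0, 0, 0, 0, 0, 0, 0, 0, 0, 0]]),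
    (7066, 6, 2703, [[0, 0, 0, 0, 0]], [[0, 0, 0]]),
    (7084, 3, 325, [[0, 0, 0, 0, 0, 0, 0]], [[0, 0]]),
    (7089, 6, 3821, [[0]], [[0]]),
    (7107, 8, 727, [[0]], [[0]]),
    (7121, 1, 724, [[0]], [[0]]),
    (7135, 2, 721, [[0]], [[0]]),
    (7149, 3, 334, [[0, 0, 0, 0, 0, 0, 0, 0, 0]], [[0, 0, 0]]),
    (7150, 4, 715, [[0]], [[0]]),
    (7164, 5, 725, [[0]], [[0]]),
    (7178, 4, 2628, [[0, 0, 0, 0, 0, 0, 0, 0, 0]], [[0, 0, 0, 0, 0, 0, 0, 0, 0, 0, 0]]),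
    (7192, 4, 333, [[0, 0, 0]], [[0, 0, 0, 0, 0]]),
    (7206, 6, 716, [[0]], [[0]]),
    (7220, 6, 2628, [[0, 0, 0, 0]], [[0, 0]]),
    (7234, 5, 724, [[0, 0, 0, 0, 0]], [[0, 0, 0, 0, 0]]),
    (7248, 6, 418, [[0, 0]], [[0, 0, 0, 0]]),
    (7262, 7, 327, [[0, 0, 0, 0, 0, 0, 0, 0, 0]], [[0, 0, 0]]),
    (7276, 8, 427, [[0]], [[0]]),
    (7286, 5, 421, [[0, 0, 0, 0, 0]], [[0, 0, 0, 0, 0]]),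
    (7296, 4, 717, [[0, 0, 0, 0, 0, 0, 0, 0, 0, 0, 0]], [[0, 0, 0, 0, 0, 0, 0, 0, 0]]),
    (7306, 4, 416, [[0]], [[0]]),
    (7329, 1, 421, [[0]], [[0]]),
    (7339, 6, 329, [[0, 0]], [[0, 0, 0, 0]]),
    (7349, 6, 418, [[0]], [[0]]),
    (7359, 5, 423, [[0]], [[0]]),
    (7382, 2, 428, [[0]], [[0]]),
    (7392, 7, 336, [[0, 0, 0, 0, 0, 0, 0, 0, 0, 0, 0, 0, 0, 0, 0, 0, 0, 0, 0, 0, 0, 0, 0]], [[0, 0, 0, 0, 0, 0, 0, 0, 0, 0, 0, 0, 0, 0, 0, 0, 0]]),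
    (7402, 6, 2839, [[0, 0, 0]], [[0, 0, 0, 0, 0]]),
    (7412, 4, 2756, [[0, 0, 0, 0, 0, 0, 0, 0, 0]], [[0, 0, 0, 0, 0, 0, 0, 0, 0, 0, 0]]),
    (7435, 3, 332, [[0, 0, 0, 0, 0, 0, 0, 0, 0, 0]], [[0, 0, 0, 0]]),
    (7445, 8, 3148, [[0, 0]], [[0, 0]]),
    (7451, 4, 329, [[0, 0, 0, 0, 0, 0, 0, 0, 0]], [[0, 0, 0, 0, 0, 0, 0, 0, 0, 0, 0]]),
    (7470, 7, 331, [[0, 0, 0, 0, 0, 0, 0, 0, 0, 0, 0, 0, 0, 0, 0, 0, 0, 0, 0, 0, 0]], [[0, 0, 0, 0, 0]]),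
    (7476, 5, 5584, [[0]], [[0]]),
    (7495, 6, 3719, [[0, 0, 0, 0, 0]], [[0, 0, 0]]),
    (7501, 4, 2465, [[0]], [[0]]),
    (7520, 5, 5594, [[0, 0, 0, 0, 0]], [[0, 0, 0, 0, 0]]),
    (7539, 3, 336, [[0, 0, 0, 0, 0, 0, 0, 0]], [[0, 0, 0, 0, 0]]),
    (7545, 6, 717, [[0, 0, 0]], [[0, 0, 0, 0, 0]]),
    (7564, 2, 2912, [[0, 0, 0, 0, 0]], [[0, 0, 0, 0, 0]]),
    (7570, 6, 2756, [[0]], [[0]]),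
    (7589, 1, 2703, [[0]], [[0]]),
    (7595, 4, 2823, [[0, 0, 0]], [[0, 0, 0, 0, 0]]),
    (7614, 8, 2737, [[0, 0]], [[0, 0]]),
    (7629, 2, 2536, [[0, 0, 0, 0, 0]], [[0, 0, 0, 0, 0]]),
    (7631, 4, 2871, [[0]], [[0]]),
    (7646, 4, 422, [[0, 0, 0, 0, 0]], [[0, 0, 0]])]

/-- Steps from class 0, part. -/
def step0_9 : List (Nat × Nat × Nat × List (List Nat) × List (List Nat)) :=
  [(7661, 6, 2673, [[0]], [[0]]),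
    (7676, 5, 2409, [[0, 0, 0, 0, 0]], [[0, 0, 0, 0, 0]]),
    (7691, 7, 332, [[0, 0, 0, 0, 0, 0, 0, 0, 0, 0, 0]], [[0, 0, 0, 0, 0, 0, 0, 0, 0, 0, 0, 0, 0, 0, 0, 0, 0, 0, 0]]),
    (7706, 1, 5124, [[0, 0, 0]], [[0, 0, 0]]),
    (7721, 3, 330, [[0, 0, 0, 0, 0, 0, 0, 0, 0, 0, 0]], [[0, 0, 0, 0, 0, 0]]),
    (7723, 5, 2479, [[0]], [[0]]),
    (7738, 4, 2611, [[0, 0, 0, 0, 0, 0, 0, 0, 0, 0, 0]], [[0, 0, 0, 0, 0, 0, 0, 0, 0]]),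
    (7753, 6, 333, [[0, 0, 0]], [[0, 0, 0, 0, 0]]),
    (7768, 6, 2823, [[0, 0, 0, 0, 0]], [[0, 0, 0]]),
    (7783, 8, 2721, [[0]], [[0]]),
    (7794, 6, 2756, [[0, 0]], [[0, 0, 0, 0]]),
    (7805, 6, 337, [[0, 0, 0, 0]], [[0, 0]]),
    (7816, 4, 2611, [[0, 0, 0]], [[0, 0, 0, 0, 0]]),
    (7827, 5, 2423, [[0, 0, 0, 0, 0, 0, 0, 0, 0, 0, 0]], [[0, 0, 0, 0, 0, 0, 0, 0, 0, 0, 0]]),
    (7851, 3, 335, [[0, 0]], [[0, 0, 0, 0, 0, 0, 0]]),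
    (7862, 1, 5154, [[0]], [[0]]),
    (7873, 7, 329, [[0, 0, 0, 0, 0, 0, 0, 0, 0, 0, 0, 0, 0, 0, 0]], [[0, 0, 0, 0, 0, 0, 0]]),
    (7884, 5, 2493, [[0, 0, 0, 0, 0, 0, 0]], [[0, 0, 0, 0, 0, 0, 0]]),
    (7895, 6, 2703, [[0, 0, 0, 0, 0, 0]], [[0, 0, 0, 0, 0, 0]]),
    (7906, 4, 418, [[0, 0, 0, 0, 0, 0, 0, 0, 0]], [[0, 0, 0, 0, 0, 0, 0, 0, 0, 0, 0]]),
    (7917, 4, 2788, [[0, 0, 0, 0, 0, 0, 0, 0, 0, 0, 0, 0, 0]], [[0, 0, 0, 0, 0, 0, 0, 0, 0, 0, 0, 0, 0]]),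
    (7941, 2, 2581, [[0]], [[0]]),
    (7952, 8, 3207, [[0]], [[0]]),
    (7959, 4, 2823, [[0, 0, 0, 0, 0, 0, 0, 0, 0, 0, 0]], [[0, 0, 0, 0, 0, 0, 0, 0, 0]]),
    (7979, 1, 2643, [[0, 0, 0]], [[0, 0, 0]]),
    (7986, 6, 2823, [[0, 0, 0, 0, 0, 0]], [[0, 0, 0, 0, 0, 0]]),
    (8006, 2, 2929, [[0]], [[0]]),
    (8013, 6, 718, [[0, 0, 0, 0]], [[0, 0]]),
    (8033, 3, 329, [[0, 0, 0, 0, 0]], [[0, 0, 0, 0, 0, 0, 0, 0]]),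
    (8040, 5, 5647, [[0, 0, 0, 0, 0, 0, 0]], [[0, 0, 0, 0, 0, 0, 0]]),
    (8047, 4, 2437, [[0, 0, 0, 0, 0, 0, 0, 0, 0, 0, 0, 0, 0]], [[0, 0, 0, 0, 0, 0, 0, 0, 0, 0, 0, 0, 0]]),
    (8067, 6, 3821, [[0, 0]], [[0, 0, 0, 0]]),
    (8074, 5, 5657, [[0, 0, 0, 0, 0, 0, 0, 0, 0, 0, 0]], [[0, 0, 0, 0, 0, 0, 0, 0, 0, 0, 0]]),
    (8094, 7, 330, [[0, 0, 0, 0, 0]], [[0, 0, 0, 0, 0, 0, 0, 0, 0, 0, 0, 0, 0, 0, 0, 0, 0, 0, 0, 0, 0]]),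
    (8101, 4, 337, [[0, 0, 0, 0, 0]], [[0, 0, 0]]),
    (8121, 8, 424, [[0, 0]], [[0, 0]]),
    (8137, 3, 333, [[0, 0, 0]], [[0, 0, 0, 0, 0, 0, 0, 0, 0]]),
    (8140, 4, 2721, [[0, 0, 0, 0, 0]], [[0, 0, 0]]),
    (8156, 6, 2753, [[0, 0, 0, 0]], [[0, 0]]),
    (8172, 7, 325, [[0, 0, 0]], [[0, 0, 0, 0, 0, 0, 0, 0, 0]]),
    (8188, 2, 424, [[0, 0, 0, 0, 0]], [[0, 0, 0, 0, 0]]),
    (8191, 5, 424, [[0, 0, 0, 0, 0, 0, 0, 0, 0, 0, 0]], [[0, 0, 0, 0, 0, 0, 0, 0, 0, 0, 0]]),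
    (8207, 6, 424, [[0, 0, 0, 0, 0, 0]], [[0, 0, 0, 0, 0, 0]]),
    (8223, 6, 328, [[0, 0, 0, 0, 0]], [[0, 0, 0]]),
    (8239, 1, 424, [[0, 0, 0]], [[0, 0, 0]]),
    (8242, 4, 424, [[0, 0, 0, 0, 0, 0, 0, 0, 0, 0, 0, 0, 0]], [[0, 0, 0, 0, 0, 0, 0, 0, 0, 0, 0, 0, 0]]),
    (8258, 4, 717, [[0, 0, 0]], [[0, 0, 0, 0, 0]]),
    (8274, 5, 426, [[0, 0, 0, 0, 0, 0, 0]], [[0, 0, 0, 0, 0, 0, 0]]),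
    (8290, 8, 719, [[0, 0]], [[0, 0]]),
    (8302, 7, 334, [[0, 0, 0, 0, 0, 0, 0, 0, 0, 0, 0, 0, 0, 0, 0, 0, 0]], [[0, 0, 0, 0, 0, 0, 0, 0, 0, 0, 0, 0, 0, 0, 0, 0, 0, 0, 0, 0, 0, 0, 0]]),
    (8314, 6, 424, [[0, 0, 0, 0, 0]], [[0, 0, 0]]),
    (8326, 5, 720, [[0, 0, 0, 0, 0, 0, 0]], [[0, 0, 0, 0, 0, 0, 0]]),
    (8338, 6, 2566, [[0, 0, 0]], [[0, 0, 0, 0, 0]]),
    (8350, 6, 719, [[0, 0, 0, 0, 0, 0]], [[0, 0, 0, 0, 0, 0]]),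
    (8362, 4, 333, [[0, 0, 0, 0, 0, 0, 0, 0, 0, 0, 0]], [[0, 0, 0, 0, 0, 0, 0, 0, 0]]),
    (8374, 4, 2581, [[0, 0, 0, 0, 0]], [[0, 0, 0]]),
    (8386, 5, 719, [[0, 0, 0, 0, 0, 0, 0, 0, 0, 0, 0]], [[0, 0, 0, 0, 0, 0, 0, 0, 0, 0, 0]]),
    (8398, 4, 719, [[0, 0, 0, 0, 0, 0, 0, 0, 0, 0, 0, 0, 0]], [[0, 0, 0, 0, 0, 0, 0, 0, 0, 0, 0, 0, 0]]),
    (8423, 3, 331, [[0, 0, 0, 0]], [[0, 0, 0, 0, 0, 0, 0, 0, 0, 0]]),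
    (8435, 2, 719, [[0, 0, 0, 0, 0]], [[0, 0, 0, 0, 0]]),
    (8447, 1, 719, [[0, 0, 0]], [[0, 0, 0]]),
    (8459, 8, 5431, [[0, 0]], [[0, 0]]),
    (8467, 6, 3719, [[0, 0, 0, 0, 0, 0]], [[0, 0, 0, 0, 0, 0]]),
    (8488, 3, 327, [[0, 0, 0, 0, 0, 0]], [[0, 0, 0, 0, 0, 0, 0, 0, 0, 0, 0]])]

/-- Steps from class 0, part. -/
def step0_10 : List (Nat × Nat × Nat × List (List Nat) × List (List Nat)) :=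
  [(8496, 6, 2673, [[0, 0]], [[0, 0, 0, 0]]),
    (8504, 4, 718, [[0, 0, 0, 0, 0]], [[0, 0, 0]]),
    (8525, 1, 2381, [[0, 0, 0]], [[0, 0, 0]]),
    (8533, 6, 420, [[0, 0, 0]], [[0, 0, 0, 0, 0]]),
    (8541, 4, 2658, [[0]], [[0]]),
    (8562, 7, 326, [[0, 0, 0, 0, 0, 0, 0, 0, 0, 0, 0, 0, 0, 0, 0, 0, 0, 0, 0]], [[0, 0, 0, 0, 0, 0, 0, 0, 0, 0, 0]]),
    (8570, 4, 2451, [[0, 0, 0, 0, 0, 0, 0, 0, 0, 0, 0]], [[0, 0, 0, 0, 0, 0, 0, 0, 0]]),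
    (8591, 2, 5077, [[0, 0, 0, 0, 0]], [[0, 0, 0, 0, 0]]),
    (8599, 5, 3921, [[0, 0, 0, 0, 0]], [[0, 0, 0, 0, 0]]),
    (8607, 5, 3888, [[0]], [[0]]),
    (8628, 8, 328, [[0, 0]], [[0, 0]]),
    (8632, 4, 328, [[0, 0, 0, 0, 0, 0, 0, 0, 0, 0, 0, 0, 0]], [[0, 0, 0, 0, 0, 0, 0, 0, 0, 0, 0, 0, 0]]),
    (8649, 6, 328, [[0, 0, 0, 0, 0, 0]], [[0, 0, 0, 0, 0, 0]]),
    (8666, 7, 328, [[0, 0, 0, 0, 0, 0, 0, 0, 0, 0, 0, 0, 0, 0, 0, 0, 0, 0, 0, 0, 0, 0, 0, 0, 0]], [[0, 0, 0, 0, 0, 0, 0, 0, 0, 0, 0, 0, 0, 0, 0, 0, 0, 0, 0, 0, 0, 0, 0, 0, 0]]),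
    (8683, 3, 328, [[0, 0, 0, 0, 0, 0, 0, 0, 0, 0, 0, 0]], [[0, 0, 0, 0, 0, 0, 0, 0, 0, 0, 0, 0]]),
    (8687, 4, 420, [[0, 0, 0]], [[0, 0, 0, 0, 0]]),
    (8704, 6, 716, [[0, 0]], [[0, 0, 0, 0]]),
    (8721, 2, 328, [[0, 0, 0, 0, 0]], [[0, 0, 0, 0, 0]]),
    (8725, 4, 2367, [[0, 0, 0, 0, 0, 0, 0, 0, 0]], [[0, 0, 0, 0, 0, 0, 0, 0, 0, 0, 0]]),
    (8742, 5, 332, [[0, 0, 0, 0, 0, 0, 0]], [[0, 0, 0, 0, 0, 0, 0]]),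
    (8759, 1, 328, [[0, 0, 0]], [[0, 0, 0]]),
    (8763, 5, 328, [[0, 0, 0, 0, 0, 0, 0, 0, 0, 0, 0]], [[0, 0, 0, 0, 0, 0, 0, 0, 0, 0, 0]]),
    (8780, 6, 3839, [[0, 0, 0]], [[0, 0, 0, 0, 0]]),
    (8798, 2, 2855, [[0, 0, 0, 0, 0]], [[0, 0, 0, 0, 0]]),
    (8811, 2, 2705, [[0, 0, 0, 0, 0]], [[0, 0, 0, 0, 0]]),
    (8824, 2, 2737, [[0, 0, 0, 0, 0]], [[0, 0, 0, 0, 0]]),
    (8837, 2, 2756, [[0, 0, 0, 0, 0]], [[0, 0, 0, 0, 0]]),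
    (8850, 2, 2788, [[0, 0, 0, 0, 0]], [[0, 0, 0, 0, 0]]),
    (8863, 2, 2820, [[0, 0, 0, 0, 0]], [[0, 0, 0, 0, 0]]),
    (8876, 2, 2839, [[0, 0, 0, 0, 0]], [[0, 0, 0, 0, 0]]),
    (8889, 2, 2871, [[0, 0, 0, 0, 0]], [[0, 0, 0, 0, 0]]),
    (8902, 2, 2721, [[0, 0, 0, 0, 0]], [[0, 0, 0, 0, 0]]),
    (8915, 2, 2753, [[0, 0, 0, 0, 0]], [[0, 0, 0, 0, 0]]),
    (8928, 2, 2772, [[0, 0, 0, 0, 0]], [[0, 0, 0, 0, 0]]),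
    (8941, 2, 2804, [[0, 0, 0, 0, 0]], [[0, 0, 0, 0, 0]]),
    (8954, 2, 2823, [[0, 0, 0, 0, 0]], [[0, 0, 0, 0, 0]]),
    (8967, 2, 335, [[0]], [[0]]),
    (8977, 7, 332, [[0]], [[0]]),
    (8987, 6, 3848, [[0, 0, 0, 0]], [[0, 0]]),
    (8997, 4, 2521, [[0, 0, 0, 0, 0]], [[0, 0, 0]]),
    (9020, 3, 336, [[0]], [[0]]),
    (9030, 8, 333, [[0]], [[0]]),
    (9040, 5, 334, [[0, 0, 0, 0, 0]], [[0, 0, 0, 0, 0]]),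
    (9050, 4, 418, [[0, 0, 0, 0, 0, 0, 0, 0, 0, 0, 0]], [[0, 0, 0, 0, 0, 0, 0, 0, 0]]),
    (9073, 4, 337, [[0]], [[0]]),
    (9083, 1, 334, [[0]], [[0]]),
    (9093, 6, 715, [[0, 0, 0, 0, 0]], [[0, 0, 0]]),
    (9103, 6, 328, [[0]], [[0]]),
    (9113, 5, 325, [[0]], [[0]]),
    (9136, 2, 5169, [[0]], [[0]]),
    (9143, 6, 421, [[0, 0, 0, 0]], [[0, 0]]),
    (9163, 3, 331, [[0, 0, 0, 0, 0, 0, 0]], [[0, 0]]),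
    (9170, 5, 3931, [[0, 0, 0, 0, 0, 0, 0]], [[0, 0, 0, 0, 0, 0, 0]]),
    (9190, 4, 2628, [[0, 0, 0, 0, 0, 0, 0, 0, 0, 0, 0, 0, 0]], [[0, 0, 0, 0, 0, 0, 0, 0, 0, 0, 0, 0, 0]]),
    (9197, 6, 2611, [[0, 0, 0, 0, 0]], [[0, 0, 0]]),
    (9204, 5, 3964, [[0, 0, 0, 0, 0, 0, 0, 0, 0, 0, 0]], [[0, 0, 0, 0, 0, 0, 0, 0, 0, 0, 0]]),
    (9224, 7, 328, [[0, 0, 0, 0, 0, 0, 0]], [[0, 0, 0, 0, 0, 0, 0, 0, 0, 0, 0, 0, 0, 0, 0]]),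
    (9231, 4, 727, [[0, 0, 0, 0, 0, 0, 0, 0, 0]], [[0, 0, 0, 0, 0, 0, 0, 0, 0, 0, 0]]),
    (9251, 8, 5498, [[0]], [[0]]),
    (9258, 4, 2522, [[0, 0, 0]], [[0, 0, 0, 0, 0]]),
    (9278, 1, 2423, [[0]], [[0]]),
    (9285, 6, 3719, [[0]], [[0]]),
    (9305, 2, 724, [[0]], [[0]]),
    (9309, 4, 2688, [[0, 0, 0, 0, 0, 0, 0, 0, 0]], [[0, 0, 0, 0, 0, 0, 0, 0, 0, 0, 0]])]

/-- Steps from class 0, part. -/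
def step0_11 : List (Nat × Nat × Nat × List (List Nat) × List (List Nat)) :=
  [(9326, 5, 727, [[0, 0, 0, 0, 0]], [[0, 0, 0, 0, 0]]),
    (9343, 1, 727, [[0]], [[0]]),
    (9347, 5, 715, [[0]], [[0]]),
    (9364, 6, 2688, [[0, 0, 0, 0]], [[0, 0]]),
    (9381, 8, 717, [[0]], [[0]]),
    (9398, 4, 718, [[0]], [[0]]),
    (9402, 6, 719, [[0]], [[0]]),
    (9419, 7, 331, [[0, 0, 0, 0, 0, 0, 0, 0, 0]], [[0, 0, 0]]),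
    (9436, 3, 325, [[0, 0, 0, 0, 0, 0, 0, 0, 0]], [[0, 0, 0]]),
    (9440, 4, 337, [[0, 0, 0]], [[0, 0, 0, 0, 0]]),
    (9457, 6, 426, [[0, 0]], [[0, 0, 0, 0]]),
    (9474, 2, 421, [[0]], [[0]]),
    (9488, 3, 335, [[0, 0, 0, 0, 0, 0, 0, 0, 0, 0]], [[0, 0, 0, 0]]),
    (9502, 4, 422, [[0]], [[0]]),
    (9503, 5, 416, [[0]], [[0]]),
    (9517, 4, 2804, [[0, 0, 0, 0, 0, 0, 0, 0, 0]], [[0, 0, 0, 0, 0, 0, 0, 0, 0, 0, 0]]),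
    (9531, 4, 716, [[0, 0, 0, 0, 0, 0, 0, 0, 0, 0, 0]], [[0, 0, 0, 0, 0, 0, 0, 0, 0]]),
    (9545, 6, 424, [[0]], [[0]]),
    (9559, 6, 2705, [[0, 0, 0]], [[0, 0, 0, 0, 0]]),
    (9573, 5, 427, [[0, 0, 0, 0, 0]], [[0, 0, 0, 0, 0]]),
    (9587, 6, 332, [[0, 0]], [[0, 0, 0, 0]]),
    (9601, 7, 326, [[0, 0, 0, 0, 0, 0, 0, 0, 0, 0, 0, 0, 0, 0, 0, 0, 0, 0, 0, 0, 0, 0, 0]], [[0, 0, 0, 0, 0, 0, 0, 0, 0, 0, 0, 0, 0, 0, 0, 0, 0]]),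
    (9615, 8, 420, [[0]], [[0]]),
    (9629, 1, 427, [[0]], [[0]]),
    (9643, 2, 2984, [[0, 0, 0, 0, 0]], [[0, 0, 0, 0, 0]]),
    (9654, 8, 3043, [[0, 0]], [[0, 0]]),
    (9665, 6, 3790, [[0, 0, 0, 0, 0]], [[0, 0, 0]]),
    (9676, 6, 724, [[0, 0, 0]], [[0, 0, 0, 0, 0]]),
    (9687, 4, 2721, [[0, 0, 0]], [[0, 0, 0, 0, 0]]),
    (9698, 5, 5710, [[0]], [[0]]),
    (9722, 3, 328, [[0, 0, 0, 0, 0, 0, 0, 0]], [[0, 0, 0, 0, 0]]),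
    (9733, 1, 2596, [[0]], [[0]]),
    (9744, 7, 336, [[0, 0, 0, 0, 0, 0, 0, 0, 0, 0, 0, 0, 0, 0, 0, 0, 0, 0, 0, 0, 0]], [[0, 0, 0, 0, 0]]),
    (9755, 5, 5720, [[0, 0, 0, 0, 0]], [[0, 0, 0, 0, 0]]),
    (9766, 6, 2823, [[0]], [[0]]),
    (9777, 4, 334, [[0, 0, 0, 0, 0, 0, 0, 0, 0]], [[0, 0, 0, 0, 0, 0, 0, 0, 0, 0, 0]]),
    (9801, 4, 2522, [[0]], [[0]]),
    (9812, 2, 2566, [[0, 0, 0, 0, 0]], [[0, 0, 0, 0, 0]]),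
    (9820, 5, 2437, [[0, 0, 0, 0, 0]], [[0, 0, 0, 0, 0]]),
    (9828, 5, 2507, [[0]], [[0]]),
    (9849, 8, 2756, [[0, 0]], [[0, 0]]),
    (9857, 6, 2703, [[0]], [[0]]),
    (9878, 3, 332, [[0, 0, 0, 0, 0, 0, 0, 0, 0, 0, 0]], [[0, 0, 0, 0, 0, 0]]),
    (9886, 6, 2855, [[0, 0, 0, 0, 0]], [[0, 0, 0]]),
    (9894, 4, 426, [[0, 0, 0, 0, 0]], [[0, 0, 0]]),
    (9915, 1, 5184, [[0, 0, 0]], [[0, 0, 0]]),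
    (9923, 6, 335, [[0, 0, 0]], [[0, 0, 0, 0, 0]]),
    (9944, 4, 2721, [[0]], [[0]]),
    (9952, 7, 334, [[0, 0, 0, 0, 0, 0, 0, 0, 0, 0, 0]], [[0, 0, 0, 0, 0, 0, 0, 0, 0, 0, 0, 0, 0, 0, 0, 0, 0, 0, 0]]),
    (9960, 4, 2628, [[0, 0, 0, 0, 0, 0, 0, 0, 0, 0, 0]], [[0, 0, 0, 0, 0, 0, 0, 0, 0]]),
    (9981, 2, 2551, [[0]], [[0]]),
    (9986, 4, 2581, [[0, 0, 0]], [[0, 0, 0, 0, 0]]),
    (10004, 7, 327, [[0, 0, 0, 0, 0, 0, 0, 0, 0, 0, 0, 0, 0, 0, 0]], [[0, 0, 0, 0, 0, 0, 0]]),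
    (10022, 4, 2756, [[0, 0, 0, 0, 0, 0, 0, 0, 0, 0, 0, 0, 0]], [[0, 0, 0, 0, 0, 0, 0, 0, 0, 0, 0, 0, 0]]),
    (10027, 6, 335, [[0, 0, 0, 0]], [[0, 0]]),
    (10045, 1, 5107, [[0]], [[0]]),
    (10050, 4, 427, [[0, 0, 0, 0, 0, 0, 0, 0, 0]], [[0, 0, 0, 0, 0, 0, 0, 0, 0, 0, 0]]),
    (10068, 6, 2737, [[0, 0]], [[0, 0, 0, 0]]),
    (10086, 3, 333, [[0, 0]], [[0, 0, 0, 0, 0, 0, 0]]),
    (10091, 6, 2673, [[0, 0, 0, 0, 0, 0]], [[0, 0, 0, 0, 0, 0]]),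
    (10109, 8, 2871, [[0]], [[0]]),
    (10114, 5, 2395, [[0, 0, 0, 0, 0, 0, 0, 0, 0, 0, 0]], [[0, 0, 0, 0, 0, 0, 0, 0, 0, 0, 0]]),
    (10132, 5, 2465, [[0, 0, 0, 0, 0, 0, 0]], [[0, 0, 0, 0, 0, 0, 0]]),
    (10150, 2, 3039, [[0]], [[0]])]

/-- Steps from class 0, part. -/
def step0_12 : List (Nat × Nat × Nat × List (List Nat) × List (List Nat)) :=
  [(10165, 4, 2367, [[0, 0, 0, 0, 0, 0, 0, 0, 0, 0, 0, 0, 0]], [[0, 0, 0, 0, 0, 0, 0, 0, 0, 0, 0, 0, 0]]),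
    (10167, 4, 332, [[0, 0, 0, 0, 0]], [[0, 0, 0]]),
    (10182, 6, 2756, [[0, 0, 0, 0, 0, 0]], [[0, 0, 0, 0, 0, 0]]),
    (10197, 5, 5690, [[0, 0, 0, 0, 0, 0, 0]], [[0, 0, 0, 0, 0, 0, 0]]),
    (10212, 7, 325, [[0, 0, 0, 0, 0]], [[0, 0, 0, 0, 0, 0, 0, 0, 0, 0, 0, 0, 0, 0, 0, 0, 0, 0, 0, 0, 0]]),
    (10227, 1, 2581, [[0, 0, 0]], [[0, 0, 0]]),
    (10242, 3, 337, [[0, 0, 0, 0, 0]], [[0, 0, 0, 0, 0, 0, 0, 0]]),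
    (10244, 5, 5700, [[0, 0, 0, 0, 0, 0, 0, 0, 0, 0, 0]], [[0, 0, 0, 0, 0, 0, 0, 0, 0, 0, 0]]),
    (10259, 4, 2756, [[0, 0, 0, 0, 0, 0, 0, 0, 0, 0, 0]], [[0, 0, 0, 0, 0, 0, 0, 0, 0]]),
    (10274, 6, 724, [[0, 0, 0, 0]], [[0, 0]]),
    (10289, 6, 3750, [[0, 0]], [[0, 0, 0, 0]]),
    (10304, 8, 3143, [[0]], [[0]]),
    (10319, 2, 418, [[0, 0, 0, 0, 0]], [[0, 0, 0, 0, 0]]),
    (10331, 1, 418, [[0, 0, 0]], [[0, 0, 0]]),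
    (10343, 8, 418, [[0, 0]], [[0, 0]]),
    (10355, 7, 335, [[0, 0, 0]], [[0, 0, 0, 0, 0, 0, 0, 0, 0]]),
    (10367, 6, 325, [[0, 0, 0, 0, 0]], [[0, 0, 0]]),
    (10379, 5, 420, [[0, 0, 0, 0, 0, 0, 0]], [[0, 0, 0, 0, 0, 0, 0]]),
    (10391, 6, 2705, [[0, 0, 0, 0]], [[0, 0]]),
    (10403, 6, 418, [[0, 0, 0, 0, 0, 0]], [[0, 0, 0, 0, 0, 0]]),
    (10415, 4, 718, [[0, 0, 0]], [[0, 0, 0, 0, 0]]),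
    (10427, 4, 2855, [[0, 0, 0, 0, 0]], [[0, 0, 0]]),
    (10439, 5, 418, [[0, 0, 0, 0, 0, 0, 0, 0, 0, 0, 0]], [[0, 0, 0, 0, 0, 0, 0, 0, 0, 0, 0]]),
    (10464, 4, 418, [[0, 0, 0, 0, 0, 0, 0, 0, 0, 0, 0, 0, 0]], [[0, 0, 0, 0, 0, 0, 0, 0, 0, 0, 0, 0, 0]]),
    (10476, 3, 330, [[0, 0, 0]], [[0, 0, 0, 0, 0, 0, 0, 0, 0]]),
    (10488, 2, 716, [[0, 0, 0, 0, 0]], [[0, 0, 0, 0, 0]]),
    (10497, 6, 416, [[0, 0, 0, 0, 0]], [[0, 0, 0]]),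
    (10506, 4, 329, [[0, 0, 0, 0, 0, 0, 0, 0, 0, 0, 0]], [[0, 0, 0, 0, 0, 0, 0, 0, 0]]),
    (10528, 3, 327, [[0, 0, 0, 0]], [[0, 0, 0, 0, 0, 0, 0, 0, 0, 0]]),
    (10537, 7, 330, [[0, 0, 0, 0, 0, 0, 0, 0, 0, 0, 0, 0, 0, 0, 0, 0, 0]], [[0, 0, 0, 0, 0, 0, 0, 0, 0, 0, 0, 0, 0, 0, 0, 0, 0, 0, 0, 0, 0, 0, 0]]),
    (10546, 6, 716, [[0, 0, 0, 0, 0, 0]], [[0, 0, 0, 0, 0, 0]]),
    (10568, 4, 716, [[0, 0, 0, 0, 0, 0, 0, 0, 0, 0, 0, 0, 0]], [[0, 0, 0, 0, 0, 0, 0, 0, 0, 0, 0, 0, 0]]),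
    (10577, 8, 716, [[0, 0]], [[0, 0]]),
    (10586, 6, 2688, [[0, 0, 0]], [[0, 0, 0, 0, 0]]),
    (10595, 5, 716, [[0, 0, 0, 0, 0, 0, 0, 0, 0, 0, 0]], [[0, 0, 0, 0, 0, 0, 0, 0, 0, 0, 0]]),
    (10617, 1, 716, [[0, 0, 0]], [[0, 0, 0]]),
    (10626, 5, 717, [[0, 0, 0, 0, 0, 0, 0]], [[0, 0, 0, 0, 0, 0, 0]]),
    (10635, 4, 2703, [[0, 0, 0, 0, 0]], [[0, 0, 0]]),
    (10657, 2, 5092, [[0, 0, 0, 0, 0]], [[0, 0, 0, 0, 0]]),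
    (10663, 6, 3821, [[0, 0, 0, 0, 0, 0]], [[0, 0, 0, 0, 0, 0]]),
    (10682, 1, 2479, [[0, 0, 0]], [[0, 0, 0]]),
    (10688, 4, 2367, [[0, 0, 0, 0, 0, 0, 0, 0, 0, 0, 0]], [[0, 0, 0, 0, 0, 0, 0, 0, 0]]),
    (10707, 8, 5434, [[0, 0]], [[0, 0]]),
    (10713, 4, 720, [[0, 0, 0, 0, 0]], [[0, 0, 0]]),
    (10732, 7, 333, [[0, 0, 0, 0, 0, 0, 0, 0, 0, 0, 0, 0, 0, 0, 0, 0, 0, 0, 0]], [[0, 0, 0, 0, 0, 0, 0, 0, 0, 0, 0]]),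
    (10738, 5, 3984, [[0]], [[0]]),
    (10757, 6, 2596, [[0, 0]], [[0, 0, 0, 0]]),
    (10776, 4, 2581, [[0]], [[0]]),
    (10782, 5, 4004, [[0, 0, 0, 0, 0]], [[0, 0, 0, 0, 0]]),
    (10801, 3, 334, [[0, 0, 0, 0, 0, 0]], [[0, 0, 0, 0, 0, 0, 0, 0, 0, 0, 0]]),
    (10807, 6, 421, [[0, 0, 0]], [[0, 0, 0, 0, 0]]),
    (10826, 2, 329, [[0, 0, 0, 0, 0]], [[0, 0, 0, 0, 0]]),
    (10829, 5, 329, [[0, 0, 0, 0, 0, 0, 0, 0, 0, 0, 0]], [[0, 0, 0, 0, 0, 0, 0, 0, 0, 0, 0]]),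
    (10845, 6, 329, [[0, 0, 0, 0, 0, 0]], [[0, 0, 0, 0, 0, 0]]),
    (10861, 6, 720, [[0, 0]], [[0, 0, 0, 0]]),
    (10877, 1, 329, [[0, 0, 0]], [[0, 0, 0]]),
    (10893, 4, 329, [[0, 0, 0, 0, 0, 0, 0, 0, 0, 0, 0, 0, 0]], [[0, 0, 0, 0, 0, 0, 0, 0, 0, 0, 0, 0, 0]]),
    (10896, 4, 422, [[0, 0, 0]], [[0, 0, 0, 0, 0]]),
    (10912, 5, 333, [[0, 0, 0, 0, 0, 0, 0]], [[0, 0, 0, 0, 0, 0, 0]]),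
    (10928, 8, 329, [[0, 0]], [[0, 0]]),
    (10944, 3, 329, [[0, 0, 0, 0, 0, 0, 0, 0, 0, 0, 0, 0]], [[0, 0, 0, 0, 0, 0, 0, 0, 0, 0, 0, 0]]),
    (10947, 4, 2381, [[0, 0, 0, 0, 0, 0, 0, 0, 0]], [[0, 0, 0, 0, 0, 0, 0, 0, 0, 0, 0]]),
    (10963, 6, 3848, [[0, 0, 0]], [[0, 0, 0, 0, 0]]),
    (10979, 7, 329, [[0, 0, 0, 0, 0, 0, 0, 0, 0, 0, 0, 0, 0, 0, 0, 0, 0, 0, 0, 0, 0, 0, 0, 0, 0]], [[0, 0, 0, 0, 0, 0, 0, 0, 0, 0, 0, 0, 0, 0, 0, 0, 0, 0, 0, 0, 0, 0, 0, 0, 0]])]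

/-- Steps from class 0, part. -/
def step0_13 : List (Nat × Nat × Nat × List (List Nat) × List (List Nat)) :=
  [(10993, 1, 3166, [[0, 0, 0]], [[0, 0, 0]]),
    (11006, 1, 3043, [[0, 0, 0]], [[0, 0, 0]]),
    (11019, 1, 3102, [[0, 0, 0]], [[0, 0, 0]]),
    (11032, 1, 3148, [[0, 0, 0]], [[0, 0, 0]]),
    (11045, 1, 3207, [[0, 0, 0]], [[0, 0, 0]]),
    (11058, 1, 3084, [[0, 0, 0]], [[0, 0, 0]]),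
    (11071, 1, 3143, [[0, 0, 0]], [[0, 0, 0]]),
    (11084, 1, 3189, [[0, 0, 0]], [[0, 0, 0]]),
    (11097, 1, 3079, [[0, 0, 0]], [[0, 0, 0]]),
    (11110, 1, 3125, [[0, 0, 0]], [[0, 0, 0]]),
    (11123, 1, 3184, [[0, 0, 0]], [[0, 0, 0]]),
    (11136, 1, 3061, [[0, 0, 0]], [[0, 0, 0]]),
    (11149, 1, 3107, [[0, 0, 0]], [[0, 0, 0]]),
    (11162, 1, 333, [[0]], [[0]]),
    (11170, 6, 3839, [[0, 0, 0, 0]], [[0, 0]]),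
    (11191, 4, 336, [[0]], [[0]]),
    (11199, 7, 331, [[0]], [[0]]),
    (11207, 4, 416, [[0, 0, 0, 0, 0, 0, 0, 0, 0, 0, 0]], [[0, 0, 0, 0, 0, 0, 0, 0, 0]]),
    (11228, 2, 334, [[0]], [[0]]),
    (11236, 5, 333, [[0, 0, 0, 0, 0]], [[0, 0, 0, 0, 0]]),
    (11257, 5, 337, [[0]], [[0]]),
    (11265, 8, 332, [[0]], [[0]]),
    (11273, 6, 327, [[0]], [[0]]),
    (11294, 3, 335, [[0]], [[0]]),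
    (11302, 6, 724, [[0, 0, 0, 0, 0]], [[0, 0, 0]]),
    (11310, 4, 2507, [[0, 0, 0, 0, 0]], [[0, 0, 0]]),
    (11331, 1, 2507, [[0]], [[0]]),
    (11347, 4, 2536, [[0, 0, 0, 0, 0, 0, 0, 0, 0, 0, 0, 0, 0]], [[0, 0, 0, 0, 0, 0, 0, 0, 0, 0, 0, 0, 0]]),
    (11350, 4, 2437, [[0, 0, 0]], [[0, 0, 0, 0, 0]]),
    (11366, 5, 4004, [[0, 0, 0, 0, 0, 0, 0]], [[0, 0, 0, 0, 0, 0, 0]]),
    (11382, 8, 5482, [[0]], [[0]]),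
    (11398, 3, 337, [[0, 0, 0, 0, 0, 0, 0]], [[0, 0]]),
    (11401, 4, 725, [[0, 0, 0, 0, 0, 0, 0, 0, 0]], [[0, 0, 0, 0, 0, 0, 0, 0, 0, 0, 0]]),
    (11417, 6, 420, [[0, 0, 0, 0]], [[0, 0]]),
    (11433, 7, 334, [[0, 0, 0, 0, 0, 0, 0]], [[0, 0, 0, 0, 0, 0, 0, 0, 0, 0, 0, 0, 0, 0, 0]]),
    (11449, 2, 5154, [[0]], [[0]]),
    (11465, 5, 4037, [[0, 0, 0, 0, 0, 0, 0, 0, 0, 0, 0]], [[0, 0, 0, 0, 0, 0, 0, 0, 0, 0, 0]]),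
    (11468, 6, 3799, [[0]], [[0]]),
    (11484, 6, 2688, [[0, 0, 0, 0, 0]], [[0, 0, 0]]),
    (11500, 1, 717, [[0]], [[0]]),
    (11511, 7, 335, [[0, 0, 0, 0, 0, 0, 0, 0, 0]], [[0, 0, 0]]),
    (11522, 5, 717, [[0, 0, 0, 0, 0]], [[0, 0, 0, 0, 0]]),
    (11533, 6, 722, [[0]], [[0]]),
    (11544, 4, 2566, [[0, 0, 0, 0, 0, 0, 0, 0, 0]], [[0, 0, 0, 0, 0, 0, 0, 0, 0, 0, 0]]),
    (11568, 4, 721, [[0]], [[0]]),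
    (11579, 2, 727, [[0]], [[0]]),
    (11590, 8, 720, [[0]], [[0]]),
    (11601, 6, 421, [[0, 0]], [[0, 0, 0, 0]]),
    (11612, 6, 2566, [[0, 0, 0, 0]], [[0, 0]]),
    (11623, 4, 328, [[0, 0, 0]], [[0, 0, 0, 0, 0]]),
    (11647, 5, 718, [[0]], [[0]]),
    (11658, 3, 329, [[0, 0, 0, 0, 0, 0, 0, 0, 0]], [[0, 0, 0]]),
    (11669, 1, 420, [[0]], [[0]]),
    (11675, 4, 715, [[0, 0, 0, 0, 0, 0, 0, 0, 0, 0, 0]], [[0, 0, 0, 0, 0, 0, 0, 0, 0]]),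
    (11694, 8, 426, [[0]], [[0]]),
    (11700, 4, 2839, [[0, 0, 0, 0, 0, 0, 0, 0, 0]], [[0, 0, 0, 0, 0, 0, 0, 0, 0, 0, 0]]),
    (11719, 7, 329, [[0, 0, 0, 0, 0, 0, 0, 0, 0, 0, 0, 0, 0, 0, 0, 0, 0, 0, 0, 0, 0, 0, 0]], [[0, 0, 0, 0, 0, 0, 0, 0, 0, 0, 0, 0, 0, 0, 0, 0, 0]]),
    (11738, 5, 422, [[0]], [[0]]),
    (11744, 6, 335, [[0, 0]], [[0, 0, 0, 0]]),
    (11763, 4, 428, [[0]], [[0]]),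
    (11769, 5, 420, [[0, 0, 0, 0, 0]], [[0, 0, 0, 0, 0]]),
    (11788, 3, 325, [[0, 0, 0, 0, 0, 0, 0, 0, 0, 0]], [[0, 0, 0, 0]]),
    (11794, 6, 2753, [[0, 0, 0]], [[0, 0, 0, 0, 0]]),
    (11813, 2, 427, [[0]], [[0]])]

/-- Steps from class 0, part. -/
def step0_14 : List (Nat × Nat × Nat × List (List Nat) × List (List Nat)) :=
  [(11819, 6, 417, [[0]], [[0]]),
    (11838, 1, 2658, [[0]], [[0]]),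
    (11852, 2, 2874, [[0, 0, 0, 0, 0]], [[0, 0, 0, 0, 0]]),
    (11866, 3, 333, [[0, 0, 0, 0, 0, 0, 0, 0]], [[0, 0, 0, 0, 0]]),
    (11880, 4, 2423, [[0]], [[0]]),
    (11894, 5, 5680, [[0]], [[0]]),
    (11895, 4, 326, [[0, 0, 0, 0, 0, 0, 0, 0, 0]], [[0, 0, 0, 0, 0, 0, 0, 0, 0, 0, 0]]),
    (11909, 4, 2788, [[0, 0, 0]], [[0, 0, 0, 0, 0]]),
    (11923, 6, 2721, [[0]], [[0]]),
    (11937, 6, 718, [[0, 0, 0]], [[0, 0, 0, 0, 0]]),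
    (11951, 5, 5690, [[0, 0, 0, 0, 0]], [[0, 0, 0, 0, 0]]),
    (11965, 6, 3848, [[0, 0, 0, 0, 0]], [[0, 0, 0]]),
    (11979, 7, 328, [[0, 0, 0, 0, 0, 0, 0, 0, 0, 0, 0, 0, 0, 0, 0, 0, 0, 0, 0, 0, 0]], [[0, 0, 0, 0, 0]]),
    (11993, 8, 3107, [[0, 0]], [[0, 0]]),
    (12007, 1, 5231, [[0, 0, 0]], [[0, 0, 0]]),
    (12016, 5, 2465, [[0, 0, 0, 0, 0]], [[0, 0, 0, 0, 0]]),
    (12025, 4, 417, [[0, 0, 0, 0, 0]], [[0, 0, 0]]),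
    (12047, 2, 2596, [[0, 0, 0, 0, 0]], [[0, 0, 0, 0, 0]]),
    (12056, 6, 2705, [[0, 0, 0, 0, 0]], [[0, 0, 0]]),
    (12065, 4, 2658, [[0, 0, 0, 0, 0, 0, 0, 0, 0, 0, 0]], [[0, 0, 0, 0, 0, 0, 0, 0, 0]]),
    (12087, 3, 334, [[0, 0, 0, 0, 0, 0, 0, 0, 0, 0, 0]], [[0, 0, 0, 0, 0, 0]]),
    (12096, 7, 336, [[0, 0, 0, 0, 0, 0, 0, 0, 0, 0, 0]], [[0, 0, 0, 0, 0, 0, 0, 0, 0, 0, 0, 0, 0, 0, 0, 0, 0, 0, 0]]),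
    (12105, 6, 2551, [[0]], [[0]]),
    (12127, 4, 2753, [[0]], [[0]]),
    (12136, 8, 2788, [[0, 0]], [[0, 0]]),
    (12145, 6, 337, [[0, 0, 0]], [[0, 0, 0, 0, 0]]),
    (12167, 5, 2522, [[0]], [[0]]),
    (12176, 1, 5216, [[0]], [[0]]),
    (12193, 5, 2367, [[0, 0, 0, 0, 0, 0, 0, 0, 0, 0, 0]], [[0, 0, 0, 0, 0, 0, 0, 0, 0, 0, 0]]),
    (12197, 6, 333, [[0, 0, 0, 0]], [[0, 0]]),
    (12214, 8, 2839, [[0]], [[0]]),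
    (12231, 4, 2737, [[0, 0, 0, 0, 0, 0, 0, 0, 0, 0, 0, 0, 0]], [[0, 0, 0, 0, 0, 0, 0, 0, 0, 0, 0, 0, 0]]),
    (12235, 6, 2643, [[0, 0, 0, 0, 0, 0]], [[0, 0, 0, 0, 0, 0]]),
    (12252, 7, 325, [[0, 0, 0, 0, 0, 0, 0, 0, 0, 0, 0, 0, 0, 0, 0]], [[0, 0, 0, 0, 0, 0, 0]]),
    (12269, 3, 331, [[0, 0]], [[0, 0, 0, 0, 0, 0, 0]]),
    (12273, 4, 2551, [[0, 0, 0]], [[0, 0, 0, 0, 0]]),
    (12290, 6, 2705, [[0, 0]], [[0, 0, 0, 0]]),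
    (12307, 2, 2703, [[0]], [[0]]),
    (12311, 4, 423, [[0, 0, 0, 0, 0, 0, 0, 0, 0]], [[0, 0, 0, 0, 0, 0, 0, 0, 0, 0, 0]]),
    (12328, 5, 2437, [[0, 0, 0, 0, 0, 0, 0]], [[0, 0, 0, 0, 0, 0, 0]]),
    (12345, 1, 2688, [[0, 0, 0]], [[0, 0, 0]]),
    (12357, 8, 3079, [[0]], [[0]]),
    (12369, 7, 333, [[0, 0, 0, 0, 0]], [[0, 0, 0, 0, 0, 0, 0, 0, 0, 0, 0, 0, 0, 0, 0, 0, 0, 0, 0, 0, 0]]),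
    (12381, 6, 3848, [[0, 0]], [[0, 0, 0, 0]]),
    (12393, 5, 5720, [[0, 0, 0, 0, 0, 0, 0]], [[0, 0, 0, 0, 0, 0, 0]]),
    (12405, 6, 717, [[0, 0, 0, 0]], [[0, 0]]),
    (12417, 6, 2871, [[0, 0, 0, 0, 0, 0]], [[0, 0, 0, 0, 0, 0]]),
    (12429, 4, 2871, [[0, 0, 0, 0, 0, 0, 0, 0, 0, 0, 0]], [[0, 0, 0, 0, 0, 0, 0, 0, 0]]),
    (12441, 4, 327, [[0, 0, 0, 0, 0]], [[0, 0, 0]]),
    (12466, 5, 5743, [[0, 0, 0, 0, 0, 0, 0, 0, 0, 0, 0]], [[0, 0, 0, 0, 0, 0, 0, 0, 0, 0, 0]]),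
    (12478, 4, 2479, [[0, 0, 0, 0, 0, 0, 0, 0, 0, 0, 0, 0, 0]], [[0, 0, 0, 0, 0, 0, 0, 0, 0, 0, 0, 0, 0]]),
    (12490, 3, 332, [[0, 0, 0, 0, 0]], [[0, 0, 0, 0, 0, 0, 0, 0]]),
    (12502, 2, 2967, [[0]], [[0]]),
    (12514, 1, 425, [[0, 0, 0]], [[0, 0, 0]]),
    (12521, 6, 425, [[0, 0, 0, 0, 0, 0]], [[0, 0, 0, 0, 0, 0]]),
    (12541, 2, 425, [[0, 0, 0, 0, 0]], [[0, 0, 0, 0, 0]]),
    (12548, 6, 2839, [[0, 0, 0, 0]], [[0, 0]]),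
    (12568, 3, 327, [[0, 0, 0]], [[0, 0, 0, 0, 0, 0, 0, 0, 0]]),
    (12575, 5, 427, [[0, 0, 0, 0, 0, 0, 0]], [[0, 0, 0, 0, 0, 0, 0]]),
    (12595, 4, 425, [[0, 0, 0, 0, 0, 0, 0, 0, 0, 0, 0, 0, 0]], [[0, 0, 0, 0, 0, 0, 0, 0, 0, 0, 0, 0, 0]]),
    (12602, 6, 335, [[0, 0, 0, 0, 0]], [[0, 0, 0]]),
    (12622, 5, 425, [[0, 0, 0, 0, 0, 0, 0, 0, 0, 0, 0]], [[0, 0, 0, 0, 0, 0, 0, 0, 0, 0, 0]]),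
    (12629, 7, 332, [[0, 0, 0]], [[0, 0, 0, 0, 0, 0, 0, 0, 0]]),
    (12636, 4, 2820, [[0, 0, 0, 0, 0]], [[0, 0, 0]])]

/-- Steps from class 0, part. -/
def step0_15 : List (Nat × Nat × Nat × List (List Nat) × List (List Nat)) :=
  [(12656, 8, 425, [[0, 0]], [[0, 0]]),
    (12663, 4, 719, [[0, 0, 0]], [[0, 0, 0, 0, 0]]),
    (12683, 1, 726, [[0, 0, 0]], [[0, 0, 0]]),
    (12698, 3, 336, [[0, 0, 0, 0]], [[0, 0, 0, 0, 0, 0, 0, 0, 0, 0]]),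
    (12713, 5, 726, [[0, 0, 0, 0, 0, 0, 0, 0, 0, 0, 0]], [[0, 0, 0, 0, 0, 0, 0, 0, 0, 0, 0]]),
    (12715, 4, 325, [[0, 0, 0, 0, 0, 0, 0, 0, 0, 0, 0]], [[0, 0, 0, 0, 0, 0, 0, 0, 0]]),
    (12730, 6, 2628, [[0, 0, 0]], [[0, 0, 0, 0, 0]]),
    (12745, 6, 421, [[0, 0, 0, 0, 0]], [[0, 0, 0]]),
    (12760, 8, 726, [[0, 0]], [[0, 0]]),
    (12775, 2, 726, [[0, 0, 0, 0, 0]], [[0, 0, 0, 0, 0]]),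
    (12790, 4, 726, [[0, 0, 0, 0, 0, 0, 0, 0, 0, 0, 0, 0, 0]], [[0, 0, 0, 0, 0, 0, 0, 0, 0, 0, 0, 0, 0]]),
    (12792, 4, 2643, [[0, 0, 0, 0, 0]], [[0, 0, 0]]),
    (12807, 6, 726, [[0, 0, 0, 0, 0, 0]], [[0, 0, 0, 0, 0, 0]]),
    (12822, 5, 727, [[0, 0, 0, 0, 0, 0, 0]], [[0, 0, 0, 0, 0, 0, 0]]),
    (12837, 7, 326, [[0, 0, 0, 0, 0, 0, 0, 0, 0, 0, 0, 0, 0, 0, 0, 0, 0]], [[0, 0, 0, 0, 0, 0, 0, 0, 0, 0, 0, 0, 0, 0, 0, 0, 0, 0, 0, 0, 0, 0, 0]]),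
    (12852, 1, 2395, [[0, 0, 0]], [[0, 0, 0]]),
    (12862, 6, 2688, [[0, 0]], [[0, 0, 0, 0]]),
    (12872, 6, 3741, [[0, 0, 0, 0, 0, 0]], [[0, 0, 0, 0, 0, 0]]),
    (12895, 5, 3911, [[0]], [[0]]),
    (12905, 2, 5107, [[0, 0, 0, 0, 0]], [[0, 0, 0, 0, 0]]),
    (12915, 7, 327, [[0, 0, 0, 0, 0, 0, 0, 0, 0, 0, 0, 0, 0, 0, 0, 0, 0, 0, 0]], [[0, 0, 0, 0, 0, 0, 0, 0, 0, 0, 0]]),
    (12925, 6, 422, [[0, 0, 0]], [[0, 0, 0, 0, 0]]),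
    (12935, 4, 722, [[0, 0, 0, 0, 0]], [[0, 0, 0]]),
    (12958, 3, 328, [[0, 0, 0, 0, 0, 0]], [[0, 0, 0, 0, 0, 0, 0, 0, 0, 0, 0]]),
    (12968, 8, 5450, [[0, 0]], [[0, 0]]),
    (12978, 5, 3931, [[0, 0, 0, 0, 0]], [[0, 0, 0, 0, 0]]),
    (12988, 4, 2465, [[0, 0, 0, 0, 0, 0, 0, 0, 0, 0, 0]], [[0, 0, 0, 0, 0, 0, 0, 0, 0]]),
    (13011, 4, 2673, [[0]], [[0]]),
    (13021, 1, 330, [[0, 0, 0]], [[0, 0, 0]]),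
    (13026, 4, 2395, [[0, 0, 0, 0, 0, 0, 0, 0, 0]], [[0, 0, 0, 0, 0, 0, 0, 0, 0, 0, 0]]),
    (13044, 6, 724, [[0, 0]], [[0, 0, 0, 0]]),
    (13062, 3, 330, [[0, 0, 0, 0, 0, 0, 0, 0, 0, 0, 0, 0]], [[0, 0, 0, 0, 0, 0, 0, 0, 0, 0, 0, 0]]),
    (13067, 6, 330, [[0, 0, 0, 0, 0, 0]], [[0, 0, 0, 0, 0, 0]]),
    (13085, 8, 330, [[0, 0]], [[0, 0]]),
    (13103, 5, 330, [[0, 0, 0, 0, 0, 0, 0, 0, 0, 0, 0]], [[0, 0, 0, 0, 0, 0, 0, 0, 0, 0, 0]]),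
    (13108, 5, 334, [[0, 0, 0, 0, 0, 0, 0]], [[0, 0, 0, 0, 0, 0, 0]]),
    (13126, 2, 330, [[0, 0, 0, 0, 0]], [[0, 0, 0, 0, 0]]),
    (13131, 4, 424, [[0, 0, 0]], [[0, 0, 0, 0, 0]]),
    (13149, 7, 330, [[0, 0, 0, 0, 0, 0, 0, 0, 0, 0, 0, 0, 0, 0, 0, 0, 0, 0, 0, 0, 0, 0, 0, 0, 0]], [[0, 0, 0, 0, 0, 0, 0, 0, 0, 0, 0, 0, 0, 0, 0, 0, 0, 0, 0, 0, 0, 0, 0, 0, 0]]),
    (13167, 4, 330, [[0, 0, 0, 0, 0, 0, 0, 0, 0, 0, 0, 0, 0]], [[0, 0, 0, 0, 0, 0, 0, 0, 0, 0, 0, 0, 0]]),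
    (13172, 6, 3870, [[0, 0, 0]], [[0, 0, 0, 0, 0]]),
    (13193, 5, 2643, [[0, 0, 0, 0, 0, 0, 0, 0, 0, 0, 0]], [[0, 0, 0, 0, 0, 0, 0, 0, 0, 0, 0]]),
    (13206, 5, 2536, [[0, 0, 0, 0, 0, 0, 0, 0, 0, 0, 0]], [[0, 0, 0, 0, 0, 0, 0, 0, 0, 0, 0]]),
    (13219, 5, 2611, [[0, 0, 0, 0, 0, 0, 0, 0, 0, 0, 0]], [[0, 0, 0, 0, 0, 0, 0, 0, 0, 0, 0]]),
    (13232, 5, 2673, [[0, 0, 0, 0, 0, 0, 0, 0, 0, 0, 0]], [[0, 0, 0, 0, 0, 0, 0, 0, 0, 0, 0]]),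
    (13245, 5, 2566, [[0, 0, 0, 0, 0, 0, 0, 0, 0, 0, 0]], [[0, 0, 0, 0, 0, 0, 0, 0, 0, 0, 0]]),
    (13258, 5, 2628, [[0, 0, 0, 0, 0, 0, 0, 0, 0, 0, 0]], [[0, 0, 0, 0, 0, 0, 0, 0, 0, 0, 0]]),
    (13271, 5, 2703, [[0, 0, 0, 0, 0, 0, 0, 0, 0, 0, 0]], [[0, 0, 0, 0, 0, 0, 0, 0, 0, 0, 0]]),
    (13284, 5, 2596, [[0, 0, 0, 0, 0, 0, 0, 0, 0, 0, 0]], [[0, 0, 0, 0, 0, 0, 0, 0, 0, 0, 0]]),
    (13297, 5, 2658, [[0, 0, 0, 0, 0, 0, 0, 0, 0, 0, 0]], [[0, 0, 0, 0, 0, 0, 0, 0, 0, 0, 0]]),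
    (13310, 5, 2551, [[0, 0, 0, 0, 0, 0, 0, 0, 0, 0, 0]], [[0, 0, 0, 0, 0, 0, 0, 0, 0, 0, 0]]),
    (13323, 5, 2613, [[0, 0, 0, 0, 0, 0, 0, 0, 0, 0, 0]], [[0, 0, 0, 0, 0, 0, 0, 0, 0, 0, 0]]),
    (13336, 5, 2688, [[0, 0, 0, 0, 0, 0, 0, 0, 0, 0, 0]], [[0, 0, 0, 0, 0, 0, 0, 0, 0, 0, 0]]),
    (13349, 5, 2581, [[0, 0, 0, 0, 0, 0, 0, 0, 0, 0, 0]], [[0, 0, 0, 0, 0, 0, 0, 0, 0, 0, 0]]),
    (13362, 5, 336, [[0]], [[0]]),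
    (13373, 3, 334, [[0]], [[0]]),
    (13384, 1, 332, [[0]], [[0]]),
    (13395, 7, 330, [[0]], [[0]]),
    (13406, 5, 332, [[0, 0, 0, 0, 0]], [[0, 0, 0, 0, 0]]),
    (13417, 6, 326, [[0]], [[0]]),
    (13441, 4, 2493, [[0, 0, 0, 0, 0]], [[0, 0, 0]]),
    (13452, 4, 335, [[0]], [[0]]),
    (13463, 2, 333, [[0]], [[0]]),
    (13474, 8, 331, [[0]], [[0]])]

/-- Steps from class 0, part. -/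
def step0_16 : List (Nat × Nat × Nat × List (List Nat) × List (List Nat)) :=
  [(13485, 6, 720, [[0, 0, 0, 0, 0]], [[0, 0, 0]]),
    (13496, 6, 3830, [[0, 0, 0, 0]], [[0, 0]]),
    (13507, 4, 427, [[0, 0, 0, 0, 0, 0, 0, 0, 0, 0, 0]], [[0, 0, 0, 0, 0, 0, 0, 0, 0]]),
    (13531, 5, 3941, [[0, 0, 0, 0, 0, 0, 0, 0, 0, 0, 0]], [[0, 0, 0, 0, 0, 0, 0, 0, 0, 0, 0]]),
    (13540, 1, 2409, [[0]], [[0]]),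
    (13549, 5, 3921, [[0, 0, 0, 0, 0, 0, 0]], [[0, 0, 0, 0, 0, 0, 0]]),
    (13571, 4, 723, [[0, 0, 0, 0, 0, 0, 0, 0, 0]], [[0, 0, 0, 0, 0, 0, 0, 0, 0, 0, 0]]),
    (13580, 2, 5139, [[0]], [[0]]),
    (13589, 6, 2596, [[0, 0, 0, 0, 0]], [[0, 0, 0]]),
    (13598, 4, 2521, [[0, 0, 0]], [[0, 0, 0, 0, 0]]),
    (13620, 3, 330, [[0, 0, 0, 0, 0, 0, 0]], [[0, 0]]),
    (13629, 7, 327, [[0, 0, 0, 0, 0, 0, 0]], [[0, 0, 0, 0, 0, 0, 0, 0, 0, 0, 0, 0, 0, 0, 0]]),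
    (13638, 6, 3879, [[0]], [[0]]),
    (13660, 4, 2613, [[0, 0, 0, 0, 0, 0, 0, 0, 0, 0, 0, 0, 0]], [[0, 0, 0, 0, 0, 0, 0, 0, 0, 0, 0, 0, 0]]),
    (13669, 8, 5466, [[0]], [[0]]),
    (13678, 6, 419, [[0, 0, 0, 0]], [[0, 0]]),
    (13700, 5, 721, [[0]], [[0]]),
    (13707, 7, 326, [[0, 0, 0, 0, 0, 0, 0, 0, 0]], [[0, 0, 0]]),
    (13727, 4, 2613, [[0, 0, 0, 0, 0, 0, 0, 0, 0]], [[0, 0, 0, 0, 0, 0, 0, 0, 0, 0, 0]]),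
    (13734, 8, 723, [[0]], [[0]]),
    (13741, 4, 332, [[0, 0, 0]], [[0, 0, 0, 0, 0]]),
    (13761, 1, 720, [[0]], [[0]]),
    (13768, 6, 725, [[0]], [[0]]),
    (13788, 2, 717, [[0]], [[0]]),
    (13795, 6, 2613, [[0, 0, 0, 0]], [[0, 0]]),
    (13815, 3, 333, [[0, 0, 0, 0, 0, 0, 0, 0, 0]], [[0, 0, 0]]),
    (13822, 5, 720, [[0, 0, 0, 0, 0]], [[0, 0, 0, 0, 0]]),
    (13842, 4, 724, [[0]], [[0]]),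
    (13849, 6, 416, [[0, 0]], [[0, 0, 0, 0]]),
    (13869, 5, 428, [[0]], [[0]]),
    (13874, 5, 426, [[0, 0, 0, 0, 0]], [[0, 0, 0, 0, 0]]),
    (13892, 2, 420, [[0]], [[0]]),
    (13897, 4, 727, [[0, 0, 0, 0, 0, 0, 0, 0, 0, 0, 0]], [[0, 0, 0, 0, 0, 0, 0, 0, 0]]),
    (13915, 7, 332, [[0, 0, 0, 0, 0, 0, 0, 0, 0, 0, 0, 0, 0, 0, 0, 0, 0, 0, 0, 0, 0, 0, 0]], [[0, 0, 0, 0, 0, 0, 0, 0, 0, 0, 0, 0, 0, 0, 0, 0, 0]]),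
    (13933, 4, 421, [[0]], [[0]]),
    (13938, 6, 2788, [[0, 0, 0]], [[0, 0, 0, 0, 0]]),
    (13956, 1, 426, [[0]], [[0]]),
    (13974, 4, 2705, [[0, 0, 0, 0, 0, 0, 0, 0, 0]], [[0, 0, 0, 0, 0, 0, 0, 0, 0, 0, 0]]),
    (13979, 6, 325, [[0, 0]], [[0, 0, 0, 0]]),
    (13997, 3, 328, [[0, 0, 0, 0, 0, 0, 0, 0, 0, 0]], [[0, 0, 0, 0]]),
    (14002, 6, 423, [[0]], [[0]]),
    (14020, 8, 419, [[0]], [[0]]),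
    (14038, 5, 5637, [[0]], [[0]]),
    (14041, 6, 2788, [[0]], [[0]]),
    (14057, 6, 3750, [[0, 0, 0, 0, 0]], [[0, 0, 0]]),
    (14073, 1, 2551, [[0]], [[0]]),
    (14089, 4, 2493, [[0]], [[0]]),
    (14092, 4, 2855, [[0, 0, 0]], [[0, 0, 0, 0, 0]]),
    (14108, 5, 5647, [[0, 0, 0, 0, 0]], [[0, 0, 0, 0, 0]]),
    (14124, 8, 3184, [[0, 0]], [[0, 0]]),
    (14140, 3, 325, [[0, 0, 0, 0, 0, 0, 0, 0]], [[0, 0, 0, 0, 0]]),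
    (14156, 4, 331, [[0, 0, 0, 0, 0, 0, 0, 0, 0]], [[0, 0, 0, 0, 0, 0, 0, 0, 0, 0, 0]]),
    (14159, 6, 725, [[0, 0, 0]], [[0, 0, 0, 0, 0]]),
    (14175, 7, 333, [[0, 0, 0, 0, 0, 0, 0, 0, 0, 0, 0, 0, 0, 0, 0, 0, 0, 0, 0, 0, 0]], [[0, 0, 0, 0, 0]]),
    (14191, 2, 2946, [[0, 0, 0, 0, 0]], [[0, 0, 0, 0, 0]]),
    (14207, 5, 2381, [[0]], [[0]]),
    (14221, 4, 421, [[0, 0, 0, 0, 0]], [[0, 0, 0]]),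
    (14222, 4, 2688, [[0, 0, 0, 0, 0, 0, 0, 0, 0, 0, 0]], [[0, 0, 0, 0, 0, 0, 0, 0, 0]]),
    (14236, 6, 2581, [[0]], [[0]]),
    (14250, 6, 326, [[0, 0, 0]], [[0, 0, 0, 0, 0]]),
    (14264, 5, 2493, [[0, 0, 0, 0, 0]], [[0, 0, 0, 0, 0]]),
    (14278, 6, 2737, [[0, 0, 0, 0, 0]], [[0, 0, 0]]),
    (14292, 7, 325, [[0, 0, 0, 0, 0, 0, 0, 0, 0, 0, 0]], [[0, 0, 0, 0, 0, 0, 0, 0, 0, 0, 0, 0, 0, 0, 0, 0, 0, 0, 0]]),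
    (14306, 8, 2820, [[0, 0]], [[0, 0]])]

/-- Steps from class 0, part. -/
def step0_17 : List (Nat × Nat × Nat × List (List Nat) × List (List Nat)) :=
  [(14320, 1, 5109, [[0, 0, 0]], [[0, 0, 0]]),
    (14334, 2, 2613, [[0, 0, 0, 0, 0]], [[0, 0, 0, 0, 0]]),
    (14348, 3, 336, [[0, 0, 0, 0, 0, 0, 0, 0, 0, 0, 0]], [[0, 0, 0, 0, 0, 0]]),
    (14362, 4, 2772, [[0]], [[0]]),
    (14376, 5, 2521, [[0, 0, 0, 0, 0, 0, 0, 0, 0, 0, 0]], [[0, 0, 0, 0, 0, 0, 0, 0, 0, 0, 0]]),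
    (14388, 4, 2705, [[0, 0, 0, 0, 0, 0, 0, 0, 0, 0, 0, 0, 0]], [[0, 0, 0, 0, 0, 0, 0, 0, 0, 0, 0, 0, 0]]),
    (14400, 3, 329, [[0, 0]], [[0, 0, 0, 0, 0, 0, 0]]),
    (14412, 2, 2673, [[0]], [[0]]),
    (14424, 1, 5169, [[0]], [[0]]),
    (14436, 8, 2820, [[0]], [[0]]),
    (14448, 7, 336, [[0, 0, 0, 0, 0, 0, 0, 0, 0, 0, 0, 0, 0, 0, 0]], [[0, 0, 0, 0, 0, 0, 0]]),
    (14460, 6, 2855, [[0, 0]], [[0, 0, 0, 0]]),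
    (14472, 5, 2409, [[0, 0, 0, 0, 0, 0, 0]], [[0, 0, 0, 0, 0, 0, 0]]),
    (14484, 6, 331, [[0, 0, 0, 0]], [[0, 0]]),
    (14496, 6, 2613, [[0, 0, 0, 0, 0, 0]], [[0, 0, 0, 0, 0, 0]]),
    (14508, 4, 2703, [[0, 0, 0]], [[0, 0, 0, 0, 0]]),
    (14533, 4, 419, [[0, 0, 0, 0, 0, 0, 0, 0, 0]], [[0, 0, 0, 0, 0, 0, 0, 0, 0, 0, 0]]),
    (14545, 5, 5604, [[0, 0, 0, 0, 0, 0, 0, 0, 0, 0, 0]], [[0, 0, 0, 0, 0, 0, 0, 0, 0, 0, 0]]),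
    (14555, 2, 2908, [[0]], [[0]]),
    (14565, 7, 328, [[0, 0, 0, 0, 0]], [[0, 0, 0, 0, 0, 0, 0, 0, 0, 0, 0, 0, 0, 0, 0, 0, 0, 0, 0, 0, 0]]),
    (14575, 6, 723, [[0, 0, 0, 0]], [[0, 0]]),
    (14598, 4, 335, [[0, 0, 0, 0, 0]], [[0, 0, 0]]),
    (14608, 3, 327, [[0, 0, 0, 0, 0]], [[0, 0, 0, 0, 0, 0, 0, 0]]),
    (14618, 8, 3184, [[0]], [[0]]),
    (14628, 5, 5594, [[0, 0, 0, 0, 0, 0, 0]], [[0, 0, 0, 0, 0, 0, 0]]),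
    (14638, 4, 2804, [[0, 0, 0, 0, 0, 0, 0, 0, 0, 0, 0]], [[0, 0, 0, 0, 0, 0, 0, 0, 0]]),
    (14661, 4, 2409, [[0, 0, 0, 0, 0, 0, 0, 0, 0, 0, 0, 0, 0]], [[0, 0, 0, 0, 0, 0, 0, 0, 0, 0, 0, 0, 0]]),
    (14671, 1, 2613, [[0, 0, 0]], [[0, 0, 0]]),
    (14681, 6, 3790, [[0, 0]], [[0, 0, 0, 0]]),
    (14691, 6, 2804, [[0, 0, 0, 0, 0, 0]], [[0, 0, 0, 0, 0, 0]]),
    (14714, 5, 419, [[0, 0, 0, 0, 0, 0, 0, 0, 0, 0, 0]], [[0, 0, 0, 0, 0, 0, 0, 0, 0, 0, 0]]),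
    (14722, 8, 419, [[0, 0]], [[0, 0]]),
    (14730, 6, 419, [[0, 0, 0, 0, 0, 0]], [[0, 0, 0, 0, 0, 0]]),
    (14751, 3, 337, [[0, 0, 0]], [[0, 0, 0, 0, 0, 0, 0, 0, 0]]),
    (14759, 6, 332, [[0, 0, 0, 0, 0]], [[0, 0, 0]]),
    (14780, 4, 2772, [[0, 0, 0, 0, 0]], [[0, 0, 0]]),
    (14788, 1, 419, [[0, 0, 0]], [[0, 0, 0]]),
    (14796, 6, 2804, [[0, 0, 0, 0]], [[0, 0]]),
    (14817, 4, 419, [[0, 0, 0, 0, 0, 0, 0, 0, 0, 0, 0, 0, 0]], [[0, 0, 0, 0, 0, 0, 0, 0, 0, 0, 0, 0, 0]]),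
    (14825, 7, 329, [[0, 0, 0]], [[0, 0, 0, 0, 0, 0, 0, 0, 0]]),
    (14833, 4, 720, [[0, 0, 0]], [[0, 0, 0, 0, 0]]),
    (14854, 2, 419, [[0, 0, 0, 0, 0]], [[0, 0, 0, 0, 0]]),
    (14862, 5, 421, [[0, 0, 0, 0, 0, 0, 0]], [[0, 0, 0, 0, 0, 0, 0]]),
    (14883, 5, 723, [[0, 0, 0, 0, 0, 0, 0, 0, 0, 0, 0]], [[0, 0, 0, 0, 0, 0, 0, 0, 0, 0, 0]]),
    (14889, 6, 426, [[0, 0, 0, 0, 0]], [[0, 0, 0]]),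
    (14908, 4, 723, [[0, 0, 0, 0, 0, 0, 0, 0, 0, 0, 0, 0, 0]], [[0, 0, 0, 0, 0, 0, 0, 0, 0, 0, 0, 0, 0]]),
    (14914, 5, 724, [[0, 0, 0, 0, 0, 0, 0]], [[0, 0, 0, 0, 0, 0, 0]]),
    (14933, 3, 332, [[0, 0, 0, 0]], [[0, 0, 0, 0, 0, 0, 0, 0, 0, 0]]),
    (14939, 6, 2581, [[0, 0, 0]], [[0, 0, 0, 0, 0]]),
    (14958, 2, 723, [[0, 0, 0, 0, 0]], [[0, 0, 0, 0, 0]]),
    (14964, 6, 723, [[0, 0, 0, 0, 0, 0]], [[0, 0, 0, 0, 0, 0]]),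
    (14983, 1, 723, [[0, 0, 0]], [[0, 0, 0]]),
    (14989, 4, 334, [[0, 0, 0, 0, 0, 0, 0, 0, 0, 0, 0]], [[0, 0, 0, 0, 0, 0, 0, 0, 0]]),
    (15008, 8, 723, [[0, 0]], [[0, 0]]),
    (15027, 4, 2596, [[0, 0, 0, 0, 0]], [[0, 0, 0]]),
    (15033, 7, 335, [[0, 0, 0, 0, 0, 0, 0, 0, 0, 0, 0, 0, 0, 0, 0, 0, 0]], [[0, 0, 0, 0, 0, 0, 0, 0, 0, 0, 0, 0, 0, 0, 0, 0, 0, 0, 0, 0, 0, 0, 0]]),
    (15052, 5, 3994, [[0]], [[0]]),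
    (15056, 6, 423, [[0, 0, 0]], [[0, 0, 0, 0, 0]]),
    (15073, 8, 5466, [[0, 0]], [[0, 0]]),
    (15090, 4, 2596, [[0]], [[0]]),
    (15094, 6, 3830, [[0, 0, 0, 0, 0, 0]], [[0, 0, 0, 0, 0, 0]]),
    (15111, 7, 334, [[0, 0, 0, 0, 0, 0, 0, 0, 0, 0, 0, 0, 0, 0, 0, 0, 0, 0, 0]], [[0, 0, 0, 0, 0, 0, 0, 0, 0, 0, 0]]),
    (15128, 3, 335, [[0, 0, 0, 0, 0, 0]], [[0, 0, 0, 0, 0, 0, 0, 0, 0, 0, 0]]),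
    (15132, 4, 2381, [[0, 0, 0, 0, 0, 0, 0, 0, 0, 0, 0]], [[0, 0, 0, 0, 0, 0, 0, 0, 0]])]

/-- Steps from class 0, part. -/
def step0_18 : List (Nat × Nat × Nat × List (List Nat) × List (List Nat)) :=
  [(15149, 6, 2611, [[0, 0]], [[0, 0, 0, 0]]),
    (15166, 2, 5109, [[0, 0, 0, 0, 0]], [[0, 0, 0, 0, 0]]),
    (15183, 4, 724, [[0, 0, 0, 0, 0]], [[0, 0, 0]]),
    (15187, 5, 4027, [[0, 0, 0, 0, 0]], [[0, 0, 0, 0, 0]]),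
    (15204, 1, 2493, [[0, 0, 0]], [[0, 0, 0]]),
    (15221, 5, 331, [[0, 0, 0, 0, 0, 0, 0, 0, 0, 0, 0]], [[0, 0, 0, 0, 0, 0, 0, 0, 0, 0, 0]]),
    (15223, 4, 426, [[0, 0, 0]], [[0, 0, 0, 0, 0]]),
    (15238, 6, 3879, [[0, 0, 0]], [[0, 0, 0, 0, 0]]),
    (15253, 6, 715, [[0, 0]], [[0, 0, 0, 0]]),
    (15268, 8, 331, [[0, 0]], [[0, 0]]),
    (15283, 2, 331, [[0, 0, 0, 0, 0]], [[0, 0, 0, 0, 0]]),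
    (15298, 4, 331, [[0, 0, 0, 0, 0, 0, 0, 0, 0, 0, 0, 0, 0]], [[0, 0, 0, 0, 0, 0, 0, 0, 0, 0, 0, 0, 0]]),
    (15313, 4, 2409, [[0, 0, 0, 0, 0, 0, 0, 0, 0]], [[0, 0, 0, 0, 0, 0, 0, 0, 0, 0, 0]]),
    (15315, 6, 331, [[0, 0, 0, 0, 0, 0]], [[0, 0, 0, 0, 0, 0]]),
    (15330, 5, 335, [[0, 0, 0, 0, 0, 0, 0]], [[0, 0, 0, 0, 0, 0, 0]]),
    (15345, 7, 331, [[0, 0, 0, 0, 0, 0, 0, 0, 0, 0, 0, 0, 0, 0, 0, 0, 0, 0, 0, 0, 0, 0, 0, 0, 0]], [[0, 0, 0, 0, 0, 0, 0, 0, 0, 0, 0, 0, 0, 0, 0, 0, 0, 0, 0, 0, 0, 0, 0, 0, 0]]),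
    (15360, 1, 331, [[0, 0, 0]], [[0, 0, 0]]),
    (15375, 3, 331, [[0, 0, 0, 0, 0, 0, 0, 0, 0, 0, 0, 0]], [[0, 0, 0, 0, 0, 0, 0, 0, 0, 0, 0, 0]]),
    (15381, 5, 2643, [[0, 0, 0, 0, 0]], [[0, 0, 0, 0, 0]]),
    (15394, 5, 2581, [[0, 0, 0, 0, 0]], [[0, 0, 0, 0, 0]]),
    (15407, 5, 2688, [[0, 0, 0, 0, 0]], [[0, 0, 0, 0, 0]]),
    (15420, 5, 2613, [[0, 0, 0, 0, 0]], [[0, 0, 0, 0, 0]]),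
    (15433, 5, 2551, [[0, 0, 0, 0, 0]], [[0, 0, 0, 0, 0]]),
    (15446, 5, 2658, [[0, 0, 0, 0, 0]], [[0, 0, 0, 0, 0]]),
    (15459, 5, 2596, [[0, 0, 0, 0, 0]], [[0, 0, 0, 0, 0]]),
    (15472, 5, 2703, [[0, 0, 0, 0, 0]], [[0, 0, 0, 0, 0]]),
    (15485, 5, 2628, [[0, 0, 0, 0, 0]], [[0, 0, 0, 0, 0]]),
    (15498, 5, 2566, [[0, 0, 0, 0, 0]], [[0, 0, 0, 0, 0]]),
    (15511, 5, 2673, [[0, 0, 0, 0, 0]], [[0, 0, 0, 0, 0]]),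
    (15524, 5, 2611, [[0, 0, 0, 0, 0]], [[0, 0, 0, 0, 0]]),
    (15537, 5, 2536, [[0, 0, 0, 0, 0]], [[0, 0, 0, 0, 0]]),
    (15550, 5, 331, [[0, 0, 0, 0, 0]], [[0, 0, 0, 0, 0]]),
    (15565, 7, 329, [[0]], [[0]]),
    (15580, 1, 331, [[0]], [[0]]),
    (15595, 3, 333, [[0]], [[0]]),
    (15610, 5, 335, [[0]], [[0]]),
    (15625, 4, 425, [[0, 0, 0, 0, 0, 0, 0, 0, 0, 0, 0]], [[0, 0, 0, 0, 0, 0, 0, 0, 0]]),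
    (15627, 6, 3821, [[0, 0, 0, 0]], [[0, 0]]),
    (15642, 6, 716, [[0, 0, 0, 0, 0]], [[0, 0, 0]]),
    (15657, 8, 330, [[0]], [[0]]),
    (15672, 2, 332, [[0]], [[0]]),
    (15687, 4, 334, [[0]], [[0]]),
    (15702, 4, 2479, [[0, 0, 0, 0, 0]], [[0, 0, 0]]),
    (15704, 6, 325, [[0]], [[0]]),
    (15719, 5, 3994, [[0, 0, 0, 0, 0, 0, 0]], [[0, 0, 0, 0, 0, 0, 0]]),
    (15736, 1, 2493, [[0]], [[0]]),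
    (15753, 5, 4027, [[0, 0, 0, 0, 0, 0, 0, 0, 0, 0, 0]], [[0, 0, 0, 0, 0, 0, 0, 0, 0, 0, 0]]),
    (15757, 6, 418, [[0, 0, 0, 0]], [[0, 0]]),
    (15774, 8, 5450, [[0]], [[0]]),
    (15791, 4, 2703, [[0, 0, 0, 0, 0, 0, 0, 0, 0, 0, 0, 0, 0]], [[0, 0, 0, 0, 0, 0, 0, 0, 0, 0, 0, 0, 0]]),
    (15795, 6, 3790, [[0]], [[0]]),
    (15812, 7, 333, [[0, 0, 0, 0, 0, 0, 0]], [[0, 0, 0, 0, 0, 0, 0, 0, 0, 0, 0, 0, 0, 0, 0]]),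
    (15829, 3, 336, [[0, 0, 0, 0, 0, 0, 0]], [[0, 0]]),
    (15846, 4, 2423, [[0, 0, 0]], [[0, 0, 0, 0, 0]]),
    (15850, 6, 2673, [[0, 0, 0, 0, 0]], [[0, 0, 0]]),
    (15867, 2, 5124, [[0]], [[0]]),
    (15884, 4, 721, [[0, 0, 0, 0, 0, 0, 0, 0, 0]], [[0, 0, 0, 0, 0, 0, 0, 0, 0, 0, 0]]),
    (15888, 5, 723, [[0, 0, 0, 0, 0]], [[0, 0, 0, 0, 0]]),
    (15907, 3, 337, [[0, 0, 0, 0, 0, 0, 0, 0, 0]], [[0, 0, 0]]),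
    (15913, 6, 2673, [[0, 0, 0, 0]], [[0, 0]]),
    (15932, 2, 720, [[0]], [[0]]),
    (15938, 6, 715, [[0]], [[0]]),
    (15957, 1, 723, [[0]], [[0]]),
    (15976, 4, 336, [[0, 0, 0]], [[0, 0, 0, 0, 0]])]

/-- Steps from class 0, part. -/
def step0_19 : List (Nat × Nat × Nat × List (List Nat) × List (List Nat)) :=
  [(15982, 8, 726, [[0]], [[0]]),
    (16001, 4, 2673, [[0, 0, 0, 0, 0, 0, 0, 0, 0]], [[0, 0, 0, 0, 0, 0, 0, 0, 0, 0, 0]]),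
    (16007, 7, 330, [[0, 0, 0, 0, 0, 0, 0, 0, 0]], [[0, 0, 0]]),
    (16026, 5, 724, [[0]], [[0]]),
    (16032, 6, 424, [[0, 0]], [[0, 0, 0, 0]]),
    (16051, 4, 727, [[0]], [[0]]),
    (16057, 5, 419, [[0, 0, 0, 0, 0]], [[0, 0, 0, 0, 0]]),
    (16078, 5, 421, [[0]], [[0]]),
    (16086, 8, 425, [[0]], [[0]]),
    (16094, 6, 416, [[0]], [[0]]),
    (16115, 3, 331, [[0, 0, 0, 0, 0, 0, 0, 0, 0, 0]], [[0, 0, 0, 0]]),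
    (16123, 6, 328, [[0, 0]], [[0, 0, 0, 0]]),
    (16144, 4, 2753, [[0, 0, 0, 0, 0, 0, 0, 0, 0]], [[0, 0, 0, 0, 0, 0, 0, 0, 0, 0, 0]]),
    (16152, 1, 419, [[0]], [[0]]),
    (16160, 6, 2823, [[0, 0, 0]], [[0, 0, 0, 0, 0]]),
    (16181, 4, 427, [[0]], [[0]]),
    (16189, 7, 335, [[0, 0, 0, 0, 0, 0, 0, 0, 0, 0, 0, 0, 0, 0, 0, 0, 0, 0, 0, 0, 0, 0, 0]], [[0, 0, 0, 0, 0, 0, 0, 0, 0, 0, 0, 0, 0, 0, 0, 0, 0]]),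
    (16210, 4, 726, [[0, 0, 0, 0, 0, 0, 0, 0, 0, 0, 0]], [[0, 0, 0, 0, 0, 0, 0, 0, 0]]),
    (16218, 2, 426, [[0]], [[0]]),
    (16226, 5, 5604, [[0, 0, 0, 0, 0]], [[0, 0, 0, 0, 0]]),
    (16249, 4, 2753, [[0, 0, 0]], [[0, 0, 0, 0, 0]]),
    (16259, 4, 2381, [[0]], [[0]]),
    (16269, 1, 2613, [[0]], [[0]]),
    (16279, 6, 3821, [[0, 0, 0, 0, 0]], [[0, 0, 0]]),
    (16289, 6, 2855, [[0]], [[0]]),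
    (16312, 5, 5594, [[0]], [[0]]),
    (16322, 2, 3005, [[0, 0, 0, 0, 0]], [[0, 0, 0, 0, 0]]),
    (16332, 7, 325, [[0, 0, 0, 0, 0, 0, 0, 0, 0, 0, 0, 0, 0, 0, 0, 0, 0, 0, 0, 0, 0]], [[0, 0, 0, 0, 0]]),
    (16342, 6, 719, [[0, 0, 0]], [[0, 0, 0, 0, 0]]),
    (16365, 4, 336, [[0, 0, 0, 0, 0, 0, 0, 0, 0]], [[0, 0, 0, 0, 0, 0, 0, 0, 0, 0, 0]]),
    (16375, 3, 330, [[0, 0, 0, 0, 0, 0, 0, 0]], [[0, 0, 0, 0, 0]]),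
    (16385, 8, 3079, [[0, 0]], [[0, 0]]),
    (16395, 5, 2521, [[0, 0, 0, 0, 0]], [[0, 0, 0, 0, 0]]),
    (16407, 6, 328, [[0, 0, 0]], [[0, 0, 0, 0, 0]]),
    (16419, 6, 2611, [[0]], [[0]]),
    (16444, 4, 2536, [[0, 0, 0, 0, 0, 0, 0, 0, 0, 0, 0]], [[0, 0, 0, 0, 0, 0, 0, 0, 0]]),
    (16456, 4, 425, [[0, 0, 0, 0, 0]], [[0, 0, 0]]),
    (16468, 5, 2409, [[0]], [[0]]),
    (16480, 4, 2804, [[0]], [[0]]),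
    (16492, 3, 325, [[0, 0, 0, 0, 0, 0, 0, 0, 0, 0, 0]], [[0, 0, 0, 0, 0, 0]]),
    (16504, 2, 2643, [[0, 0, 0, 0, 0]], [[0, 0, 0, 0, 0]]),
    (16516, 1, 5169, [[0, 0, 0]], [[0, 0, 0]]),
    (16528, 8, 2839, [[0, 0]], [[0, 0]]),
    (16540, 7, 327, [[0, 0, 0, 0, 0, 0, 0, 0, 0, 0, 0]], [[0, 0, 0, 0, 0, 0, 0, 0, 0, 0, 0, 0, 0, 0, 0, 0, 0, 0, 0]]),
    (16552, 6, 2756, [[0, 0, 0, 0, 0]], [[0, 0, 0]]),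
    (16564, 5, 2381, [[0, 0, 0, 0, 0, 0, 0]], [[0, 0, 0, 0, 0, 0, 0]]),
    (16578, 6, 2823, [[0, 0]], [[0, 0, 0, 0]]),
    (16592, 7, 334, [[0, 0, 0, 0, 0, 0, 0, 0, 0, 0, 0, 0, 0, 0, 0]], [[0, 0, 0, 0, 0, 0, 0]]),
    (16606, 8, 2788, [[0]], [[0]]),
    (16620, 1, 5109, [[0]], [[0]]),
    (16634, 2, 2643, [[0]], [[0]]),
    (16648, 3, 327, [[0, 0]], [[0, 0, 0, 0, 0, 0, 0]]),
    (16662, 4, 2855, [[0, 0, 0, 0, 0, 0, 0, 0, 0, 0, 0, 0, 0]], [[0, 0, 0, 0, 0, 0, 0, 0, 0, 0, 0, 0, 0]]),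
    (16676, 5, 2493, [[0, 0, 0, 0, 0, 0, 0, 0, 0, 0, 0]], [[0, 0, 0, 0, 0, 0, 0, 0, 0, 0, 0]]),
    (16690, 4, 428, [[0, 0, 0, 0, 0, 0, 0, 0, 0]], [[0, 0, 0, 0, 0, 0, 0, 0, 0, 0, 0]]),
    (16704, 4, 2673, [[0, 0, 0]], [[0, 0, 0, 0, 0]]),
    (16705, 6, 2596, [[0, 0, 0, 0, 0, 0]], [[0, 0, 0, 0, 0, 0]]),
    (16719, 6, 329, [[0, 0, 0, 0]], [[0, 0]]),
    (16733, 5, 5637, [[0, 0, 0, 0, 0, 0, 0]], [[0, 0, 0, 0, 0, 0, 0]]),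
    (16749, 8, 3107, [[0]], [[0]]),
    (16765, 3, 335, [[0, 0, 0, 0, 0]], [[0, 0, 0, 0, 0, 0, 0, 0]]),
    (16781, 4, 330, [[0, 0, 0, 0, 0]], [[0, 0, 0]]),
    (16784, 6, 716, [[0, 0, 0, 0]], [[0, 0]]),
    (16800, 7, 336, [[0, 0, 0, 0, 0]], [[0, 0, 0, 0, 0, 0, 0, 0, 0, 0, 0, 0, 0, 0, 0, 0, 0, 0, 0, 0, 0]])]

/-- Steps from class 0, part. -/
def step0_20 : List (Nat × Nat × Nat × List (List Nat) × List (List Nat)) :=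
  [(16816, 2, 3005, [[0]], [[0]]),
    (16832, 5, 5647, [[0, 0, 0, 0, 0, 0, 0, 0, 0, 0, 0]], [[0, 0, 0, 0, 0, 0, 0, 0, 0, 0, 0]]),
    (16835, 6, 2737, [[0, 0, 0, 0, 0, 0]], [[0, 0, 0, 0, 0, 0]]),
    (16851, 6, 3719, [[0, 0]], [[0, 0, 0, 0]]),
    (16867, 1, 2551, [[0, 0, 0]], [[0, 0, 0]]),
    (16883, 4, 2521, [[0, 0, 0, 0, 0, 0, 0, 0, 0, 0, 0, 0, 0]], [[0, 0, 0, 0, 0, 0, 0, 0, 0, 0, 0, 0, 0]]),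
    (16899, 4, 2737, [[0, 0, 0, 0, 0, 0, 0, 0, 0, 0, 0]], [[0, 0, 0, 0, 0, 0, 0, 0, 0]]),
    (16902, 5, 428, [[0, 0, 0, 0, 0, 0, 0]], [[0, 0, 0, 0, 0, 0, 0]]),
    (16920, 2, 426, [[0, 0, 0, 0, 0]], [[0, 0, 0, 0, 0]]),
    (16938, 4, 721, [[0, 0, 0]], [[0, 0, 0, 0, 0]]),
    (16943, 7, 326, [[0, 0, 0]], [[0, 0, 0, 0, 0, 0, 0, 0, 0]]),
    (16961, 4, 426, [[0, 0, 0, 0, 0, 0, 0, 0, 0, 0, 0, 0, 0]], [[0, 0, 0, 0, 0, 0, 0, 0, 0, 0, 0, 0, 0]]),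
    (16966, 6, 2756, [[0, 0, 0, 0]], [[0, 0]]),
    (16984, 1, 426, [[0, 0, 0]], [[0, 0, 0]]),
    (17002, 4, 2737, [[0, 0, 0, 0, 0]], [[0, 0, 0]]),
    (17007, 6, 329, [[0, 0, 0, 0, 0]], [[0, 0, 0]]),
    (17025, 3, 334, [[0, 0, 0]], [[0, 0, 0, 0, 0, 0, 0, 0, 0]]),
    (17030, 6, 426, [[0, 0, 0, 0, 0, 0]], [[0, 0, 0, 0, 0, 0]]),
    (17048, 8, 426, [[0, 0]], [[0, 0]]),
    (17066, 5, 426, [[0, 0, 0, 0, 0, 0, 0, 0, 0, 0, 0]], [[0, 0, 0, 0, 0, 0, 0, 0, 0, 0, 0]]),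
    (17071, 5, 721, [[0, 0, 0, 0, 0, 0, 0]], [[0, 0, 0, 0, 0, 0, 0]]),
    (17091, 4, 720, [[0, 0, 0, 0, 0, 0, 0, 0, 0, 0, 0, 0, 0]], [[0, 0, 0, 0, 0, 0, 0, 0, 0, 0, 0, 0, 0]]),
    (17098, 6, 418, [[0, 0, 0, 0, 0]], [[0, 0, 0]]),
    (17118, 5, 720, [[0, 0, 0, 0, 0, 0, 0, 0, 0, 0, 0]], [[0, 0, 0, 0, 0, 0, 0, 0, 0, 0, 0]]),
    (17125, 7, 331, [[0, 0, 0, 0, 0, 0, 0, 0, 0, 0, 0, 0, 0, 0, 0, 0, 0]], [[0, 0, 0, 0, 0, 0, 0, 0, 0, 0, 0, 0, 0, 0, 0, 0, 0, 0, 0, 0, 0, 0, 0]]),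
    (17145, 4, 2536, [[0, 0, 0, 0, 0]], [[0, 0, 0]]),
    (17152, 8, 720, [[0, 0]], [[0, 0]]),
    (17172, 4, 330, [[0, 0, 0, 0, 0, 0, 0, 0, 0, 0, 0]], [[0, 0, 0, 0, 0, 0, 0, 0, 0]]),
    (17179, 1, 720, [[0, 0, 0]], [[0, 0, 0]]),
    (17186, 6, 720, [[0, 0, 0, 0, 0, 0]], [[0, 0, 0, 0, 0, 0]]),
    (17206, 2, 720, [[0, 0, 0, 0, 0]], [[0, 0, 0, 0, 0]]),
    (17213, 6, 2703, [[0, 0, 0]], [[0, 0, 0, 0, 0]]),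
    (17233, 3, 328, [[0, 0, 0, 0]], [[0, 0, 0, 0, 0, 0, 0, 0, 0, 0]]),
    (17240, 5, 3941, [[0, 0, 0, 0, 0]], [[0, 0, 0, 0, 0]]),
    (17262, 4, 726, [[0, 0, 0, 0, 0]], [[0, 0, 0]]),
    (17271, 2, 5124, [[0, 0, 0, 0, 0]], [[0, 0, 0, 0, 0]]),
    (17280, 6, 2703, [[0, 0]], [[0, 0, 0, 0]]),
    (17302, 4, 2479, [[0, 0, 0, 0, 0, 0, 0, 0, 0, 0, 0]], [[0, 0, 0, 0, 0, 0, 0, 0, 0]]),
    (17311, 3, 329, [[0, 0, 0, 0, 0, 0]], [[0, 0, 0, 0, 0, 0, 0, 0, 0, 0, 0]]),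
    (17320, 7, 328, [[0, 0, 0, 0, 0, 0, 0, 0, 0, 0, 0, 0, 0, 0, 0, 0, 0, 0, 0]], [[0, 0, 0, 0, 0, 0, 0, 0, 0, 0, 0]]),
    (17329, 6, 3750, [[0, 0, 0, 0, 0, 0]], [[0, 0, 0, 0, 0, 0]]),
    (17351, 4, 2688, [[0]], [[0]]),
    (17360, 8, 5482, [[0, 0]], [[0, 0]]),
    (17369, 6, 424, [[0, 0, 0]], [[0, 0, 0, 0, 0]]),
    (17391, 5, 3921, [[0]], [[0]]),
    (17400, 1, 2409, [[0, 0, 0]], [[0, 0, 0]]),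
    (17409, 5, 336, [[0, 0, 0, 0, 0, 0, 0]], [[0, 0, 0, 0, 0, 0, 0]]),
    (17420, 6, 332, [[0, 0, 0, 0, 0, 0]], [[0, 0, 0, 0, 0, 0]]),
    (17444, 4, 2423, [[0, 0, 0, 0, 0, 0, 0, 0, 0]], [[0, 0, 0, 0, 0, 0, 0, 0, 0, 0, 0]]),
    (17455, 4, 332, [[0, 0, 0, 0, 0, 0, 0, 0, 0, 0, 0, 0, 0]], [[0, 0, 0, 0, 0, 0, 0, 0, 0, 0, 0, 0, 0]]),
    (17466, 2, 332, [[0, 0, 0, 0, 0]], [[0, 0, 0, 0, 0]]),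
    (17477, 8, 332, [[0, 0]], [[0, 0]]),
    (17488, 6, 719, [[0, 0]], [[0, 0, 0, 0]]),
    (17499, 6, 3719, [[0, 0, 0]], [[0, 0, 0, 0, 0]]),
    (17523, 4, 428, [[0, 0, 0]], [[0, 0, 0, 0, 0]]),
    (17534, 5, 332, [[0, 0, 0, 0, 0, 0, 0, 0, 0, 0, 0]], [[0, 0, 0, 0, 0, 0, 0, 0, 0, 0, 0]]),
    (17545, 3, 332, [[0, 0, 0, 0, 0, 0, 0, 0, 0, 0, 0, 0]], [[0, 0, 0, 0, 0, 0, 0, 0, 0, 0, 0, 0]]),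
    (17556, 1, 332, [[0, 0, 0]], [[0, 0, 0]]),
    (17567, 7, 332, [[0, 0, 0, 0, 0, 0, 0, 0, 0, 0, 0, 0, 0, 0, 0, 0, 0, 0, 0, 0, 0, 0, 0, 0, 0]], [[0, 0, 0, 0, 0, 0, 0, 0, 0, 0, 0, 0, 0, 0, 0, 0, 0, 0, 0, 0, 0, 0, 0, 0, 0]]),
    (17581, 1, 3166, [[0]], [[0]]),
    (17594, 1, 3107, [[0]], [[0]]),
    (17607, 1, 3061, [[0]], [[0]]),
    (17620, 1, 3184, [[0]], [[0]]),
    (17633, 1, 3125, [[0]], [[0]])]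

/-- Steps from class 0, part. -/
def step0_21 : List (Nat × Nat × Nat × List (List Nat) × List (List Nat)) :=
  [(17646, 1, 3079, [[0]], [[0]]),
    (17659, 1, 3189, [[0]], [[0]]),
    (17672, 1, 3143, [[0]], [[0]]),
    (17685, 1, 3084, [[0]], [[0]]),
    (17698, 1, 3207, [[0]], [[0]]),
    (17711, 1, 3148, [[0]], [[0]]),
    (17724, 1, 3102, [[0]], [[0]]),
    (17737, 1, 3043, [[0]], [[0]]),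
    (17750, 1, 330, [[0]], [[0]]),
    (17768, 4, 2465, [[0, 0, 0, 0, 0]], [[0, 0, 0]]),
    (17773, 6, 725, [[0, 0, 0, 0, 0]], [[0, 0, 0]]),
    (17791, 3, 332, [[0]], [[0]]),
    (17809, 6, 337, [[0]], [[0]]),
    (17814, 8, 329, [[0]], [[0]]),
    (17832, 5, 334, [[0]], [[0]]),
    (17837, 5, 330, [[0, 0, 0, 0, 0]], [[0, 0, 0, 0, 0]]),
    (17855, 2, 331, [[0]], [[0]]),
    (17873, 4, 423, [[0, 0, 0, 0, 0, 0, 0, 0, 0, 0, 0]], [[0, 0, 0, 0, 0, 0, 0, 0, 0]]),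
    (17878, 7, 328, [[0]], [[0]]),
    (17896, 4, 333, [[0]], [[0]]),
    (17901, 6, 3799, [[0, 0, 0, 0]], [[0, 0]]),
    (17919, 1, 2395, [[0]], [[0]]),
    (17929, 6, 2581, [[0, 0, 0, 0, 0]], [[0, 0, 0]]),
    (17952, 6, 3870, [[0]], [[0]]),
    (17962, 5, 3931, [[0, 0, 0, 0, 0, 0, 0, 0, 0, 0, 0]], [[0, 0, 0, 0, 0, 0, 0, 0, 0, 0, 0]]),
    (17972, 2, 5109, [[0]], [[0]]),
    (17982, 7, 326, [[0, 0, 0, 0, 0, 0, 0]], [[0, 0, 0, 0, 0, 0, 0, 0, 0, 0, 0, 0, 0, 0, 0]]),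
    (17992, 6, 417, [[0, 0, 0, 0]], [[0, 0]]),
    (18015, 4, 719, [[0, 0, 0, 0, 0, 0, 0, 0, 0]], [[0, 0, 0, 0, 0, 0, 0, 0, 0, 0, 0]]),
    (18025, 3, 329, [[0, 0, 0, 0, 0, 0, 0]], [[0, 0]]),
    (18035, 8, 5434, [[0]], [[0]]),
    (18045, 5, 3911, [[0, 0, 0, 0, 0, 0, 0]], [[0, 0, 0, 0, 0, 0, 0]]),
    (18068, 4, 2507, [[0, 0, 0]], [[0, 0, 0, 0, 0]]),
    (18078, 4, 2611, [[0, 0, 0, 0, 0, 0, 0, 0, 0, 0, 0, 0, 0]], [[0, 0, 0, 0, 0, 0, 0, 0, 0, 0, 0, 0, 0]]),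
    (18088, 1, 726, [[0]], [[0]]),
    (18103, 3, 328, [[0, 0, 0, 0, 0, 0, 0, 0, 0]], [[0, 0, 0]]),
    (18118, 5, 727, [[0]], [[0]]),
    (18133, 4, 327, [[0, 0, 0]], [[0, 0, 0, 0, 0]]),
    (18135, 6, 2551, [[0, 0, 0, 0]], [[0, 0]]),
    (18150, 6, 419, [[0, 0]], [[0, 0, 0, 0]]),
    (18165, 8, 716, [[0]], [[0]]),
    (18180, 2, 723, [[0]], [[0]]),
    (18195, 4, 717, [[0]], [[0]]),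
    (18210, 4, 2551, [[0, 0, 0, 0, 0, 0, 0, 0, 0]], [[0, 0, 0, 0, 0, 0, 0, 0, 0, 0, 0]]),
    (18225, 6, 718, [[0]], [[0]]),
    (18227, 5, 726, [[0, 0, 0, 0, 0]], [[0, 0, 0, 0, 0]]),
    (18242, 7, 334, [[0, 0, 0, 0, 0, 0, 0, 0, 0]], [[0, 0, 0]]),
    (18257, 1, 425, [[0]], [[0]]),
    (18277, 6, 422, [[0]], [[0]]),
    (18284, 2, 419, [[0]], [[0]]),
    (18291, 6, 2871, [[0, 0, 0]], [[0, 0, 0, 0, 0]]),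
    (18311, 3, 334, [[0, 0, 0, 0, 0, 0, 0, 0, 0, 0]], [[0, 0, 0, 0]]),
    (18318, 5, 425, [[0, 0, 0, 0, 0]], [[0, 0, 0, 0, 0]]),
    (18338, 4, 420, [[0]], [[0]]),
    (18345, 6, 331, [[0, 0]], [[0, 0, 0, 0]]),
    (18365, 5, 427, [[0]], [[0]]),
    (18372, 7, 325, [[0, 0, 0, 0, 0, 0, 0, 0, 0, 0, 0, 0, 0, 0, 0, 0, 0, 0, 0, 0, 0, 0, 0]], [[0, 0, 0, 0, 0, 0, 0, 0, 0, 0, 0, 0, 0, 0, 0, 0, 0]]),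
    (18392, 4, 2788, [[0, 0, 0, 0, 0, 0, 0, 0, 0]], [[0, 0, 0, 0, 0, 0, 0, 0, 0, 0, 0]]),
    (18399, 8, 418, [[0]], [[0]]),
    (18419, 4, 725, [[0, 0, 0, 0, 0, 0, 0, 0, 0, 0, 0]], [[0, 0, 0, 0, 0, 0, 0, 0, 0]]),
    (18426, 1, 2688, [[0]], [[0]]),
    (18438, 8, 3143, [[0, 0]], [[0, 0]]),
    (18450, 7, 330, [[0, 0, 0, 0, 0, 0, 0, 0, 0, 0, 0, 0, 0, 0, 0, 0, 0, 0, 0, 0, 0]], [[0, 0, 0, 0, 0]]),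
    (18462, 6, 3879, [[0, 0, 0, 0, 0]], [[0, 0, 0]])]

/-- Steps from class 0, part. -/
def step0_22 : List (Nat × Nat × Nat × List (List Nat) × List (List Nat)) :=
  [(18474, 5, 5743, [[0, 0, 0, 0, 0]], [[0, 0, 0, 0, 0]]),
    (18486, 6, 726, [[0, 0, 0]], [[0, 0, 0, 0, 0]]),
    (18511, 6, 2753, [[0]], [[0]]),
    (18523, 4, 2820, [[0, 0, 0]], [[0, 0, 0, 0, 0]]),
    (18535, 4, 328, [[0, 0, 0, 0, 0, 0, 0, 0, 0]], [[0, 0, 0, 0, 0, 0, 0, 0, 0, 0, 0]]),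
    (18547, 5, 5720, [[0]], [[0]]),
    (18559, 4, 2451, [[0]], [[0]]),
    (18571, 3, 335, [[0, 0, 0, 0, 0, 0, 0, 0]], [[0, 0, 0, 0, 0]]),
    (18583, 2, 2908, [[0, 0, 0, 0, 0]], [[0, 0, 0, 0, 0]]),
    (18595, 1, 5216, [[0, 0, 0]], [[0, 0, 0]]),
    (18612, 5, 2437, [[0]], [[0]]),
    (18616, 6, 330, [[0, 0, 0]], [[0, 0, 0, 0, 0]]),
    (18633, 8, 2871, [[0, 0]], [[0, 0]]),
    (18650, 4, 2823, [[0]], [[0]]),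
    (18667, 6, 2628, [[0]], [[0]]),
    (18671, 7, 329, [[0, 0, 0, 0, 0, 0, 0, 0, 0, 0, 0]], [[0, 0, 0, 0, 0, 0, 0, 0, 0, 0, 0, 0, 0, 0, 0, 0, 0, 0, 0]]),
    (18688, 3, 327, [[0, 0, 0, 0, 0, 0, 0, 0, 0, 0, 0]], [[0, 0, 0, 0, 0, 0]]),
    (18705, 4, 2566, [[0, 0, 0, 0, 0, 0, 0, 0, 0, 0, 0]], [[0, 0, 0, 0, 0, 0, 0, 0, 0]]),
    (18709, 6, 2788, [[0, 0, 0, 0, 0]], [[0, 0, 0]]),
    (18726, 2, 2673, [[0, 0, 0, 0, 0]], [[0, 0, 0, 0, 0]]),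
    (18743, 4, 416, [[0, 0, 0, 0, 0]], [[0, 0, 0]]),
    (18747, 5, 2367, [[0, 0, 0, 0, 0]], [[0, 0, 0, 0, 0]]),
    (18764, 1, 5231, [[0]], [[0]]),
    (18773, 5, 2522, [[0, 0, 0, 0, 0, 0, 0]], [[0, 0, 0, 0, 0, 0, 0]]),
    (18795, 4, 424, [[0, 0, 0, 0, 0, 0, 0, 0, 0]], [[0, 0, 0, 0, 0, 0, 0, 0, 0, 0, 0]]),
    (18804, 2, 2613, [[0]], [[0]]),
    (18813, 6, 2804, [[0, 0]], [[0, 0, 0, 0]]),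
    (18835, 4, 2643, [[0, 0, 0]], [[0, 0, 0, 0, 0]]),
    (18844, 3, 325, [[0, 0]], [[0, 0, 0, 0, 0, 0, 0]]),
    (18853, 7, 332, [[0, 0, 0, 0, 0, 0, 0, 0, 0, 0, 0, 0, 0, 0, 0]], [[0, 0, 0, 0, 0, 0, 0]]),
    (18875, 6, 2566, [[0, 0, 0, 0, 0, 0]], [[0, 0, 0, 0, 0, 0]]),
    (18884, 4, 2823, [[0, 0, 0, 0, 0, 0, 0, 0, 0, 0, 0, 0, 0]], [[0, 0, 0, 0, 0, 0, 0, 0, 0, 0, 0, 0, 0]]),
    (18893, 8, 2756, [[0]], [[0]]),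
    (18902, 6, 327, [[0, 0, 0, 0]], [[0, 0]]),
    (18924, 5, 2465, [[0, 0, 0, 0, 0, 0, 0, 0, 0, 0, 0]], [[0, 0, 0, 0, 0, 0, 0, 0, 0, 0, 0]]),
    (18933, 1, 2658, [[0, 0, 0]], [[0, 0, 0]]),
    (18947, 2, 2946, [[0]], [[0]]),
    (18961, 3, 330, [[0, 0, 0, 0, 0]], [[0, 0, 0, 0, 0, 0, 0, 0]]),
    (18975, 4, 2451, [[0, 0, 0, 0, 0, 0, 0, 0, 0, 0, 0, 0, 0]], [[0, 0, 0, 0, 0, 0, 0, 0, 0, 0, 0, 0, 0]]),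
    (18989, 5, 5690, [[0, 0, 0, 0, 0, 0, 0, 0, 0, 0, 0]], [[0, 0, 0, 0, 0, 0, 0, 0, 0, 0, 0]]),
    (19003, 4, 325, [[0, 0, 0, 0, 0]], [[0, 0, 0]]),
    (19017, 4, 2839, [[0, 0, 0, 0, 0, 0, 0, 0, 0, 0, 0]], [[0, 0, 0, 0, 0, 0, 0, 0, 0]]),
    (19031, 6, 2839, [[0, 0, 0, 0, 0, 0]], [[0, 0, 0, 0, 0, 0]]),
    (19032, 6, 722, [[0, 0, 0, 0]], [[0, 0]]),
    (19046, 5, 5680, [[0, 0, 0, 0, 0, 0, 0]], [[0, 0, 0, 0, 0, 0, 0]]),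
    (19060, 6, 3830, [[0, 0]], [[0, 0, 0, 0]]),
    (19074, 7, 331, [[0, 0, 0, 0, 0]], [[0, 0, 0, 0, 0, 0, 0, 0, 0, 0, 0, 0, 0, 0, 0, 0, 0, 0, 0, 0, 0]]),
    (19088, 8, 3043, [[0]], [[0]]),
    (19102, 1, 420, [[0, 0, 0]], [[0, 0, 0]]),
    (19121, 4, 722, [[0, 0, 0]], [[0, 0, 0, 0, 0]]),
    (19127, 8, 420, [[0, 0]], [[0, 0]]),
    (19146, 4, 2871, [[0, 0, 0, 0, 0]], [[0, 0, 0]]),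
    (19152, 7, 336, [[0, 0, 0]], [[0, 0, 0, 0, 0, 0, 0, 0, 0]]),
    (19171, 5, 420, [[0, 0, 0, 0, 0, 0, 0, 0, 0, 0, 0]], [[0, 0, 0, 0, 0, 0, 0, 0, 0, 0, 0]]),
    (19177, 6, 326, [[0, 0, 0, 0, 0]], [[0, 0, 0]]),
    (19196, 4, 420, [[0, 0, 0, 0, 0, 0, 0, 0, 0, 0, 0, 0, 0]], [[0, 0, 0, 0, 0, 0, 0, 0, 0, 0, 0, 0, 0]]),
    (19202, 5, 422, [[0, 0, 0, 0, 0, 0, 0]], [[0, 0, 0, 0, 0, 0, 0]]),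
    (19221, 3, 331, [[0, 0, 0]], [[0, 0, 0, 0, 0, 0, 0, 0, 0]]),
    (19227, 6, 2721, [[0, 0, 0, 0]], [[0, 0]]),
    (19246, 2, 420, [[0, 0, 0, 0, 0]], [[0, 0, 0, 0, 0]]),
    (19265, 6, 420, [[0, 0, 0, 0, 0, 0]], [[0, 0, 0, 0, 0, 0]]),
    (19271, 1, 717, [[0, 0, 0]], [[0, 0, 0]]),
    (19282, 7, 327, [[0, 0, 0, 0, 0, 0, 0, 0, 0, 0, 0, 0, 0, 0, 0, 0, 0]], [[0, 0, 0, 0, 0, 0, 0, 0, 0, 0, 0, 0, 0, 0, 0, 0, 0, 0, 0, 0, 0, 0, 0]]),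
    (19293, 5, 718, [[0, 0, 0, 0, 0, 0, 0]], [[0, 0, 0, 0, 0, 0, 0]])]

/-- Steps from class 0, part. -/
def step0_23 : List (Nat × Nat × Nat × List (List Nat) × List (List Nat)) :=
  [(19317, 6, 717, [[0, 0, 0, 0, 0, 0]], [[0, 0, 0, 0, 0, 0]]),
    (19328, 4, 2658, [[0, 0, 0, 0, 0]], [[0, 0, 0]]),
    (19339, 4, 717, [[0, 0, 0, 0, 0, 0, 0, 0, 0, 0, 0, 0, 0]], [[0, 0, 0, 0, 0, 0, 0, 0, 0, 0, 0, 0, 0]]),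
    (19350, 2, 717, [[0, 0, 0, 0, 0]], [[0, 0, 0, 0, 0]]),
    (19361, 8, 717, [[0, 0]], [[0, 0]]),
    (19372, 6, 423, [[0, 0, 0, 0, 0]], [[0, 0, 0]]),
    (19383, 6, 2643, [[0, 0, 0]], [[0, 0, 0, 0, 0]]),
    (19407, 4, 326, [[0, 0, 0, 0, 0, 0, 0, 0, 0, 0, 0]], [[0, 0, 0, 0, 0, 0, 0, 0, 0]]),
    (19418, 5, 717, [[0, 0, 0, 0, 0, 0, 0, 0, 0, 0, 0]], [[0, 0, 0, 0, 0, 0, 0, 0, 0, 0, 0]]),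
    (19429, 3, 337, [[0, 0, 0, 0]], [[0, 0, 0, 0, 0, 0, 0, 0, 0, 0]]),
    (19440, 1, 2507, [[0, 0, 0]], [[0, 0, 0]]),
    (19456, 4, 2611, [[0]], [[0]]),
    (19472, 4, 2395, [[0, 0, 0, 0, 0, 0, 0, 0, 0, 0, 0]], [[0, 0, 0, 0, 0, 0, 0, 0, 0]]),
    (19475, 5, 4037, [[0, 0, 0, 0, 0]], [[0, 0, 0, 0, 0]]),
    (19491, 8, 5498, [[0, 0]], [[0, 0]]),
    (19507, 3, 336, [[0, 0, 0, 0, 0, 0]], [[0, 0, 0, 0, 0, 0, 0, 0, 0, 0, 0]]),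
    (19523, 4, 715, [[0, 0, 0, 0, 0]], [[0, 0, 0]]),
    (19526, 6, 425, [[0, 0, 0]], [[0, 0, 0, 0, 0]]),
    (19542, 7, 335, [[0, 0, 0, 0, 0, 0, 0, 0, 0, 0, 0, 0, 0, 0, 0, 0, 0, 0, 0]], [[0, 0, 0, 0, 0, 0, 0, 0, 0, 0, 0]]),
    (19558, 2, 5139, [[0, 0, 0, 0, 0]], [[0, 0, 0, 0, 0]]),
    (19574, 5, 4004, [[0]], [[0]]),
    (19590, 6, 3839, [[0, 0, 0, 0, 0, 0]], [[0, 0, 0, 0, 0, 0]]),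
    (19593, 6, 2613, [[0, 0]], [[0, 0, 0, 0]]),
    (19609, 1, 333, [[0, 0, 0]], [[0, 0, 0]]),
    (19617, 6, 3741, [[0, 0, 0]], [[0, 0, 0, 0, 0]]),
    (19638, 4, 333, [[0, 0, 0, 0, 0, 0, 0, 0, 0, 0, 0, 0, 0]], [[0, 0, 0, 0, 0, 0, 0, 0, 0, 0, 0, 0, 0]]),
    (19646, 7, 333, [[0, 0, 0, 0, 0, 0, 0, 0, 0, 0, 0, 0, 0, 0, 0, 0, 0, 0, 0, 0, 0, 0, 0, 0, 0]], [[0, 0, 0, 0, 0, 0, 0, 0, 0, 0, 0, 0, 0, 0, 0, 0, 0, 0, 0, 0, 0, 0, 0, 0, 0]]),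
    (19667, 4, 417, [[0, 0, 0]], [[0, 0, 0, 0, 0]]),
    (19675, 2, 333, [[0, 0, 0, 0, 0]], [[0, 0, 0, 0, 0]]),
    (19683, 5, 337, [[0, 0, 0, 0, 0, 0, 0]], [[0, 0, 0, 0, 0, 0, 0]]),
    (19704, 5, 333, [[0, 0, 0, 0, 0, 0, 0, 0, 0, 0, 0]], [[0, 0, 0, 0, 0, 0, 0, 0, 0, 0, 0]]),
    (19712, 8, 333, [[0, 0]], [[0, 0]]),
    (19733, 6, 333, [[0, 0, 0, 0, 0, 0]], [[0, 0, 0, 0, 0, 0]]),
    (19741, 3, 333, [[0, 0, 0, 0, 0, 0, 0, 0, 0, 0, 0, 0]], [[0, 0, 0, 0, 0, 0, 0, 0, 0, 0, 0, 0]]),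
    (19749, 6, 723, [[0, 0]], [[0, 0, 0, 0]]),
    (19770, 4, 2437, [[0, 0, 0, 0, 0, 0, 0, 0, 0]], [[0, 0, 0, 0, 0, 0, 0, 0, 0, 0, 0]]),
    (19776, 8, 3022, [[0]], [[0]]),
    (19789, 8, 3001, [[0]], [[0]]),
    (19802, 8, 2967, [[0]], [[0]]),
    (19815, 8, 2946, [[0]], [[0]]),
    (19828, 8, 2912, [[0]], [[0]]),
    (19841, 8, 2891, [[0]], [[0]]),
    (19854, 8, 3039, [[0]], [[0]]),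
    (19867, 8, 3005, [[0]], [[0]]),
    (19880, 8, 2984, [[0]], [[0]]),
    (19893, 8, 2963, [[0]], [[0]]),
    (19906, 8, 2929, [[0]], [[0]]),
    (19919, 8, 2908, [[0]], [[0]]),
    (19932, 8, 2874, [[0]], [[0]]),
    (19945, 8, 328, [[0]], [[0]]),
    (19961, 3, 331, [[0]], [[0]]),
    (19977, 4, 2451, [[0, 0, 0, 0, 0]], [[0, 0, 0]]),
    (19993, 6, 3790, [[0, 0, 0, 0]], [[0, 0]]),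
    (19996, 7, 327, [[0]], [[0]]),
    (20012, 2, 330, [[0]], [[0]]),
    (20028, 5, 333, [[0]], [[0]]),
    (20044, 6, 336, [[0]], [[0]]),
    (20047, 6, 721, [[0, 0, 0, 0, 0]], [[0, 0, 0]]),
    (20063, 1, 329, [[0]], [[0]]),
    (20079, 4, 332, [[0]], [[0]]),
    (20095, 4, 421, [[0, 0, 0, 0, 0, 0, 0, 0, 0, 0, 0]], [[0, 0, 0, 0, 0, 0, 0, 0, 0]]),
    (20098, 5, 329, [[0, 0, 0, 0, 0]], [[0, 0, 0, 0, 0]]),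
    (20114, 8, 5431, [[0]], [[0]]),
    (20133, 4, 717, [[0, 0, 0, 0, 0, 0, 0, 0, 0]], [[0, 0, 0, 0, 0, 0, 0, 0, 0, 0, 0]])]

/-- Steps from class 0, part. -/
def step0_24 : List (Nat × Nat × Nat × List (List Nat) × List (List Nat)) :=
  [(20139, 7, 332, [[0, 0, 0, 0, 0, 0, 0]], [[0, 0, 0, 0, 0, 0, 0, 0, 0, 0, 0, 0, 0, 0, 0]]),
    (20158, 5, 4004, [[0, 0, 0, 0, 0, 0, 0, 0, 0, 0, 0]], [[0, 0, 0, 0, 0, 0, 0, 0, 0, 0, 0]]),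
    (20164, 6, 2658, [[0, 0, 0, 0, 0]], [[0, 0, 0]]),
    (20183, 4, 2688, [[0, 0, 0, 0, 0, 0, 0, 0, 0, 0, 0, 0, 0]], [[0, 0, 0, 0, 0, 0, 0, 0, 0, 0, 0, 0, 0]]),
    (20189, 5, 3984, [[0, 0, 0, 0, 0, 0, 0]], [[0, 0, 0, 0, 0, 0, 0]]),
    (20208, 3, 335, [[0, 0, 0, 0, 0, 0, 0]], [[0, 0]]),
    (20227, 6, 416, [[0, 0, 0, 0]], [[0, 0]]),
    (20233, 2, 5107, [[0]], [[0]]),
    (20252, 6, 3781, [[0]], [[0]]),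
    (20258, 1, 2479, [[0]], [[0]]),
    (20277, 4, 2409, [[0, 0, 0]], [[0, 0, 0, 0, 0]]),
    (20283, 8, 719, [[0]], [[0]]),
    (20305, 6, 2611, [[0, 0, 0, 0]], [[0, 0]]),
    (20314, 5, 717, [[0]], [[0]]),
    (20323, 1, 716, [[0]], [[0]]),
    (20332, 5, 716, [[0, 0, 0, 0, 0]], [[0, 0, 0, 0, 0]]),
    (20354, 4, 2611, [[0, 0, 0, 0, 0, 0, 0, 0, 0]], [[0, 0, 0, 0, 0, 0, 0, 0, 0, 0, 0]]),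
    (20363, 2, 726, [[0]], [[0]]),
    (20372, 6, 427, [[0, 0]], [[0, 0, 0, 0]]),
    (20394, 4, 331, [[0, 0, 0]], [[0, 0, 0, 0, 0]]),
    (20403, 3, 332, [[0, 0, 0, 0, 0, 0, 0, 0, 0]], [[0, 0, 0]]),
    (20412, 7, 325, [[0, 0, 0, 0, 0, 0, 0, 0, 0]], [[0, 0, 0]]),
    (20434, 6, 721, [[0]], [[0]]),
    (20443, 4, 720, [[0]], [[0]]),
    (20452, 8, 424, [[0]], [[0]]),
    (20464, 7, 328, [[0, 0, 0, 0, 0, 0, 0, 0, 0, 0, 0, 0, 0, 0, 0, 0, 0, 0, 0, 0, 0, 0, 0]], [[0, 0, 0, 0, 0, 0, 0, 0, 0, 0, 0, 0, 0, 0, 0, 0, 0]]),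
    (20476, 6, 334, [[0, 0]], [[0, 0, 0, 0]]),
    (20488, 5, 418, [[0, 0, 0, 0, 0]], [[0, 0, 0, 0, 0]]),
    (20513, 6, 2737, [[0, 0, 0]], [[0, 0, 0, 0, 0]]),
    (20525, 6, 428, [[0]], [[0]]),
    (20537, 4, 724, [[0, 0, 0, 0, 0, 0, 0, 0, 0, 0, 0]], [[0, 0, 0, 0, 0, 0, 0, 0, 0]]),
    (20549, 4, 2823, [[0, 0, 0, 0, 0, 0, 0, 0, 0]], [[0, 0, 0, 0, 0, 0, 0, 0, 0, 0, 0]]),
    (20561, 5, 420, [[0]], [[0]]),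
    (20573, 4, 426, [[0]], [[0]]),
    (20585, 3, 337, [[0, 0, 0, 0, 0, 0, 0, 0, 0, 0]], [[0, 0, 0, 0]]),
    (20597, 2, 425, [[0]], [[0]]),
    (20609, 1, 418, [[0]], [[0]]),
    (20621, 8, 3207, [[0, 0]], [[0, 0]]),
    (20636, 2, 2967, [[0, 0, 0, 0, 0]], [[0, 0, 0, 0, 0]]),
    (20651, 4, 2521, [[0]], [[0]]),
    (20666, 4, 333, [[0, 0, 0, 0, 0, 0, 0, 0, 0]], [[0, 0, 0, 0, 0, 0, 0, 0, 0, 0, 0]]),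
    (20681, 6, 2820, [[0]], [[0]]),
    (20683, 5, 5700, [[0, 0, 0, 0, 0]], [[0, 0, 0, 0, 0]]),
    (20698, 7, 335, [[0, 0, 0, 0, 0, 0, 0, 0, 0, 0, 0, 0, 0, 0, 0, 0, 0, 0, 0, 0, 0]], [[0, 0, 0, 0, 0]]),
    (20713, 1, 2581, [[0]], [[0]]),
    (20728, 3, 327, [[0, 0, 0, 0, 0, 0, 0, 0]], [[0, 0, 0, 0, 0]]),
    (20743, 5, 5690, [[0]], [[0]]),
    (20758, 4, 2705, [[0, 0, 0]], [[0, 0, 0, 0, 0]]),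
    (20773, 6, 720, [[0, 0, 0]], [[0, 0, 0, 0, 0]]),
    (20775, 6, 3781, [[0, 0, 0, 0, 0]], [[0, 0, 0]]),
    (20790, 8, 2721, [[0, 0]], [[0, 0]]),
    (20808, 5, 2465, [[0]], [[0]]),
    (20813, 5, 2395, [[0, 0, 0, 0, 0]], [[0, 0, 0, 0, 0]]),
    (20831, 2, 2703, [[0, 0, 0, 0, 0]], [[0, 0, 0, 0, 0]]),
    (20849, 4, 2596, [[0, 0, 0, 0, 0, 0, 0, 0, 0, 0, 0]], [[0, 0, 0, 0, 0, 0, 0, 0, 0]]),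
    (20854, 7, 331, [[0, 0, 0, 0, 0, 0, 0, 0, 0, 0, 0]], [[0, 0, 0, 0, 0, 0, 0, 0, 0, 0, 0, 0, 0, 0, 0, 0, 0, 0, 0]]),
    (20872, 4, 2855, [[0]], [[0]]),
    (20890, 6, 332, [[0, 0, 0]], [[0, 0, 0, 0, 0]]),
    (20895, 1, 5107, [[0, 0, 0]], [[0, 0, 0]]),
    (20913, 4, 420, [[0, 0, 0, 0, 0]], [[0, 0, 0]]),
    (20918, 6, 2820, [[0, 0, 0, 0, 0]], [[0, 0, 0]]),
    (20936, 3, 329, [[0, 0, 0, 0, 0, 0, 0, 0, 0, 0, 0]], [[0, 0, 0, 0, 0, 0]]),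
    (20954, 6, 2658, [[0]], [[0]]),
    (20959, 8, 2737, [[0]], [[0]])]

/-- Steps from class 0, part. -/
def step0_25 : List (Nat × Nat × Nat × List (List Nat) × List (List Nat)) :=
  [(20980, 6, 2536, [[0, 0, 0, 0, 0, 0]], [[0, 0, 0, 0, 0, 0]]),
    (20988, 3, 336, [[0, 0]], [[0, 0, 0, 0, 0, 0, 0]]),
    (20996, 6, 2772, [[0, 0]], [[0, 0, 0, 0]]),
    (21017, 4, 420, [[0, 0, 0, 0, 0, 0, 0, 0, 0]], [[0, 0, 0, 0, 0, 0, 0, 0, 0, 0, 0]]),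
    (21025, 1, 5184, [[0]], [[0]]),
    (21046, 6, 325, [[0, 0, 0, 0]], [[0, 0]]),
    (21054, 4, 2804, [[0, 0, 0, 0, 0, 0, 0, 0, 0, 0, 0, 0, 0]], [[0, 0, 0, 0, 0, 0, 0, 0, 0, 0, 0, 0, 0]]),
    (21062, 7, 330, [[0, 0, 0, 0, 0, 0, 0, 0, 0, 0, 0, 0, 0, 0, 0]], [[0, 0, 0, 0, 0, 0, 0]]),
    (21083, 4, 2613, [[0, 0, 0]], [[0, 0, 0, 0, 0]]),
    (21091, 2, 2596, [[0]], [[0]]),
    (21099, 5, 2507, [[0, 0, 0, 0, 0, 0, 0]], [[0, 0, 0, 0, 0, 0, 0]]),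
    (21120, 5, 2437, [[0, 0, 0, 0, 0, 0, 0, 0, 0, 0, 0]], [[0, 0, 0, 0, 0, 0, 0, 0, 0, 0, 0]]),
    (21128, 8, 3148, [[0]], [[0]]),
    (21139, 6, 3759, [[0, 0]], [[0, 0, 0, 0]]),
    (21163, 6, 715, [[0, 0, 0, 0]], [[0, 0]]),
    (21174, 4, 2772, [[0, 0, 0, 0, 0, 0, 0, 0, 0, 0, 0]], [[0, 0, 0, 0, 0, 0, 0, 0, 0]]),
    (21185, 5, 5720, [[0, 0, 0, 0, 0, 0, 0, 0, 0, 0, 0]], [[0, 0, 0, 0, 0, 0, 0, 0, 0, 0, 0]]),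
    (21196, 3, 325, [[0, 0, 0, 0, 0]], [[0, 0, 0, 0, 0, 0, 0, 0]]),
    (21207, 1, 2596, [[0, 0, 0]], [[0, 0, 0]]),
    (21218, 7, 326, [[0, 0, 0, 0, 0]], [[0, 0, 0, 0, 0, 0, 0, 0, 0, 0, 0, 0, 0, 0, 0, 0, 0, 0, 0, 0, 0]]),
    (21229, 5, 5710, [[0, 0, 0, 0, 0, 0, 0]], [[0, 0, 0, 0, 0, 0, 0]]),
    (21253, 6, 2772, [[0, 0, 0, 0, 0, 0]], [[0, 0, 0, 0, 0, 0]]),
    (21264, 4, 333, [[0, 0, 0, 0, 0]], [[0, 0, 0]]),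
    (21275, 4, 2381, [[0, 0, 0, 0, 0, 0, 0, 0, 0, 0, 0, 0, 0]], [[0, 0, 0, 0, 0, 0, 0, 0, 0, 0, 0, 0, 0]]),
    (21286, 2, 2874, [[0]], [[0]]),
    (21297, 8, 427, [[0, 0]], [[0, 0]]),
    (21311, 1, 427, [[0, 0, 0]], [[0, 0, 0]]),
    (21325, 2, 427, [[0, 0, 0, 0, 0]], [[0, 0, 0, 0, 0]]),
    (21339, 3, 328, [[0, 0, 0]], [[0, 0, 0, 0, 0, 0, 0, 0, 0]]),
    (21353, 4, 427, [[0, 0, 0, 0, 0, 0, 0, 0, 0, 0, 0, 0, 0]], [[0, 0, 0, 0, 0, 0, 0, 0, 0, 0, 0, 0, 0]]),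
    (21367, 5, 427, [[0, 0, 0, 0, 0, 0, 0, 0, 0, 0, 0]], [[0, 0, 0, 0, 0, 0, 0, 0, 0, 0, 0]]),
    (21381, 4, 2823, [[0, 0, 0, 0, 0]], [[0, 0, 0]]),
    (21395, 4, 723, [[0, 0, 0]], [[0, 0, 0, 0, 0]]),
    (21409, 6, 427, [[0, 0, 0, 0, 0, 0]], [[0, 0, 0, 0, 0, 0]]),
    (21423, 6, 2855, [[0, 0, 0, 0]], [[0, 0]]),
    (21424, 5, 416, [[0, 0, 0, 0, 0, 0, 0]], [[0, 0, 0, 0, 0, 0, 0]]),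
    (21438, 6, 336, [[0, 0, 0, 0, 0]], [[0, 0, 0]]),
    (21452, 7, 333, [[0, 0, 0]], [[0, 0, 0, 0, 0, 0, 0, 0, 0]]),
    (21466, 8, 727, [[0, 0]], [[0, 0]]),
    (21483, 4, 727, [[0, 0, 0, 0, 0, 0, 0, 0, 0, 0, 0, 0, 0]], [[0, 0, 0, 0, 0, 0, 0, 0, 0, 0, 0, 0, 0]]),
    (21500, 6, 727, [[0, 0, 0, 0, 0, 0]], [[0, 0, 0, 0, 0, 0]]),
    (21504, 7, 336, [[0, 0, 0, 0, 0, 0, 0, 0, 0, 0, 0, 0, 0, 0, 0, 0, 0]], [[0, 0, 0, 0, 0, 0, 0, 0, 0, 0, 0, 0, 0, 0, 0, 0, 0, 0, 0, 0, 0, 0, 0]]),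
    (21521, 3, 333, [[0, 0, 0, 0]], [[0, 0, 0, 0, 0, 0, 0, 0, 0, 0]]),
    (21538, 4, 335, [[0, 0, 0, 0, 0, 0, 0, 0, 0, 0, 0]], [[0, 0, 0, 0, 0, 0, 0, 0, 0]]),
    (21542, 6, 428, [[0, 0, 0, 0, 0]], [[0, 0, 0]]),
    (21559, 2, 727, [[0, 0, 0, 0, 0]], [[0, 0, 0, 0, 0]]),
    (21576, 4, 2611, [[0, 0, 0, 0, 0]], [[0, 0, 0]]),
    (21580, 5, 715, [[0, 0, 0, 0, 0, 0, 0]], [[0, 0, 0, 0, 0, 0, 0]]),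
    (21597, 1, 727, [[0, 0, 0]], [[0, 0, 0]]),
    (21614, 5, 727, [[0, 0, 0, 0, 0, 0, 0, 0, 0, 0, 0]], [[0, 0, 0, 0, 0, 0, 0, 0, 0, 0, 0]]),
    (21631, 6, 2596, [[0, 0, 0]], [[0, 0, 0, 0, 0]]),
    (21635, 8, 5501, [[0, 0]], [[0, 0]]),
    (21655, 4, 2493, [[0, 0, 0, 0, 0, 0, 0, 0, 0, 0, 0]], [[0, 0, 0, 0, 0, 0, 0, 0, 0]]),
    (21662, 1, 2423, [[0, 0, 0]], [[0, 0, 0]]),
    (21682, 6, 3759, [[0, 0, 0, 0, 0, 0]], [[0, 0, 0, 0, 0, 0]]),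
    (21689, 2, 5154, [[0, 0, 0, 0, 0]], [[0, 0, 0, 0, 0]]),
    (21709, 6, 426, [[0, 0, 0]], [[0, 0, 0, 0, 0]]),
    (21716, 3, 330, [[0, 0, 0, 0, 0, 0]], [[0, 0, 0, 0, 0, 0, 0, 0, 0, 0, 0]]),
    (21723, 5, 3964, [[0, 0, 0, 0, 0]], [[0, 0, 0, 0, 0]]),
    (21743, 4, 2703, [[0]], [[0]]),
    (21750, 6, 2536, [[0, 0]], [[0, 0, 0, 0]]),
    (21770, 5, 3931, [[0]], [[0]]),
    (21777, 7, 329, [[0, 0, 0, 0, 0, 0, 0, 0, 0, 0, 0, 0, 0, 0, 0, 0, 0, 0, 0]], [[0, 0, 0, 0, 0, 0, 0, 0, 0, 0, 0]]),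
    (21797, 4, 717, [[0, 0, 0, 0, 0]], [[0, 0, 0]])]

/-- Steps from class 0, part. -/
def step0_26 : List (Nat × Nat × Nat × List (List Nat) × List (List Nat)) :=
  [(21804, 8, 334, [[0, 0]], [[0, 0]]),
    (21814, 5, 325, [[0, 0, 0, 0, 0, 0, 0]], [[0, 0, 0, 0, 0, 0, 0]]),
    (21837, 4, 419, [[0, 0, 0]], [[0, 0, 0, 0, 0]]),
    (21847, 4, 334, [[0, 0, 0, 0, 0, 0, 0, 0, 0, 0, 0, 0, 0]], [[0, 0, 0, 0, 0, 0, 0, 0, 0, 0, 0, 0, 0]]),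
    (21857, 1, 334, [[0, 0, 0]], [[0, 0, 0]]),
    (21867, 6, 727, [[0, 0]], [[0, 0, 0, 0]]),
    (21890, 6, 334, [[0, 0, 0, 0, 0, 0]], [[0, 0, 0, 0, 0, 0]]),
    (21900, 5, 334, [[0, 0, 0, 0, 0, 0, 0, 0, 0, 0, 0]], [[0, 0, 0, 0, 0, 0, 0, 0, 0, 0, 0]]),
    (21910, 2, 334, [[0, 0, 0, 0, 0]], [[0, 0, 0, 0, 0]]),
    (21920, 7, 334, [[0, 0, 0, 0, 0, 0, 0, 0, 0, 0, 0, 0, 0, 0, 0, 0, 0, 0, 0, 0, 0, 0, 0, 0, 0]], [[0, 0, 0, 0, 0, 0, 0, 0, 0, 0, 0, 0, 0, 0, 0, 0, 0, 0, 0, 0, 0, 0, 0, 0, 0]]),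
    (21943, 6, 3750, [[0, 0, 0]], [[0, 0, 0, 0, 0]]),
    (21953, 4, 2451, [[0, 0, 0, 0, 0, 0, 0, 0, 0]], [[0, 0, 0, 0, 0, 0, 0, 0, 0, 0, 0]]),
    (21963, 3, 334, [[0, 0, 0, 0, 0, 0, 0, 0, 0, 0, 0, 0]], [[0, 0, 0, 0, 0, 0, 0, 0, 0, 0, 0, 0]]),
    (21974, 2, 2855, [[0]], [[0]]),
    (21987, 2, 2823, [[0]], [[0]]),
    (22000, 2, 2804, [[0]], [[0]]),
    (22013, 2, 2772, [[0]], [[0]]),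
    (22026, 2, 2753, [[0]], [[0]]),
    (22039, 2, 2721, [[0]], [[0]]),
    (22052, 2, 2871, [[0]], [[0]]),
    (22065, 2, 2839, [[0]], [[0]]),
    (22078, 2, 2820, [[0]], [[0]]),
    (22091, 2, 2788, [[0]], [[0]]),
    (22104, 2, 2756, [[0]], [[0]]),
    (22117, 2, 2737, [[0]], [[0]]),
    (22130, 2, 2705, [[0]], [[0]]),
    (22143, 2, 329, [[0]], [[0]]),
    (22160, 4, 2437, [[0, 0, 0, 0, 0]], [[0, 0, 0]]),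
    (22177, 5, 328, [[0, 0, 0, 0, 0]], [[0, 0, 0, 0, 0]]),
    (22181, 1, 328, [[0]], [[0]]),
    (22198, 5, 332, [[0]], [[0]]),
    (22215, 6, 3781, [[0, 0, 0, 0]], [[0, 0]]),
    (22219, 8, 327, [[0]], [[0]]),
    (22236, 4, 331, [[0]], [[0]]),
    (22253, 6, 335, [[0]], [[0]]),
    (22257, 7, 326, [[0]], [[0]]),
    (22274, 3, 330, [[0]], [[0]]),
    (22291, 4, 419, [[0, 0, 0, 0, 0, 0, 0, 0, 0, 0, 0]], [[0, 0, 0, 0, 0, 0, 0, 0, 0]]),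
    (22295, 6, 717, [[0, 0, 0, 0, 0]], [[0, 0, 0]]),
    (22312, 2, 5092, [[0]], [[0]]),
    (22333, 5, 3888, [[0, 0, 0, 0, 0, 0, 0]], [[0, 0, 0, 0, 0, 0, 0]]),
    (22341, 5, 3921, [[0, 0, 0, 0, 0, 0, 0, 0, 0, 0, 0]], [[0, 0, 0, 0, 0, 0, 0, 0, 0, 0, 0]]),
    (22349, 8, 5415, [[0]], [[0]]),
    (22370, 6, 3848, [[0]], [[0]]),
    (22378, 3, 328, [[0, 0, 0, 0, 0, 0, 0]], [[0, 0]]),
    (22386, 6, 2566, [[0, 0, 0, 0, 0]], [[0, 0, 0]]),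
    (22407, 4, 715, [[0, 0, 0, 0, 0, 0, 0, 0, 0]], [[0, 0, 0, 0, 0, 0, 0, 0, 0, 0, 0]]),
    (22415, 1, 2381, [[0]], [[0]]),
    (22436, 6, 428, [[0, 0, 0, 0]], [[0, 0]]),
    (22444, 4, 2596, [[0, 0, 0, 0, 0, 0, 0, 0, 0, 0, 0, 0, 0]], [[0, 0, 0, 0, 0, 0, 0, 0, 0, 0, 0, 0, 0]]),
    (22452, 7, 325, [[0, 0, 0, 0, 0, 0, 0]], [[0, 0, 0, 0, 0, 0, 0, 0, 0, 0, 0, 0, 0, 0, 0]]),
    (22473, 4, 2493, [[0, 0, 0]], [[0, 0, 0, 0, 0]]),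
    (22481, 2, 716, [[0]], [[0]]),
    (22493, 1, 719, [[0]], [[0]]),
    (22505, 8, 722, [[0]], [[0]]),
    (22517, 7, 329, [[0, 0, 0, 0, 0, 0, 0, 0, 0]], [[0, 0, 0]]),
    (22529, 6, 422, [[0, 0]], [[0, 0, 0, 0]]),
    (22554, 5, 719, [[0, 0, 0, 0, 0]], [[0, 0, 0, 0, 0]]),
    (22566, 6, 2658, [[0, 0, 0, 0]], [[0, 0]]),
    (22578, 6, 724, [[0]], [[0]]),
    (22590, 4, 335, [[0, 0, 0]], [[0, 0, 0, 0, 0]]),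
    (22602, 4, 2658, [[0, 0, 0, 0, 0, 0, 0, 0, 0]], [[0, 0, 0, 0, 0, 0, 0, 0, 0, 0, 0]]),
    (22614, 5, 720, [[0]], [[0]]),
    (22626, 4, 723, [[0]], [[0]])]

/-- Steps from class 0, part. -/
def step0_27 : List (Nat × Nat × Nat × List (List Nat) × List (List Nat)) :=
  [(22638, 3, 336, [[0, 0, 0, 0, 0, 0, 0, 0, 0]], [[0, 0, 0]]),
    (22650, 2, 418, [[0]], [[0]]),
    (22666, 5, 426, [[0]], [[0]]),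
    (22682, 6, 421, [[0]], [[0]]),
    (22685, 6, 337, [[0, 0]], [[0, 0, 0, 0]]),
    (22701, 1, 424, [[0]], [[0]]),
    (22717, 4, 419, [[0]], [[0]]),
    (22733, 4, 723, [[0, 0, 0, 0, 0, 0, 0, 0, 0, 0, 0]], [[0, 0, 0, 0, 0, 0, 0, 0, 0]]),
    (22749, 5, 424, [[0, 0, 0, 0, 0]], [[0, 0, 0, 0, 0]]),
    (22752, 8, 417, [[0]], [[0]]),
    (22768, 3, 327, [[0, 0, 0, 0, 0, 0, 0, 0, 0, 0]], [[0, 0, 0, 0]]),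
    (22784, 4, 2871, [[0, 0, 0, 0, 0, 0, 0, 0, 0]], [[0, 0, 0, 0, 0, 0, 0, 0, 0, 0, 0]]),
    (22800, 6, 2772, [[0, 0, 0]], [[0, 0, 0, 0, 0]]),
    (22803, 7, 331, [[0, 0, 0, 0, 0, 0, 0, 0, 0, 0, 0, 0, 0, 0, 0, 0, 0, 0, 0, 0, 0, 0, 0]], [[0, 0, 0, 0, 0, 0, 0, 0, 0, 0, 0, 0, 0, 0, 0, 0, 0]]),
    (22819, 2, 3039, [[0, 0, 0, 0, 0]], [[0, 0, 0, 0, 0]]),
    (22839, 6, 727, [[0, 0, 0]], [[0, 0, 0, 0, 0]]),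
    (22846, 3, 332, [[0, 0, 0, 0, 0, 0, 0, 0]], [[0, 0, 0, 0, 0]]),
    (22866, 5, 5657, [[0, 0, 0, 0, 0]], [[0, 0, 0, 0, 0]]),
    (22873, 4, 2409, [[0]], [[0]]),
    (22880, 6, 3839, [[0, 0, 0, 0, 0]], [[0, 0, 0]]),
    (22900, 5, 5647, [[0]], [[0]]),
    (22907, 7, 327, [[0, 0, 0, 0, 0, 0, 0, 0, 0, 0, 0, 0, 0, 0, 0, 0, 0, 0, 0, 0, 0]], [[0, 0, 0, 0, 0]]),
    (22927, 4, 325, [[0, 0, 0, 0, 0, 0, 0, 0, 0]], [[0, 0, 0, 0, 0, 0, 0, 0, 0, 0, 0]]),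
    (22934, 8, 3102, [[0, 0]], [[0, 0]]),
    (22954, 4, 2772, [[0, 0, 0]], [[0, 0, 0, 0, 0]]),
    (22961, 1, 2643, [[0]], [[0]]),
    (22981, 6, 2705, [[0]], [[0]]),
    (22988, 2, 2551, [[0, 0, 0, 0, 0]], [[0, 0, 0, 0, 0]]),
    (22999, 8, 2753, [[0, 0]], [[0, 0]]),
    (23010, 6, 2839, [[0, 0, 0, 0, 0]], [[0, 0, 0]]),
    (23034, 6, 334, [[0, 0, 0]], [[0, 0, 0, 0, 0]]),
    (23045, 4, 2613, [[0, 0, 0, 0, 0, 0, 0, 0, 0, 0, 0]], [[0, 0, 0, 0, 0, 0, 0, 0, 0]]),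
    (23056, 5, 2493, [[0]], [[0]]),
    (23067, 3, 331, [[0, 0, 0, 0, 0, 0, 0, 0, 0, 0, 0]], [[0, 0, 0, 0, 0, 0]]),
    (23078, 1, 5154, [[0, 0, 0]], [[0, 0, 0]]),
    (23089, 7, 333, [[0, 0, 0, 0, 0, 0, 0, 0, 0, 0, 0]], [[0, 0, 0, 0, 0, 0, 0, 0, 0, 0, 0, 0, 0, 0, 0, 0, 0, 0, 0]]),
    (23113, 5, 2423, [[0, 0, 0, 0, 0]], [[0, 0, 0, 0, 0]]),
    (23124, 6, 2688, [[0]], [[0]]),
    (23135, 4, 424, [[0, 0, 0, 0, 0]], [[0, 0, 0]]),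
    (23146, 4, 2705, [[0]], [[0]]),
    (23157, 2, 2566, [[0]], [[0]]),
    (23172, 4, 2772, [[0, 0, 0, 0, 0, 0, 0, 0, 0, 0, 0, 0, 0]], [[0, 0, 0, 0, 0, 0, 0, 0, 0, 0, 0, 0, 0]]),
    (23187, 4, 416, [[0, 0, 0, 0, 0, 0, 0, 0, 0]], [[0, 0, 0, 0, 0, 0, 0, 0, 0, 0, 0]]),
    (23202, 6, 2688, [[0, 0, 0, 0, 0, 0]], [[0, 0, 0, 0, 0, 0]]),
    (23217, 5, 2479, [[0, 0, 0, 0, 0, 0, 0]], [[0, 0, 0, 0, 0, 0, 0]]),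
    (23219, 7, 328, [[0, 0, 0, 0, 0, 0, 0, 0, 0, 0, 0, 0, 0, 0, 0]], [[0, 0, 0, 0, 0, 0, 0]]),
    (23234, 1, 5124, [[0]], [[0]]),
    (23249, 3, 334, [[0, 0]], [[0, 0, 0, 0, 0, 0, 0]]),
    (23264, 5, 2409, [[0, 0, 0, 0, 0, 0, 0, 0, 0, 0, 0]], [[0, 0, 0, 0, 0, 0, 0, 0, 0, 0, 0]]),
    (23279, 4, 2596, [[0, 0, 0]], [[0, 0, 0, 0, 0]]),
    (23294, 6, 336, [[0, 0, 0, 0]], [[0, 0]]),
    (23296, 6, 2753, [[0, 0]], [[0, 0, 0, 0]]),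
    (23311, 8, 2705, [[0]], [[0]]),
    (23326, 2, 2984, [[0]], [[0]]),
    (23345, 6, 2705, [[0, 0, 0, 0, 0, 0]], [[0, 0, 0, 0, 0, 0]]),
    (23351, 1, 2703, [[0, 0, 0]], [[0, 0, 0]]),
    (23370, 4, 2705, [[0, 0, 0, 0, 0, 0, 0, 0, 0, 0, 0]], [[0, 0, 0, 0, 0, 0, 0, 0, 0]]),
    (23376, 8, 3084, [[0]], [[0]]),
    (23395, 4, 328, [[0, 0, 0, 0, 0]], [[0, 0, 0]]),
    (23401, 7, 334, [[0, 0, 0, 0, 0]], [[0, 0, 0, 0, 0, 0, 0, 0, 0, 0, 0, 0, 0, 0, 0, 0, 0, 0, 0, 0, 0]]),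
    (23420, 5, 5594, [[0, 0, 0, 0, 0, 0, 0, 0, 0, 0, 0]], [[0, 0, 0, 0, 0, 0, 0, 0, 0, 0, 0]]),
    (23426, 6, 3870, [[0, 0]], [[0, 0, 0, 0]]),
    (23445, 4, 2493, [[0, 0, 0, 0, 0, 0, 0, 0, 0, 0, 0, 0, 0]], [[0, 0, 0, 0, 0, 0, 0, 0, 0, 0, 0, 0, 0]]),
    (23464, 5, 5584, [[0, 0, 0, 0, 0, 0, 0]], [[0, 0, 0, 0, 0, 0, 0]])]

/-- Steps from class 0, part. -/
def step0_28 : List (Nat × Nat × Nat × List (List Nat) × List (List Nat)) :=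
  [(23470, 3, 333, [[0, 0, 0, 0, 0]], [[0, 0, 0, 0, 0, 0, 0, 0]]),
    (23489, 6, 721, [[0, 0, 0, 0]], [[0, 0]]),
    (23495, 2, 421, [[0, 0, 0, 0, 0]], [[0, 0, 0, 0, 0]]),
    (23505, 7, 330, [[0, 0, 0]], [[0, 0, 0, 0, 0, 0, 0, 0, 0]]),
    (23528, 6, 2820, [[0, 0, 0, 0]], [[0, 0]]),
    (23538, 4, 2788, [[0, 0, 0, 0, 0]], [[0, 0, 0]]),
    (23548, 3, 325, [[0, 0, 0]], [[0, 0, 0, 0, 0, 0, 0, 0, 0]]),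
    (23558, 8, 421, [[0, 0]], [[0, 0]]),
    (23581, 5, 423, [[0, 0, 0, 0, 0, 0, 0]], [[0, 0, 0, 0, 0, 0, 0]]),
    (23591, 4, 724, [[0, 0, 0]], [[0, 0, 0, 0, 0]]),
    (23601, 4, 421, [[0, 0, 0, 0, 0, 0, 0, 0, 0, 0, 0, 0, 0]], [[0, 0, 0, 0, 0, 0, 0, 0, 0, 0, 0, 0, 0]]),
    (23611, 1, 421, [[0, 0, 0]], [[0, 0, 0]]),
    (23621, 6, 333, [[0, 0, 0, 0, 0]], [[0, 0, 0]]),
    (23644, 6, 421, [[0, 0, 0, 0, 0, 0]], [[0, 0, 0, 0, 0, 0]]),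
    (23654, 5, 421, [[0, 0, 0, 0, 0, 0, 0, 0, 0, 0, 0]], [[0, 0, 0, 0, 0, 0, 0, 0, 0, 0, 0]]),
    (23664, 2, 724, [[0, 0, 0, 0, 0]], [[0, 0, 0, 0, 0]]),
    (23678, 3, 329, [[0, 0, 0, 0]], [[0, 0, 0, 0, 0, 0, 0, 0, 0, 0]]),
    (23692, 4, 724, [[0, 0, 0, 0, 0, 0, 0, 0, 0, 0, 0, 0, 0]], [[0, 0, 0, 0, 0, 0, 0, 0, 0, 0, 0, 0, 0]]),
    (23706, 5, 724, [[0, 0, 0, 0, 0, 0, 0, 0, 0, 0, 0]], [[0, 0, 0, 0, 0, 0, 0, 0, 0, 0, 0]]),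
    (23720, 4, 2551, [[0, 0, 0, 0, 0]], [[0, 0, 0]]),
    (23734, 4, 331, [[0, 0, 0, 0, 0, 0, 0, 0, 0, 0, 0]], [[0, 0, 0, 0, 0, 0, 0, 0, 0]]),
    (23748, 6, 724, [[0, 0, 0, 0, 0, 0]], [[0, 0, 0, 0, 0, 0]]),
    (23762, 6, 2536, [[0, 0, 0]], [[0, 0, 0, 0, 0]]),
    (23776, 5, 725, [[0, 0, 0, 0, 0, 0, 0]], [[0, 0, 0, 0, 0, 0, 0]]),
    (23777, 6, 420, [[0, 0, 0, 0, 0]], [[0, 0, 0]]),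
    (23791, 7, 332, [[0, 0, 0, 0, 0, 0, 0, 0, 0, 0, 0, 0, 0, 0, 0, 0, 0]], [[0, 0, 0, 0, 0, 0, 0, 0, 0, 0, 0, 0, 0, 0, 0, 0, 0, 0, 0, 0, 0, 0, 0]]),
    (23805, 8, 724, [[0, 0]], [[0, 0]]),
    (23819, 1, 724, [[0, 0, 0]], [[0, 0, 0]]),
    (23833, 2, 5169, [[0, 0, 0, 0, 0]], [[0, 0, 0, 0, 0]]),
    (23851, 4, 2409, [[0, 0, 0, 0, 0, 0, 0, 0, 0, 0, 0]], [[0, 0, 0, 0, 0, 0, 0, 0, 0]]),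
    (23856, 7, 336, [[0, 0, 0, 0, 0, 0, 0, 0, 0, 0, 0, 0, 0, 0, 0, 0, 0, 0, 0]], [[0, 0, 0, 0, 0, 0, 0, 0, 0, 0, 0]]),
    (23874, 4, 2613, [[0]], [[0]]),
    (23892, 6, 427, [[0, 0, 0]], [[0, 0, 0, 0, 0]]),
    (23897, 1, 2521, [[0, 0, 0]], [[0, 0, 0]]),
    (23915, 4, 719, [[0, 0, 0, 0, 0]], [[0, 0, 0]]),
    (23920, 6, 2628, [[0, 0]], [[0, 0, 0, 0]]),
    (23938, 3, 337, [[0, 0, 0, 0, 0, 0]], [[0, 0, 0, 0, 0, 0, 0, 0, 0, 0, 0]]),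
    (23956, 6, 3848, [[0, 0, 0, 0, 0, 0]], [[0, 0, 0, 0, 0, 0]]),
    (23961, 8, 5517, [[0, 0]], [[0, 0]]),
    (23979, 5, 4027, [[0]], [[0]]),
    (23997, 5, 4047, [[0, 0, 0, 0, 0]], [[0, 0, 0, 0, 0]]),
    (24002, 2, 335, [[0, 0, 0, 0, 0]], [[0, 0, 0, 0, 0]]),
    (24011, 6, 718, [[0, 0]], [[0, 0, 0, 0]]),
    (24033, 4, 421, [[0, 0, 0]], [[0, 0, 0, 0, 0]]),
    (24042, 3, 335, [[0, 0, 0, 0, 0, 0, 0, 0, 0, 0, 0, 0]], [[0, 0, 0, 0, 0, 0, 0, 0, 0, 0, 0, 0]]),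
    (24051, 7, 335, [[0, 0, 0, 0, 0, 0, 0, 0, 0, 0, 0, 0, 0, 0, 0, 0, 0, 0, 0, 0, 0, 0, 0, 0, 0]], [[0, 0, 0, 0, 0, 0, 0, 0, 0, 0, 0, 0, 0, 0, 0, 0, 0, 0, 0, 0, 0, 0, 0, 0, 0]]),
    (24073, 6, 335, [[0, 0, 0, 0, 0, 0]], [[0, 0, 0, 0, 0, 0]]),
    (24082, 4, 335, [[0, 0, 0, 0, 0, 0, 0, 0, 0, 0, 0, 0, 0]], [[0, 0, 0, 0, 0, 0, 0, 0, 0, 0, 0, 0, 0]]),
    (24091, 8, 335, [[0, 0]], [[0, 0]]),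
    (24113, 6, 3759, [[0, 0, 0]], [[0, 0, 0, 0, 0]]),
    (24122, 5, 335, [[0, 0, 0, 0, 0, 0, 0, 0, 0, 0, 0]], [[0, 0, 0, 0, 0, 0, 0, 0, 0, 0, 0]]),
    (24131, 1, 335, [[0, 0, 0]], [[0, 0, 0]]),
    (24153, 5, 326, [[0, 0, 0, 0, 0, 0, 0]], [[0, 0, 0, 0, 0, 0, 0]]),
    (24162, 4, 2465, [[0, 0, 0, 0, 0, 0, 0, 0, 0]], [[0, 0, 0, 0, 0, 0, 0, 0, 0, 0, 0]]),
    (24173, 5, 2643, [[0]], [[0]]),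
    (24186, 5, 2581, [[0]], [[0]]),
    (24199, 5, 2688, [[0]], [[0]]),
    (24212, 5, 2613, [[0]], [[0]]),
    (24225, 5, 2551, [[0]], [[0]]),
    (24238, 5, 2658, [[0]], [[0]]),
    (24251, 5, 2596, [[0]], [[0]]),
    (24264, 5, 2703, [[0]], [[0]]),
    (24277, 5, 2628, [[0]], [[0]]),
    (24290, 5, 2566, [[0]], [[0]])]

/-- Steps from class 0, part. -/
def step0_29 : List (Nat × Nat × Nat × List (List Nat) × List (List Nat)) :=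
  [(24303, 5, 2673, [[0]], [[0]]),
    (24316, 5, 2611, [[0]], [[0]]),
    (24329, 5, 2536, [[0]], [[0]]),
    (24342, 5, 331, [[0]], [[0]]),
    (24361, 6, 726, [[0, 0, 0, 0, 0]], [[0, 0, 0]]),
    (24367, 4, 330, [[0]], [[0]]),
    (24386, 5, 327, [[0, 0, 0, 0, 0]], [[0, 0, 0, 0, 0]]),
    (24392, 3, 329, [[0]], [[0]]),
    (24411, 6, 3759, [[0, 0, 0, 0]], [[0, 0]]),
    (24417, 2, 328, [[0]], [[0]]),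
    (24436, 6, 334, [[0]], [[0]]),
    (24442, 1, 327, [[0]], [[0]]),
    (24461, 4, 417, [[0, 0, 0, 0, 0, 0, 0, 0, 0, 0, 0]], [[0, 0, 0, 0, 0, 0, 0, 0, 0]]),
    (24467, 8, 326, [[0]], [[0]]),
    (24486, 4, 2423, [[0, 0, 0, 0, 0]], [[0, 0, 0]]),
    (24492, 7, 325, [[0]], [[0]]),
    (24511, 5, 3994, [[0, 0, 0, 0, 0, 0, 0, 0, 0, 0, 0]], [[0, 0, 0, 0, 0, 0, 0, 0, 0, 0, 0]]),
    (24523, 4, 2673, [[0, 0, 0, 0, 0, 0, 0, 0, 0, 0, 0, 0, 0]], [[0, 0, 0, 0, 0, 0, 0, 0, 0, 0, 0, 0, 0]]),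
    (24535, 3, 334, [[0, 0, 0, 0, 0, 0, 0]], [[0, 0]]),
    (24547, 2, 5077, [[0]], [[0]]),
    (24559, 1, 2465, [[0]], [[0]]),
    (24571, 8, 5568, [[0]], [[0]]),
    (24583, 7, 331, [[0, 0, 0, 0, 0, 0, 0]], [[0, 0, 0, 0, 0, 0, 0, 0, 0, 0, 0, 0, 0, 0, 0]]),
    (24608, 6, 2643, [[0, 0, 0, 0, 0]], [[0, 0, 0]]),
    (24620, 5, 3974, [[0, 0, 0, 0, 0, 0, 0]], [[0, 0, 0, 0, 0, 0, 0]]),
    (24632, 6, 427, [[0, 0, 0, 0]], [[0, 0]]),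
    (24644, 6, 3759, [[0]], [[0]]),
    (24656, 4, 2395, [[0, 0, 0]], [[0, 0, 0, 0, 0]]),
    (24668, 4, 726, [[0, 0, 0, 0, 0, 0, 0, 0, 0]], [[0, 0, 0, 0, 0, 0, 0, 0, 0, 0, 0]]),
    (24680, 5, 723, [[0]], [[0]]),
    (24698, 5, 722, [[0, 0, 0, 0, 0]], [[0, 0, 0, 0, 0]]),
    (24703, 2, 719, [[0]], [[0]]),
    (24721, 4, 326, [[0, 0, 0]], [[0, 0, 0, 0, 0]]),
    (24726, 7, 333, [[0, 0, 0, 0, 0, 0, 0, 0, 0]], [[0, 0, 0]]),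
    (24744, 4, 726, [[0]], [[0]]),
    (24762, 6, 2536, [[0, 0, 0, 0]], [[0, 0]]),
    (24767, 1, 722, [[0]], [[0]]),
    (24785, 4, 2536, [[0, 0, 0, 0, 0, 0, 0, 0, 0]], [[0, 0, 0, 0, 0, 0, 0, 0, 0, 0, 0]]),
    (24803, 6, 417, [[0, 0]], [[0, 0, 0, 0]]),
    (24808, 3, 327, [[0, 0, 0, 0, 0, 0, 0, 0, 0]], [[0, 0, 0]]),
    (24826, 6, 727, [[0]], [[0]]),
    (24831, 8, 725, [[0]], [[0]]),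
    (24849, 5, 419, [[0]], [[0]]),
    (24860, 3, 330, [[0, 0, 0, 0, 0, 0, 0, 0, 0, 0]], [[0, 0, 0, 0]]),
    (24871, 1, 417, [[0]], [[0]]),
    (24882, 7, 334, [[0, 0, 0, 0, 0, 0, 0, 0, 0, 0, 0, 0, 0, 0, 0, 0, 0, 0, 0, 0, 0, 0, 0]], [[0, 0, 0, 0, 0, 0, 0, 0, 0, 0, 0, 0, 0, 0, 0, 0, 0]]),
    (24906, 5, 417, [[0, 0, 0, 0, 0]], [[0, 0, 0, 0, 0]]),
    (24917, 6, 427, [[0]], [[0]]),
    (24928, 4, 2737, [[0, 0, 0, 0, 0, 0, 0, 0, 0]], [[0, 0, 0, 0, 0, 0, 0, 0, 0, 0, 0]]),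
    (24939, 4, 425, [[0]], [[0]]),
    (24950, 2, 424, [[0]], [[0]]),
    (24961, 8, 423, [[0]], [[0]]),
    (24985, 6, 327, [[0, 0]], [[0, 0, 0, 0]]),
    (24996, 6, 2820, [[0, 0, 0]], [[0, 0, 0, 0, 0]]),
    (25007, 4, 722, [[0, 0, 0, 0, 0, 0, 0, 0, 0, 0, 0]], [[0, 0, 0, 0, 0, 0, 0, 0, 0]]),
    (25018, 5, 5604, [[0]], [[0]]),
    (25035, 6, 721, [[0, 0, 0]], [[0, 0, 0, 0, 0]]),
    (25039, 8, 3166, [[0, 0]], [[0, 0]]),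
    (25056, 4, 2479, [[0]], [[0]]),
    (25073, 6, 2772, [[0]], [[0]]),
    (25077, 7, 332, [[0, 0, 0, 0, 0, 0, 0, 0, 0, 0, 0, 0, 0, 0, 0, 0, 0, 0, 0, 0, 0]], [[0, 0, 0, 0, 0]]),
    (25094, 3, 337, [[0, 0, 0, 0, 0, 0, 0, 0]], [[0, 0, 0, 0, 0]]),
    (25111, 4, 2839, [[0, 0, 0]], [[0, 0, 0, 0, 0]]),
    (25128, 6, 3741, [[0, 0, 0, 0, 0]], [[0, 0, 0]])]

/-- Steps from class 0, part. -/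
def step0_30 : List (Nat × Nat × Nat × List (List Nat) × List (List Nat)) :=
  [(25132, 2, 2929, [[0, 0, 0, 0, 0]], [[0, 0, 0, 0, 0]]),
    (25149, 4, 330, [[0, 0, 0, 0, 0, 0, 0, 0, 0]], [[0, 0, 0, 0, 0, 0, 0, 0, 0, 0, 0]]),
    (25166, 5, 5627, [[0, 0, 0, 0, 0]], [[0, 0, 0, 0, 0]]),
    (25170, 1, 2536, [[0]], [[0]]),
    (25187, 5, 2521, [[0]], [[0]]),
    (25197, 2, 2581, [[0, 0, 0, 0, 0]], [[0, 0, 0, 0, 0]]),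
    (25207, 7, 335, [[0, 0, 0, 0, 0, 0, 0, 0, 0, 0, 0]], [[0, 0, 0, 0, 0, 0, 0, 0, 0, 0, 0, 0, 0, 0, 0, 0, 0, 0, 0]]),
    (25230, 6, 336, [[0, 0, 0]], [[0, 0, 0, 0, 0]]),
    (25240, 4, 428, [[0, 0, 0, 0, 0]], [[0, 0, 0]]),
    (25250, 3, 333, [[0, 0, 0, 0, 0, 0, 0, 0, 0, 0, 0]], [[0, 0, 0, 0, 0, 0]]),
    (25260, 8, 2772, [[0, 0]], [[0, 0]]),
    (25283, 5, 2451, [[0, 0, 0, 0, 0]], [[0, 0, 0, 0, 0]]),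
    (25293, 4, 2643, [[0, 0, 0, 0, 0, 0, 0, 0, 0, 0, 0]], [[0, 0, 0, 0, 0, 0, 0, 0, 0]]),
    (25303, 4, 2737, [[0]], [[0]]),
    (25313, 1, 5201, [[0, 0, 0]], [[0, 0, 0]]),
    (25336, 6, 2871, [[0, 0, 0, 0, 0]], [[0, 0, 0]]),
    (25346, 6, 2536, [[0]], [[0]]),
    (25356, 5, 2381, [[0, 0, 0, 0, 0, 0, 0, 0, 0, 0, 0]], [[0, 0, 0, 0, 0, 0, 0, 0, 0, 0, 0]]),
    (25372, 6, 2658, [[0, 0, 0, 0, 0, 0]], [[0, 0, 0, 0, 0, 0]]),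
    (25388, 6, 2721, [[0, 0]], [[0, 0, 0, 0]]),
    (25391, 1, 5077, [[0]], [[0]]),
    (25407, 4, 2753, [[0, 0, 0, 0, 0, 0, 0, 0, 0, 0, 0, 0, 0]], [[0, 0, 0, 0, 0, 0, 0, 0, 0, 0, 0, 0, 0]]),
    (25423, 4, 2566, [[0, 0, 0]], [[0, 0, 0, 0, 0]]),
    (25439, 5, 2451, [[0, 0, 0, 0, 0, 0, 0]], [[0, 0, 0, 0, 0, 0, 0]]),
    (25442, 8, 2855, [[0]], [[0]]),
    (25458, 3, 332, [[0, 0]], [[0, 0, 0, 0, 0, 0, 0]]),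
    (25474, 4, 425, [[0, 0, 0, 0, 0, 0, 0, 0, 0]], [[0, 0, 0, 0, 0, 0, 0, 0, 0, 0, 0]]),
    (25490, 6, 334, [[0, 0, 0, 0]], [[0, 0]]),
    (25493, 7, 326, [[0, 0, 0, 0, 0, 0, 0, 0, 0, 0, 0, 0, 0, 0, 0]], [[0, 0, 0, 0, 0, 0, 0]]),
    (25509, 2, 2536, [[0]], [[0]]),
    (25525, 5, 5637, [[0, 0, 0, 0, 0, 0, 0, 0, 0, 0, 0]], [[0, 0, 0, 0, 0, 0, 0, 0, 0, 0, 0]]),
    (25534, 1, 2628, [[0, 0, 0]], [[0, 0, 0]]),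
    (25556, 5, 5627, [[0, 0, 0, 0, 0, 0, 0]], [[0, 0, 0, 0, 0, 0, 0]]),
    (25565, 4, 336, [[0, 0, 0, 0, 0]], [[0, 0, 0]]),
    (25574, 2, 2912, [[0]], [[0]]),
    (25596, 6, 3799, [[0, 0]], [[0, 0, 0, 0]]),
    (25605, 4, 2820, [[0, 0, 0, 0, 0, 0, 0, 0, 0, 0, 0]], [[0, 0, 0, 0, 0, 0, 0, 0, 0]]),
    (25614, 3, 328, [[0, 0, 0, 0, 0]], [[0, 0, 0, 0, 0, 0, 0, 0]]),
    (25623, 7, 329, [[0, 0, 0, 0, 0]], [[0, 0, 0, 0, 0, 0, 0, 0, 0, 0, 0, 0, 0, 0, 0, 0, 0, 0, 0, 0, 0]]),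
    (25645, 6, 2820, [[0, 0, 0, 0, 0, 0]], [[0, 0, 0, 0, 0, 0]]),
    (25654, 4, 2423, [[0, 0, 0, 0, 0, 0, 0, 0, 0, 0, 0, 0, 0]], [[0, 0, 0, 0, 0, 0, 0, 0, 0, 0, 0, 0, 0]]),
    (25663, 8, 3189, [[0]], [[0]]),
    (25685, 6, 727, [[0, 0, 0, 0]], [[0, 0]]),
    (25694, 5, 428, [[0, 0, 0, 0, 0, 0, 0, 0, 0, 0, 0]], [[0, 0, 0, 0, 0, 0, 0, 0, 0, 0, 0]]),
    (25709, 4, 725, [[0, 0, 0]], [[0, 0, 0, 0, 0]]),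
    (25724, 6, 2772, [[0, 0, 0, 0]], [[0, 0]]),
    (25739, 6, 330, [[0, 0, 0, 0, 0]], [[0, 0, 0]]),
    (25741, 8, 428, [[0, 0]], [[0, 0]]),
    (25756, 2, 428, [[0, 0, 0, 0, 0]], [[0, 0, 0, 0, 0]]),
    (25771, 4, 428, [[0, 0, 0, 0, 0, 0, 0, 0, 0, 0, 0, 0, 0]], [[0, 0, 0, 0, 0, 0, 0, 0, 0, 0, 0, 0, 0]]),
    (25786, 4, 2753, [[0, 0, 0, 0, 0]], [[0, 0, 0]]),
    (25801, 6, 428, [[0, 0, 0, 0, 0, 0]], [[0, 0, 0, 0, 0, 0]]),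
    (25816, 5, 417, [[0, 0, 0, 0, 0, 0, 0]], [[0, 0, 0, 0, 0, 0, 0]]),
    (25818, 7, 327, [[0, 0, 0]], [[0, 0, 0, 0, 0, 0, 0, 0, 0]]),
    (25833, 1, 428, [[0, 0, 0]], [[0, 0, 0]]),
    (25848, 3, 335, [[0, 0, 0]], [[0, 0, 0, 0, 0, 0, 0, 0, 0]]),
    (25863, 5, 721, [[0, 0, 0, 0, 0, 0, 0, 0, 0, 0, 0]], [[0, 0, 0, 0, 0, 0, 0, 0, 0, 0, 0]]),
    (25871, 8, 721, [[0, 0]], [[0, 0]]),
    (25892, 6, 721, [[0, 0, 0, 0, 0, 0]], [[0, 0, 0, 0, 0, 0]]),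
    (25900, 3, 325, [[0, 0, 0, 0]], [[0, 0, 0, 0, 0, 0, 0, 0, 0, 0]]),
    (25921, 6, 425, [[0, 0, 0, 0, 0]], [[0, 0, 0]]),
    (25929, 4, 2673, [[0, 0, 0, 0, 0]], [[0, 0, 0]]),
    (25937, 1, 721, [[0, 0, 0]], [[0, 0, 0]]),
    (25958, 6, 2658, [[0, 0, 0]], [[0, 0, 0, 0, 0]])]

/-- Steps from class 0, part. -/
def step0_31 : List (Nat × Nat × Nat × List (List Nat) × List (List Nat)) :=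
  [(25966, 4, 721, [[0, 0, 0, 0, 0, 0, 0, 0, 0, 0, 0, 0, 0]], [[0, 0, 0, 0, 0, 0, 0, 0, 0, 0, 0, 0, 0]]),
    (25974, 7, 328, [[0, 0, 0, 0, 0, 0, 0, 0, 0, 0, 0, 0, 0, 0, 0, 0, 0]], [[0, 0, 0, 0, 0, 0, 0, 0, 0, 0, 0, 0, 0, 0, 0, 0, 0, 0, 0, 0, 0, 0, 0]]),
    (25995, 4, 327, [[0, 0, 0, 0, 0, 0, 0, 0, 0, 0, 0]], [[0, 0, 0, 0, 0, 0, 0, 0, 0]]),
    (26003, 2, 721, [[0, 0, 0, 0, 0]], [[0, 0, 0, 0, 0]]),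
    (26024, 5, 722, [[0, 0, 0, 0, 0, 0, 0]], [[0, 0, 0, 0, 0, 0, 0]]),
    (26032, 5, 3941, [[0]], [[0]]),
    (26046, 4, 721, [[0, 0, 0, 0, 0]], [[0, 0, 0]]),
    (26060, 4, 2507, [[0, 0, 0, 0, 0, 0, 0, 0, 0, 0, 0]], [[0, 0, 0, 0, 0, 0, 0, 0, 0]]),
    (26074, 6, 3781, [[0, 0, 0, 0, 0, 0]], [[0, 0, 0, 0, 0, 0]]),
    (26088, 6, 428, [[0, 0, 0]], [[0, 0, 0, 0, 0]]),
    (26102, 5, 3974, [[0, 0, 0, 0, 0]], [[0, 0, 0, 0, 0]]),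
    (26116, 6, 2551, [[0, 0]], [[0, 0, 0, 0]]),
    (26117, 7, 330, [[0, 0, 0, 0, 0, 0, 0, 0, 0, 0, 0, 0, 0, 0, 0, 0, 0, 0, 0]], [[0, 0, 0, 0, 0, 0, 0, 0, 0, 0, 0]]),
    (26131, 8, 5533, [[0, 0]], [[0, 0]]),
    (26145, 1, 2437, [[0, 0, 0]], [[0, 0, 0]]),
    (26159, 2, 5184, [[0, 0, 0, 0, 0]], [[0, 0, 0, 0, 0]]),
    (26173, 3, 331, [[0, 0, 0, 0, 0, 0]], [[0, 0, 0, 0, 0, 0, 0, 0, 0, 0, 0]]),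
    (26187, 4, 2536, [[0]], [[0]]),
    (26201, 5, 336, [[0, 0, 0, 0, 0, 0, 0, 0, 0, 0, 0]], [[0, 0, 0, 0, 0, 0, 0, 0, 0, 0, 0]]),
    (26208, 7, 336, [[0, 0, 0, 0, 0, 0, 0, 0, 0, 0, 0, 0, 0, 0, 0, 0, 0, 0, 0, 0, 0, 0, 0, 0, 0]], [[0, 0, 0, 0, 0, 0, 0, 0, 0, 0, 0, 0, 0, 0, 0, 0, 0, 0, 0, 0, 0, 0, 0, 0, 0]]),
    (26228, 4, 2479, [[0, 0, 0, 0, 0, 0, 0, 0, 0]], [[0, 0, 0, 0, 0, 0, 0, 0, 0, 0, 0]]),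
    (26235, 8, 336, [[0, 0]], [[0, 0]]),
    (26255, 4, 423, [[0, 0, 0]], [[0, 0, 0, 0, 0]]),
    (26262, 1, 336, [[0, 0, 0]], [[0, 0, 0]]),
    (26282, 6, 336, [[0, 0, 0, 0, 0, 0]], [[0, 0, 0, 0, 0, 0]]),
    (26289, 2, 336, [[0, 0, 0, 0, 0]], [[0, 0, 0, 0, 0]]),
    (26309, 6, 3781, [[0, 0, 0]], [[0, 0, 0, 0, 0]]),
    (26316, 3, 336, [[0, 0, 0, 0, 0, 0, 0, 0, 0, 0, 0, 0]], [[0, 0, 0, 0, 0, 0, 0, 0, 0, 0, 0, 0]]),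
    (26336, 5, 327, [[0, 0, 0, 0, 0, 0, 0]], [[0, 0, 0, 0, 0, 0, 0]]),
    (26343, 4, 336, [[0, 0, 0, 0, 0, 0, 0, 0, 0, 0, 0, 0, 0]], [[0, 0, 0, 0, 0, 0, 0, 0, 0, 0, 0, 0, 0]]),
    (26363, 6, 722, [[0, 0]], [[0, 0, 0, 0]]),
    (26376, 9, 325, [[0]], [[0]]),
    (26389, 7, 2367, [[0, 0, 0, 0, 0, 0, 0, 0, 0, 0, 0, 0, 0, 0, 0, 0, 0, 0, 0, 0, 0, 0, 0, 0, 0]], [[0, 0, 0, 0, 0, 0, 0, 0, 0, 0, 0, 0, 0, 0, 0, 0, 0, 0, 0, 0, 0, 0, 0, 0, 0]]),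
    (26402, 7, 2367, [[0, 0, 0, 0, 0, 0, 0, 0, 0, 0, 0, 0, 0, 0, 0, 0, 0, 0, 0]], [[0, 0, 0, 0, 0, 0, 0, 0, 0, 0, 0]]),
    (26415, 7, 2367, [[0, 0, 0, 0, 0, 0, 0, 0, 0, 0, 0, 0, 0, 0, 0, 0, 0]], [[0, 0, 0, 0, 0, 0, 0, 0, 0, 0, 0, 0, 0, 0, 0, 0, 0, 0, 0, 0, 0, 0, 0]]),
    (26428, 7, 2367, [[0, 0, 0]], [[0, 0, 0, 0, 0, 0, 0, 0, 0]]),
    (26441, 7, 2367, [[0, 0, 0, 0, 0]], [[0, 0, 0, 0, 0, 0, 0, 0, 0, 0, 0, 0, 0, 0, 0, 0, 0, 0, 0, 0, 0]]),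
    (26454, 7, 2367, [[0, 0, 0, 0, 0, 0, 0, 0, 0, 0, 0, 0, 0, 0, 0]], [[0, 0, 0, 0, 0, 0, 0]]),
    (26467, 7, 2367, [[0, 0, 0, 0, 0, 0, 0, 0, 0, 0, 0]], [[0, 0, 0, 0, 0, 0, 0, 0, 0, 0, 0, 0, 0, 0, 0, 0, 0, 0, 0]]),
    (26480, 7, 2367, [[0, 0, 0, 0, 0, 0, 0, 0, 0, 0, 0, 0, 0, 0, 0, 0, 0, 0, 0, 0, 0]], [[0, 0, 0, 0, 0]]),
    (26493, 7, 2367, [[0, 0, 0, 0, 0, 0, 0, 0, 0, 0, 0, 0, 0, 0, 0, 0, 0, 0, 0, 0, 0, 0, 0]], [[0, 0, 0, 0, 0, 0, 0, 0, 0, 0, 0, 0, 0, 0, 0, 0, 0]]),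
    (26506, 7, 2367, [[0, 0, 0, 0, 0, 0, 0, 0, 0]], [[0, 0, 0]]),
    (26519, 7, 2367, [[0, 0, 0, 0, 0, 0, 0]], [[0, 0, 0, 0, 0, 0, 0, 0, 0, 0, 0, 0, 0, 0, 0]]),
    (26532, 7, 2367, [[0]], [[0]]),
    (26545, 7, 337, [[0]], [[0]]),
    (26557, 6, 722, [[0, 0, 0, 0, 0]], [[0, 0, 0]]),
    (26569, 5, 326, [[0, 0, 0, 0, 0]], [[0, 0, 0, 0, 0]]),
    (26581, 6, 3750, [[0, 0, 0, 0]], [[0, 0]]),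
    (26593, 6, 333, [[0]], [[0]]),
    (26605, 4, 428, [[0, 0, 0, 0, 0, 0, 0, 0, 0, 0, 0]], [[0, 0, 0, 0, 0, 0, 0, 0, 0]]),
    (26617, 4, 2409, [[0, 0, 0, 0, 0]], [[0, 0, 0]]),
    (26629, 5, 330, [[0]], [[0]]),
    (26641, 4, 329, [[0]], [[0]]),
    (26653, 3, 328, [[0]], [[0]]),
    (26665, 2, 327, [[0]], [[0]]),
    (26677, 1, 326, [[0]], [[0]]),
    (26689, 8, 325, [[0]], [[0]]),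
    (26714, 7, 337, [[0, 0, 0, 0, 0, 0, 0]], [[0, 0, 0, 0, 0, 0, 0, 0, 0, 0, 0, 0, 0, 0, 0]]),
    (26725, 5, 4047, [[0, 0, 0, 0, 0, 0, 0]], [[0, 0, 0, 0, 0, 0, 0]]),
    (26736, 6, 3839, [[0]], [[0]]),
    (26747, 4, 724, [[0, 0, 0, 0, 0, 0, 0, 0, 0]], [[0, 0, 0, 0, 0, 0, 0, 0, 0, 0, 0]]),
    (26758, 4, 2581, [[0, 0, 0, 0, 0, 0, 0, 0, 0, 0, 0, 0, 0]], [[0, 0, 0, 0, 0, 0, 0, 0, 0, 0, 0, 0, 0]]),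
    (26769, 2, 5231, [[0]], [[0]]),
    (26780, 8, 5552, [[0]], [[0]])]

/-- Steps from class 0, part. -/
def step0_32 : List (Nat × Nat × Nat × List (List Nat) × List (List Nat)) :=
  [(26804, 6, 2551, [[0, 0, 0, 0, 0]], [[0, 0, 0]]),
    (26815, 6, 426, [[0, 0, 0, 0]], [[0, 0]]),
    (26826, 4, 2479, [[0, 0, 0]], [[0, 0, 0, 0, 0]]),
    (26837, 5, 3911, [[0, 0, 0, 0, 0, 0, 0, 0, 0, 0, 0]], [[0, 0, 0, 0, 0, 0, 0, 0, 0, 0, 0]]),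
    (26848, 3, 327, [[0, 0, 0, 0, 0, 0, 0]], [[0, 0]]),
    (26859, 1, 2367, [[0]], [[0]]),
    (26883, 7, 337, [[0, 0, 0, 0, 0, 0, 0, 0, 0]], [[0, 0, 0]]),
    (26893, 6, 2596, [[0, 0, 0, 0]], [[0, 0]]),
    (26903, 4, 2596, [[0, 0, 0, 0, 0, 0, 0, 0, 0]], [[0, 0, 0, 0, 0, 0, 0, 0, 0, 0, 0]]),
    (26913, 3, 331, [[0, 0, 0, 0, 0, 0, 0, 0, 0]], [[0, 0, 0]]),
    (26923, 8, 715, [[0]], [[0]]),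
    (26946, 5, 725, [[0, 0, 0, 0, 0]], [[0, 0, 0, 0, 0]]),
    (26956, 4, 330, [[0, 0, 0]], [[0, 0, 0, 0, 0]]),
    (26966, 4, 716, [[0]], [[0]]),
    (26976, 1, 725, [[0]], [[0]]),
    (26999, 6, 425, [[0, 0]], [[0, 0, 0, 0]]),
    (27009, 6, 717, [[0]], [[0]]),
    (27019, 5, 726, [[0]], [[0]]),
    (27029, 2, 722, [[0]], [[0]]),
    (27052, 7, 337, [[0, 0, 0, 0, 0, 0, 0, 0, 0, 0, 0, 0, 0, 0, 0, 0, 0, 0, 0, 0, 0, 0, 0]], [[0, 0, 0, 0, 0, 0, 0, 0, 0, 0, 0, 0, 0, 0, 0, 0, 0]]),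
    (27061, 6, 420, [[0]], [[0]]),
    (27070, 4, 418, [[0]], [[0]]),
    (27079, 8, 416, [[0]], [[0]]),
    (27101, 6, 2855, [[0, 0, 0]], [[0, 0, 0, 0, 0]]),
    (27110, 5, 425, [[0]], [[0]]),
    (27119, 1, 423, [[0]], [[0]]),
    (27141, 5, 423, [[0, 0, 0, 0, 0]], [[0, 0, 0, 0, 0]]),
    (27150, 4, 2772, [[0, 0, 0, 0, 0, 0, 0, 0, 0]], [[0, 0, 0, 0, 0, 0, 0, 0, 0, 0, 0]]),
    (27159, 2, 417, [[0]], [[0]]),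
    (27181, 6, 330, [[0, 0]], [[0, 0, 0, 0]]),
    (27190, 4, 721, [[0, 0, 0, 0, 0, 0, 0, 0, 0, 0, 0]], [[0, 0, 0, 0, 0, 0, 0, 0, 0]]),
    (27199, 3, 333, [[0, 0, 0, 0, 0, 0, 0, 0, 0, 0]], [[0, 0, 0, 0]]),
    (27221, 7, 337, [[0, 0, 0, 0, 0, 0, 0, 0, 0, 0, 0, 0, 0, 0, 0, 0, 0, 0, 0, 0, 0]], [[0, 0, 0, 0, 0]]),
    (27229, 4, 2737, [[0, 0, 0]], [[0, 0, 0, 0, 0]]),
    (27237, 2, 3001, [[0, 0, 0, 0, 0]], [[0, 0, 0, 0, 0]]),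
    (27258, 5, 5584, [[0, 0, 0, 0, 0]], [[0, 0, 0, 0, 0]]),
    (27266, 5, 5743, [[0]], [[0]]),
    (27274, 8, 3061, [[0, 0]], [[0, 0]]),
    (27295, 6, 2839, [[0]], [[0]]),
    (27303, 3, 329, [[0, 0, 0, 0, 0, 0, 0, 0]], [[0, 0, 0, 0, 0]]),
    (27324, 6, 3799, [[0, 0, 0, 0, 0]], [[0, 0, 0]]),
    (27332, 4, 335, [[0, 0, 0, 0, 0, 0, 0, 0, 0]], [[0, 0, 0, 0, 0, 0, 0, 0, 0, 0, 0]]),
    (27340, 1, 2611, [[0]], [[0]]),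
    (27361, 6, 715, [[0, 0, 0]], [[0, 0, 0, 0, 0]]),
    (27369, 4, 2367, [[0]], [[0]]),
    (27390, 7, 337, [[0, 0, 0, 0, 0, 0, 0, 0, 0, 0, 0]], [[0, 0, 0, 0, 0, 0, 0, 0, 0, 0, 0, 0, 0, 0, 0, 0, 0, 0, 0]]),
    (27397, 4, 419, [[0, 0, 0, 0, 0]], [[0, 0, 0]]),
    (27404, 8, 2804, [[0, 0]], [[0, 0]]),
    (27424, 4, 2673, [[0, 0, 0, 0, 0, 0, 0, 0, 0, 0, 0]], [[0, 0, 0, 0, 0, 0, 0, 0, 0]]),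
    (27431, 1, 5092, [[0, 0, 0]], [[0, 0, 0]]),
    (27451, 6, 2566, [[0]], [[0]]),
    (27458, 2, 2611, [[0, 0, 0, 0, 0]], [[0, 0, 0, 0, 0]]),
    (27478, 6, 325, [[0, 0, 0]], [[0, 0, 0, 0, 0]]),
    (27485, 3, 335, [[0, 0, 0, 0, 0, 0, 0, 0, 0, 0, 0]], [[0, 0, 0, 0, 0, 0]]),
    (27505, 5, 2479, [[0, 0, 0, 0, 0]], [[0, 0, 0, 0, 0]]),
    (27512, 4, 2756, [[0]], [[0]]),
    (27532, 6, 2721, [[0, 0, 0, 0, 0]], [[0, 0, 0]]),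
    (27539, 5, 2367, [[0]], [[0]]),
    (27559, 7, 337, [[0, 0, 0, 0, 0, 0, 0, 0, 0, 0, 0, 0, 0, 0, 0]], [[0, 0, 0, 0, 0, 0, 0]]),
    (27565, 5, 2522, [[0, 0, 0, 0, 0, 0, 0, 0, 0, 0, 0]], [[0, 0, 0, 0, 0, 0, 0, 0, 0, 0, 0]]),
    (27584, 6, 2871, [[0, 0]], [[0, 0, 0, 0]]),
    (27590, 4, 2721, [[0, 0, 0, 0, 0, 0, 0, 0, 0, 0, 0, 0, 0]], [[0, 0, 0, 0, 0, 0, 0, 0, 0, 0, 0, 0, 0]]),
    (27609, 5, 2423, [[0, 0, 0, 0, 0, 0, 0]], [[0, 0, 0, 0, 0, 0, 0]]),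
    (27615, 3, 330, [[0, 0]], [[0, 0, 0, 0, 0, 0, 0]])]

/-- Steps from class 0, part. -/
def step0_33 : List (Nat × Nat × Nat × List (List Nat) × List (List Nat)) :=
  [(27634, 6, 332, [[0, 0, 0, 0]], [[0, 0]]),
    (27640, 2, 2688, [[0]], [[0]]),
    (27659, 6, 2628, [[0, 0, 0, 0, 0, 0]], [[0, 0, 0, 0, 0, 0]]),
    (27665, 1, 5199, [[0]], [[0]]),
    (27684, 4, 2536, [[0, 0, 0]], [[0, 0, 0, 0, 0]]),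
    (27690, 8, 2823, [[0]], [[0]]),
    (27709, 4, 421, [[0, 0, 0, 0, 0, 0, 0, 0, 0]], [[0, 0, 0, 0, 0, 0, 0, 0, 0, 0, 0]]),
    (27728, 7, 337, [[0, 0, 0, 0, 0]], [[0, 0, 0, 0, 0, 0, 0, 0, 0, 0, 0, 0, 0, 0, 0, 0, 0, 0, 0, 0, 0]]),
    (27733, 4, 2522, [[0, 0, 0, 0, 0, 0, 0, 0, 0, 0, 0, 0, 0]], [[0, 0, 0, 0, 0, 0, 0, 0, 0, 0, 0, 0, 0]]),
    (27751, 6, 720, [[0, 0, 0, 0]], [[0, 0]]),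
    (27756, 1, 2566, [[0, 0, 0]], [[0, 0, 0]]),
    (27774, 4, 331, [[0, 0, 0, 0, 0]], [[0, 0, 0]]),
    (27792, 6, 3741, [[0, 0]], [[0, 0, 0, 0]]),
    (27797, 3, 336, [[0, 0, 0, 0, 0]], [[0, 0, 0, 0, 0, 0, 0, 0]]),
    (27815, 6, 2753, [[0, 0, 0, 0, 0, 0]], [[0, 0, 0, 0, 0, 0]]),
    (27820, 8, 3125, [[0]], [[0]]),
    (27838, 5, 5680, [[0, 0, 0, 0, 0, 0, 0, 0, 0, 0, 0]], [[0, 0, 0, 0, 0, 0, 0, 0, 0, 0, 0]]),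
    (27856, 5, 5657, [[0, 0, 0, 0, 0, 0, 0]], [[0, 0, 0, 0, 0, 0, 0]]),
    (27861, 2, 3022, [[0]], [[0]]),
    (27879, 4, 2753, [[0, 0, 0, 0, 0, 0, 0, 0, 0, 0, 0]], [[0, 0, 0, 0, 0, 0, 0, 0, 0]]),
    (27897, 7, 337, [[0, 0, 0]], [[0, 0, 0, 0, 0, 0, 0, 0, 0]]),
    (27901, 3, 332, [[0, 0, 0]], [[0, 0, 0, 0, 0, 0, 0, 0, 0]]),
    (27918, 4, 726, [[0, 0, 0]], [[0, 0, 0, 0, 0]]),
    (27935, 6, 327, [[0, 0, 0, 0, 0]], [[0, 0, 0]]),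
    (27939, 2, 422, [[0, 0, 0, 0, 0]], [[0, 0, 0, 0, 0]]),
    (27956, 4, 2705, [[0, 0, 0, 0, 0]], [[0, 0, 0]]),
    (27973, 5, 424, [[0, 0, 0, 0, 0, 0, 0]], [[0, 0, 0, 0, 0, 0, 0]]),
    (27977, 1, 422, [[0, 0, 0]], [[0, 0, 0]]),
    (27994, 5, 422, [[0, 0, 0, 0, 0, 0, 0, 0, 0, 0, 0]], [[0, 0, 0, 0, 0, 0, 0, 0, 0, 0, 0]]),
    (28011, 6, 2737, [[0, 0, 0, 0]], [[0, 0]]),
    (28015, 8, 422, [[0, 0]], [[0, 0]]),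
    (28032, 4, 422, [[0, 0, 0, 0, 0, 0, 0, 0, 0, 0, 0, 0, 0]], [[0, 0, 0, 0, 0, 0, 0, 0, 0, 0, 0, 0, 0]]),
    (28049, 6, 422, [[0, 0, 0, 0, 0, 0]], [[0, 0, 0, 0, 0, 0]]),
    (28066, 7, 337, [[0, 0, 0, 0, 0, 0, 0, 0, 0, 0, 0, 0, 0, 0, 0, 0, 0]], [[0, 0, 0, 0, 0, 0, 0, 0, 0, 0, 0, 0, 0, 0, 0, 0, 0, 0, 0, 0, 0, 0, 0]]),
    (28069, 2, 718, [[0, 0, 0, 0, 0]], [[0, 0, 0, 0, 0]]),
    (28085, 5, 718, [[0, 0, 0, 0, 0, 0, 0, 0, 0, 0, 0]], [[0, 0, 0, 0, 0, 0, 0, 0, 0, 0, 0]]),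
    (28101, 6, 718, [[0, 0, 0, 0, 0, 0]], [[0, 0, 0, 0, 0, 0]]),
    (28117, 6, 417, [[0, 0, 0, 0, 0]], [[0, 0, 0]]),
    (28120, 1, 718, [[0, 0, 0]], [[0, 0, 0]]),
    (28136, 4, 718, [[0, 0, 0, 0, 0, 0, 0, 0, 0, 0, 0, 0, 0]], [[0, 0, 0, 0, 0, 0, 0, 0, 0, 0, 0, 0, 0]]),
    (28152, 4, 336, [[0, 0, 0, 0, 0, 0, 0, 0, 0, 0, 0]], [[0, 0, 0, 0, 0, 0, 0, 0, 0]]),
    (28168, 5, 719, [[0, 0, 0, 0, 0, 0, 0]], [[0, 0, 0, 0, 0, 0, 0]]),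
    (28171, 8, 718, [[0, 0]], [[0, 0]]),
    (28187, 3, 334, [[0, 0, 0, 0]], [[0, 0, 0, 0, 0, 0, 0, 0, 0, 0]]),
    (28203, 4, 2613, [[0, 0, 0, 0, 0]], [[0, 0, 0]]),
    (28219, 6, 2611, [[0, 0, 0]], [[0, 0, 0, 0, 0]]),
    (28235, 7, 337, [[0, 0, 0, 0, 0, 0, 0, 0, 0, 0, 0, 0, 0, 0, 0, 0, 0, 0, 0]], [[0, 0, 0, 0, 0, 0, 0, 0, 0, 0, 0]]),
    (28237, 1, 2522, [[0, 0, 0]], [[0, 0, 0]]),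
    (28252, 3, 325, [[0, 0, 0, 0, 0, 0]], [[0, 0, 0, 0, 0, 0, 0, 0, 0, 0, 0]]),
    (28267, 5, 4037, [[0]], [[0]]),
    (28282, 4, 2423, [[0, 0, 0, 0, 0, 0, 0, 0, 0, 0, 0]], [[0, 0, 0, 0, 0, 0, 0, 0, 0]]),
    (28297, 6, 416, [[0, 0, 0]], [[0, 0, 0, 0, 0]]),
    (28312, 6, 2643, [[0, 0]], [[0, 0, 0, 0]]),
    (28314, 8, 5549, [[0, 0]], [[0, 0]]),
    (28329, 2, 5199, [[0, 0, 0, 0, 0]], [[0, 0, 0, 0, 0]]),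
    (28344, 4, 2628, [[0]], [[0]]),
    (28359, 4, 723, [[0, 0, 0, 0, 0]], [[0, 0, 0]]),
    (28374, 6, 3870, [[0, 0, 0, 0, 0, 0]], [[0, 0, 0, 0, 0, 0]]),
    (28389, 5, 3888, [[0, 0, 0, 0, 0]], [[0, 0, 0, 0, 0]]),
    (28404, 7, 337, [[0, 0, 0, 0, 0, 0, 0, 0, 0, 0, 0, 0, 0, 0, 0, 0, 0, 0, 0, 0, 0, 0, 0, 0, 0]], [[0, 0, 0, 0, 0, 0, 0, 0, 0, 0, 0, 0, 0, 0, 0, 0, 0, 0, 0, 0, 0, 0, 0, 0, 0]]),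
    (28405, 8, 337, [[0, 0]], [[0, 0]]),
    (28419, 1, 337, [[0, 0, 0]], [[0, 0, 0]]),
    (28433, 2, 337, [[0, 0, 0, 0, 0]], [[0, 0, 0, 0, 0]]),
    (28447, 3, 337, [[0, 0, 0, 0, 0, 0, 0, 0, 0, 0, 0, 0]], [[0, 0, 0, 0, 0, 0, 0, 0, 0, 0, 0, 0]])]

/-- Steps from class 0, part. -/
def step0_34 : List (Nat × Nat × Nat × List (List Nat) × List (List Nat)) :=
  [(28461, 4, 337, [[0, 0, 0, 0, 0, 0, 0, 0, 0, 0, 0, 0, 0]], [[0, 0, 0, 0, 0, 0, 0, 0, 0, 0, 0, 0, 0]]),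
    (28475, 5, 337, [[0, 0, 0, 0, 0, 0, 0, 0, 0, 0, 0]], [[0, 0, 0, 0, 0, 0, 0, 0, 0, 0, 0]]),
    (28489, 4, 2493, [[0, 0, 0, 0, 0, 0, 0, 0, 0]], [[0, 0, 0, 0, 0, 0, 0, 0, 0, 0, 0]]),
    (28503, 4, 425, [[0, 0, 0]], [[0, 0, 0, 0, 0]]),
    (28517, 6, 337, [[0, 0, 0, 0, 0, 0]], [[0, 0, 0, 0, 0, 0]]),
    (28531, 6, 3790, [[0, 0, 0]], [[0, 0, 0, 0, 0]]),
    (28545, 5, 328, [[0, 0, 0, 0, 0, 0, 0]], [[0, 0, 0, 0, 0, 0, 0]]),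
    (28559, 6, 726, [[0, 0]], [[0, 0, 0, 0]])]

/-- Steps from class 0. -/
def step0 : List (Nat × Nat × Nat × List (List Nat) × List (List Nat)) := List.flatten [step0_0, step0_1, step0_2, step0_3, step0_4, step0_5, step0_6, step0_7, step0_8, step0_9, step0_10, step0_11, step0_12, step0_13, step0_14, step0_15, step0_16, step0_17, step0_18, step0_19, step0_20, step0_21, step0_22, step0_23, step0_24, step0_25, step0_26, step0_27, step0_28, step0_29, step0_30, step0_31, step0_32, step0_33, step0_34]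

/-- Steps from class 1, part. -/
def step1_0 : List (Nat × Nat × Nat × List (List Nat) × List (List Nat)) :=
  [(325, 1, 325, [[0]], [[0], [0]]),
    (326, 10, 325, [[0], [0, 0, 0, 1, 0]], []),
    (327, 10, 325, [[0], [1, 0, 1, 1, 1, 1, 1, 0, 1, 1, 1, 1, 1, 0, 1]], []),
    (328, 10, 325, [[0], [1, 1, 1, 1, 0, 1, 1, 1, 0, 1, 1, 1, 1]], []),
    (329, 10, 325, [[0], [0, 0, 1, 0, 1, 0, 1, 1, 0, 1, 0, 1]], []),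
    (330, 10, 325, [[0], [1, 1, 1, 1, 0, 1, 0, 1, 1, 0, 1, 0, 1, 1, 1, 1]], []),
    (331, 10, 325, [[0], [0, 0, 1, 0, 1, 1, 0, 1]], []),
    (332, 10, 325, [[0], [0, 1, 0, 1, 0]], []),
    (333, 10, 325, [[0], [0, 0, 0, 1, 0, 1, 0, 1, 0, 1, 0, 1, 0]], []),
    (334, 10, 325, [[0], [0, 0, 0, 1, 0, 1, 0, 1, 0]], []),
    (335, 10, 325, [[0], [0, 1, 0, 1, 0, 1, 0, 1, 0]], []),
    (336, 10, 325, [[0], [0, 1, 0, 1, 0, 1, 0, 1, 0, 1, 0, 1, 0]], []),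
    (337, 10, 325, [[0], [0, 0, 1, 1]], []),
    (416, 11, 325, [[0], [0, 0, 0, 1, 0]], [[0], [0, 0, 0, 1, 0]]),
    (417, 12, 325, [[0], [0, 0, 0, 1, 0]], [[0], [0, 0, 0, 1, 0]]),
    (418, 10, 325, [[0], [0, 1, 0, 1, 1, 1, 0, 1, 1, 0, 1, 1, 0, 1]], []),
    (419, 10, 325, [[0], [1, 0, 1, 1, 1, 0, 1, 0, 1, 1, 0, 1, 0, 1, 0, 1, 1, 1]], []),
    (420, 10, 325, [[0], [0, 1, 1, 1, 0, 1, 0, 1, 1, 1, 1, 0]], []),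
    (421, 10, 325, [[0], [1, 0, 1, 0, 1, 1, 0, 1, 1, 1, 0]], []),
    (422, 10, 325, [[0], [0, 0, 1, 1, 0, 1, 0, 1, 0, 1, 1, 1, 1, 1, 0]], []),
    (423, 10, 325, [[0], [1, 1, 0, 1, 0, 1, 0, 1, 1, 0, 1]], []),
    (424, 10, 325, [[0], [0, 0, 1, 1, 1, 0, 1, 1, 0, 1]], []),
    (425, 10, 325, [[0], [0, 1, 0, 1, 1, 1, 1, 0, 1, 0, 1]], []),
    (426, 10, 325, [[0], [1, 1, 0, 1, 0, 1, 0, 1, 1, 1, 1, 0, 1, 1, 1, 0]], []),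
    (427, 10, 325, [[0], [0, 0, 1, 1, 1, 0, 1, 1, 0, 1, 1, 0]], []),
    (428, 12, 328, [[0, 0, 0, 1, 0, 1, 0, 1, 1, 0, 1, 1, 0], [0, 0, 0, 1, 1, 0, 1, 1, 0, 1, 0, 1, 1]], [[1, 0, 1, 0, 1, 1, 0, 1, 1], [0, 0, 0, 1, 1, 0, 1, 0, 1, 1, 0, 1, 1]]),
    (559, 13, 325, [[0], [0, 0, 0, 1, 0]], [[0], [0, 0, 0, 1, 0]]),
    (560, 14, 325, [[0], [0, 0, 0, 1, 0]], [[0], [0, 0, 0, 1, 0]]),
    (561, 10, 325, [[0], [0, 1, 0, 1, 1, 1, 1, 1, 1, 0, 1, 1, 0, 1, 1, 0]], []),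
    (562, 10, 325, [[0], [0, 1, 1, 1, 0, 1, 1, 1, 1, 0, 1, 1, 1, 0, 1, 1, 0, 1]], []),
    (563, 12, 328, [[0, 0, 0, 1, 0, 1, 1], [0, 1, 1, 1, 0, 1]], [[1, 0, 1, 0, 1, 1, 0, 1, 1], [0, 1, 1, 0, 1, 0, 1]]),
    (564, 10, 325, [[0], [1, 1, 1, 1, 0, 1, 1, 1, 0, 1, 1, 1, 0, 1, 1, 0]], []),
    (565, 10, 325, [[0], [1, 1, 0, 1, 1, 0, 1, 1, 1, 0, 1, 1, 0]], []),
    (566, 10, 325, [[0], [0, 1, 0, 1, 1, 1, 0, 1, 1, 1, 1, 0, 1]], []),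
    (567, 10, 325, [[0], [1, 1, 1, 1, 0, 1, 1, 0, 1, 1, 1, 1, 0, 1, 1, 1]], []),
    (568, 12, 325, [[0], [0, 1, 0, 1, 1, 1, 0, 1, 1, 1]], [[0], [1, 1, 0, 1, 1]]),
    (569, 10, 325, [[0], [0, 1, 1, 0, 1, 1, 1, 1, 0, 1, 1, 1, 0, 1, 1, 0]], []),
    (570, 10, 325, [[0], [1, 1, 0, 1, 1, 0, 1, 1, 1, 1, 1]], []),
    (571, 14, 424, [[0, 1, 1, 0, 1], [0, 0, 1]], [[1, 1, 0, 1], [0, 0, 1]]),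
    (716, 14, 325, [[0], [0, 0, 1, 1]], [[0], [0, 0, 1, 1]]),
    (717, 10, 325, [[0], [0, 0, 1, 1, 1, 1, 1, 0, 1, 1, 0, 1, 1]], []),
    (718, 10, 325, [[0], [0, 0, 0, 1, 1, 0, 1, 1, 1, 0, 1, 1, 1, 1, 0, 1, 1, 0]], []),
    (719, 12, 328, [[0, 1, 1, 0, 1], [0, 0, 1, 1, 1, 1, 0, 1]], [[1, 0, 1, 0, 1, 1, 0, 1, 1], [1, 0, 1, 1, 0, 1, 1, 0]]),
    (720, 10, 325, [[0], [0, 0, 1, 1, 1, 0, 1, 1, 1, 1, 0, 1, 1, 0, 1, 1, 1, 1]], []),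
    (721, 10, 325, [[0], [0, 0, 1, 0, 1, 1, 1, 1, 0, 1, 1, 1, 0, 1, 0]], []),
    (722, 10, 325, [[0], [0, 1, 1, 0, 1, 1, 0, 1, 1, 1, 1, 1, 0, 1]], []),
    (723, 10, 325, [[0], [0, 1, 1, 0, 1, 1, 1, 0, 1, 1, 1, 0, 1, 1, 1, 1]], []),
    (724, 12, 325, [[0], [0, 0, 1, 1, 1, 0, 1, 1]], [[0], [0, 1, 0, 1, 0]]),
    (725, 10, 325, [[0], [0, 1, 1, 1, 1, 1, 0, 1, 1, 0, 1, 1, 1, 1, 0, 1, 1, 1, 0]], []),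
    (726, 10, 325, [[0], [0, 0, 0, 1, 1, 0, 1, 1, 0, 1, 1, 1, 1, 1, 1, 0, 1, 0]], []),
    (727, 14, 424, [[1, 1, 0, 1], [1, 0, 1]], [[1, 1, 0, 1], [1, 0, 1, 0]]),
    (910, 15, 325, [[0], [0, 0, 1]], [[0], [0, 0, 1]]),
    (911, 16, 325, [[0], [0, 0, 1, 1]], [[0], [0, 0, 1, 1]]),
    (912, 17, 325, [[0], [0, 0, 0, 1, 0]], [[0], [0, 0, 0, 1, 0]]),
    (913, 18, 325, [[0], [0, 0, 0, 1, 0]], [[0], [0, 0, 0, 1, 0]]),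
    (914, 11, 2493, [[0, 1, 1], [1, 1, 1, 0]], [[0, 1, 0, 1, 0], [0, 1]]),
    (915, 18, 3084, [[1, 0], [0, 1, 1, 0]], [[0, 1, 1, 1], [1, 1, 1]]),
    (916, 18, 419, [[1, 1, 1, 1, 0], [1, 1, 1]], [[0, 0, 1, 0], [0, 1, 1, 0]]),
    (917, 18, 427, [[0, 0, 0, 1, 1], [0, 1, 1, 1, 0]], [[0, 1, 1, 1], [1, 1]]),
    (918, 18, 3079, [[1, 0], [0, 0, 1, 1]], [[0, 1, 1, 1, 1], [1, 1, 1, 1]]),
    (919, 11, 2409, [[0, 1, 1], [0, 1]], [[0, 0, 1, 0, 1], [0, 0, 1, 0]]),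
    (920, 18, 327, [[0, 0, 1, 1, 0], [0, 0, 1]], [[0, 0, 0, 1, 1], [0, 0, 1]]),
    (921, 17, 335, [[0, 0, 1, 1, 0], [0, 0, 1]], [[0, 0, 0, 1, 1], [0, 0, 1]]),
    (922, 16, 330, [[0, 0, 0, 1], [0, 0, 1]], [[1, 0], [0, 0, 1]])]

/-- Steps from class 1, part. -/
def step1_1 : List (Nat × Nat × Nat × List (List Nat) × List (List Nat)) :=
  [(1041, 12, 325, [[0], [0, 0, 1, 1]], [[0], [0, 0, 1, 1]]),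
    (1042, 10, 325, [[0], [0, 1, 1, 0, 1, 1, 0, 1, 1, 1]], []),
    (1043, 10, 325, [[0], [0, 0, 0, 1, 1, 1, 0, 1, 1, 1, 1, 0, 1, 0, 1, 0, 1, 1]], []),
    (1044, 10, 325, [[0], [1, 1, 1, 0, 1, 1, 1, 1, 1, 0, 1, 1]], []),
    (1045, 10, 325, [[0], [0, 0, 1, 0, 1, 1, 0, 1, 1, 1]], []),
    (1046, 10, 325, [[0], [0, 0, 1, 0, 1, 1, 0, 1, 0, 1, 0, 1, 1]], []),
    (1047, 10, 325, [[0], [0, 1, 1, 1, 1, 1, 0, 1, 0, 1, 0, 1, 1]], []),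
    (1048, 10, 325, [[0], [0, 0, 0, 1, 1, 1, 0, 1, 1, 0, 1, 0, 1]], []),
    (1049, 10, 325, [[0], [0, 1, 1, 1, 1, 0, 1, 0, 1, 1, 1, 0]], []),
    (1050, 10, 325, [[0], [1, 0, 1, 1, 1, 1, 1, 1, 0, 1, 0, 1, 1, 1, 1, 0, 1]], []),
    (1051, 10, 325, [[0], [1, 1, 1, 0, 1, 1, 1, 1, 0, 1, 1, 1, 0, 1]], []),
    (1052, 12, 328, [[1, 1, 0, 1, 1, 0, 1, 0, 1], [0, 0, 1, 0, 1, 0, 1, 1, 0, 1, 0]], [[1, 0, 1, 0, 1, 1, 0, 1, 1], [0, 0, 0, 1, 0, 1, 1, 0, 1, 0, 1]]),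
    (2381, 18, 3084, [[0, 1, 1, 1], [0, 0, 0, 1, 0]], [[0, 1, 1, 1], [0, 0, 0, 1, 0]]),
    (2395, 12, 325, [[0], [0, 0, 0, 1, 1, 1, 1, 0, 1, 0]], [[0], [1, 1, 0, 1, 0, 1, 1, 0]]),
    (2409, 10, 325, [[0], [0, 1, 1, 1, 1, 0, 1, 1, 0, 1, 1, 0, 1, 1, 0, 1]], []),
    (2423, 10, 325, [[0], [1, 1, 0, 1, 1, 0, 1, 0, 1, 1, 1, 1, 1]], []),
    (2437, 10, 325, [[0], [0, 1, 0, 1, 0, 1, 1, 1]], []),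
    (2451, 10, 325, [[0], [0, 0, 0, 1, 1, 1, 1, 0, 1, 0, 1, 0, 1, 1, 0, 1, 0, 1]], []),
    (2465, 10, 325, [[0], [0, 0, 0, 1, 0, 1, 0, 1, 0, 1, 0, 1, 1, 1, 1]], []),
    (2479, 10, 325, [[0], [0, 1, 1, 1, 0, 1, 1, 0, 1, 1, 1, 1, 1, 0]], []),
    (2493, 10, 325, [[0], [0, 1, 0, 1, 0, 1, 1, 1, 1, 1, 1, 1, 1]], []),
    (2507, 12, 328, [[1, 0, 1, 0, 1, 1, 0, 1, 1], [1, 0, 1, 1, 0, 1, 1]], [[1, 0, 1, 0, 1, 1, 0, 1, 1], [1, 0, 1, 1, 0, 1, 1]]),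
    (2521, 18, 3079, [[0, 1, 0, 1, 0, 1, 0], [0, 0, 1, 0]], [[0, 1, 1, 1, 1], [0, 1, 1, 1]]),
    (2551, 12, 325, [[0], [1, 1, 1, 0, 1, 0]], [[0], [1, 0, 1, 1, 0, 1, 0]]),
    (2566, 18, 327, [[1, 0], [0, 0, 1, 1, 1, 1]], [[0, 0, 0, 1, 1], [0, 0, 1, 1]]),
    (2581, 10, 325, [[0], [1, 0, 1, 1, 1, 0]], []),
    (2596, 10, 325, [[0], [0, 1, 1, 0, 1, 0, 1, 1, 0, 1, 0, 1, 0]], []),
    (2611, 10, 325, [[0], [0, 0, 1, 1, 0, 1, 0, 1, 0, 1, 1, 0, 1, 0, 1, 1]], []),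
    (2628, 10, 325, [[0], [1, 1, 0, 1, 0, 1, 1, 0, 1, 1, 1, 1, 1]], []),
    (2643, 10, 325, [[0], [1, 1, 1, 1, 0, 1, 1, 0, 1, 0, 1, 1, 1]], []),
    (2658, 10, 325, [[0], [0, 0, 0, 1, 1, 1, 1, 0, 1, 0, 1, 1, 1, 1, 1]], []),
    (2673, 10, 325, [[0], [1, 1, 0, 1, 1, 0, 1, 1, 1, 0, 1, 0, 1, 0, 1]], []),
    (2688, 10, 325, [[0], [1, 0, 1, 1, 0, 1, 0, 1, 1, 0, 1]], []),
    (2721, 10, 325, [[0], [1, 1, 1, 1, 1, 0, 1, 1, 0, 1, 1, 0, 1, 0]], []),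
    (2737, 10, 325, [[0], [1, 0, 1, 1, 1, 1, 1]], []),
    (2753, 17, 325, [[0], [1, 1, 1, 1, 1, 1]], [[0], [0, 1, 1, 0]]),
    (2772, 10, 325, [[0], [0, 0, 1, 1, 0, 1, 1, 1, 1, 0, 1, 1, 1, 1]], []),
    (2788, 10, 325, [[0], [1, 0, 1, 0, 1, 0, 1, 0, 1, 1, 0, 1, 1, 1]], []),
    (2804, 10, 325, [[0], [0, 1, 0, 1, 1, 1, 0, 1, 0, 1, 1, 1]], []),
    (2820, 18, 325, [[0], [0, 0, 1, 0, 1, 0]], [[0], [1, 1, 1, 1, 0]]),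
    (2823, 10, 325, [[0], [0, 1, 1, 1, 1, 0, 1, 1, 0, 1, 1, 0, 1, 0, 1]], []),
    (2839, 10, 325, [[0], [0, 0, 1, 0, 1, 1, 0, 1, 0, 1, 0, 1, 1, 0, 1]], []),
    (2855, 10, 325, [[0], [1, 0, 1, 0, 1, 0, 1, 1, 1, 0, 1, 1, 0, 1, 1]], []),
    (2891, 10, 325, [[0], [0, 1, 1, 0, 1, 0, 1, 0, 1, 0, 1, 1, 1, 0, 1, 1, 0]], []),
    (2908, 10, 325, [[0], [1, 1, 1, 0, 1, 0, 1, 1, 0, 1, 0, 1, 0]], []),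
    (2929, 18, 427, [[0, 1], [0, 0, 1, 1]], [[0, 1, 1, 1], [0, 0, 1, 1, 1, 1]]),
    (2946, 12, 328, [[0, 0, 0, 1, 0, 1, 1, 1, 1, 0, 1], [0, 0, 0, 1, 1, 0]], [[1, 0, 1, 0, 1, 1, 0, 1, 1], [0, 1, 0, 1, 0]]),
    (2963, 17, 335, [[1, 0, 1, 0, 1], [0, 1, 0, 1, 0, 1, 0, 1, 0, 1]], [[0, 0, 0, 1, 1], [1, 1, 1, 0]]),
    (2967, 10, 325, [[0], [0, 1, 0, 1, 0, 1, 1, 1, 0, 1, 1, 1, 1, 1, 0]], []),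
    (2984, 10, 325, [[0], [0, 0, 1, 1, 1, 0, 1, 1, 0, 1, 1, 0, 1]], []),
    (3001, 10, 325, [[0], [1, 0, 1, 0, 1, 1, 0, 1, 1, 0, 1, 0, 1]], []),
    (3005, 10, 325, [[0], [0, 1, 1, 0, 1, 1, 0, 1, 1, 1, 1, 0, 1, 1, 1]], []),
    (3022, 10, 325, [[0], [0, 0, 1, 1, 1, 1, 1, 0, 1, 0, 1, 1, 1, 1, 0]], []),
    (3061, 10, 325, [[0], [1, 1, 1, 0, 1, 0, 1, 0, 1, 1, 1, 1, 0, 1]], []),
    (3079, 10, 325, [[0], [0, 1, 0, 1, 1, 0, 1, 1, 0, 1, 0, 1, 1, 0, 1, 0]], []),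
    (3084, 10, 325, [[0], [0, 0, 0, 1, 1, 1, 1, 0, 1, 1, 0, 1, 1, 0]], []),
    (3102, 12, 328, [[0, 0, 0, 1, 0, 1, 1, 1, 1, 0, 1], [0, 0, 1, 1, 1, 1]], [[1, 0, 1, 0, 1, 1, 0, 1, 1], [0, 0, 0, 1, 0, 1, 0, 1, 1, 0, 1, 1, 0, 1]]),
    (3125, 10, 325, [[0], [0, 0, 1, 0, 1, 1, 1, 1, 0, 1, 1, 1, 1, 0, 1, 1, 0, 1, 1, 1]], []),
    (3143, 10, 325, [[0], [1, 1, 1, 1, 1, 1, 1, 1, 1, 0, 1, 0, 1]], []),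
    (3148, 10, 325, [[0], [0, 0, 0, 1, 0, 1, 1, 0, 1, 0]], []),
    (3166, 10, 325, [[0], [0, 0, 1, 0, 1, 1, 0, 1, 1, 0, 1, 1, 1]], []),
    (3184, 18, 327, [[0, 1, 0, 1, 0, 1, 0], [0, 0, 1, 0, 1, 0]], [[0, 0, 0, 1, 1], [0, 0, 1, 1, 0]]),
    (3189, 10, 325, [[0], [1, 1, 1, 0, 1, 0, 1, 1, 0, 1, 1, 1, 1]], []),
    (3231, 10, 325, [[0], [0, 1, 1, 1, 0, 1, 1, 1, 1, 0, 1, 0, 1, 0, 1, 0]], [])]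

/-- Steps from class 1, part. -/
def step1_2 : List (Nat × Nat × Nat × List (List Nat) × List (List Nat)) :=
  [(3256, 10, 325, [[0], [1, 0, 1, 0, 1, 1, 0, 1, 1, 1]], []),
    (3281, 10, 325, [[0], [1, 0, 1, 1, 1, 1, 0, 1, 1, 1, 1, 0, 1, 1, 1, 0, 1, 1, 0, 1]], []),
    (3300, 13, 2493, [[0, 0, 0, 1], [0, 0, 0]], [[0, 0, 1], [0, 0, 1, 0]]),
    (3306, 10, 325, [[0], [0, 1, 1, 1, 1, 0, 1, 1, 1, 1, 0]], []),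
    (3325, 10, 325, [[0], [1, 0, 1, 0, 1, 1, 1, 1, 1, 1, 1, 1, 1]], []),
    (3331, 10, 325, [[0], [0, 1, 1, 1, 1, 1, 0, 1, 1, 1, 0, 1, 0, 1, 0]], []),
    (3350, 10, 325, [[0], [1, 1, 1, 0, 1, 0, 1, 1, 1, 0, 1, 0]], []),
    (3356, 10, 325, [[0], [1, 1, 1, 1, 1, 0, 1, 1, 0, 1, 0, 1, 1]], []),
    (3401, 10, 325, [[0], [0, 1, 0, 1, 0, 1, 1, 1, 0]], []),
    (3408, 10, 325, [[0], [0, 1, 0, 1, 0, 1, 1, 1, 0, 1, 0, 1, 1]], []),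
    (3428, 10, 325, [[0], [1, 1, 1, 1, 0, 1, 0, 1, 1, 1, 0, 1, 1, 0]], []),
    (3435, 10, 325, [[0], [0, 0, 1, 0, 1, 1, 0, 1, 0, 1, 1, 1, 0, 1]], []),
    (3455, 10, 325, [[0], [0, 1, 0, 1, 0, 1, 0, 1, 1, 0, 1, 1]], []),
    (3462, 10, 325, [[0], [0, 0, 1, 1, 1, 0, 1, 1, 1]], []),
    (3482, 13, 2409, [[0, 0, 0, 1], [0, 0, 1, 0]], [[0, 1, 0], [0, 0, 0, 1]]),
    (3489, 10, 325, [[0], [0, 0, 1, 1, 1, 0, 1, 1, 0, 1, 1, 1, 1, 0, 1, 1, 1, 1, 0, 1]], []),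
    (3509, 17, 325, [[0], [0, 1, 0, 1, 0, 1, 0, 1, 0, 1]], [[0], [0, 0, 1, 1, 1, 1, 1, 0]]),
    (3516, 10, 325, [[0], [0, 1, 0, 1, 0, 1, 0, 1, 1, 0, 1, 1, 1, 1]], []),
    (3571, 10, 325, [[0], [0, 0, 1, 1, 1, 1, 0, 1, 1, 1, 1, 1, 0, 1, 1]], []),
    (3579, 10, 325, [[0], [1, 1, 0, 1, 0, 1, 1, 1, 0, 1, 0, 1]], []),
    (3608, 10, 325, [[0], [0, 0, 1, 0, 1, 1, 1, 0, 1, 1, 0, 1, 1, 0, 1]], []),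
    (3616, 10, 325, [[0], [0, 0, 1, 0, 1, 1, 0, 1, 1, 0, 1, 1, 0, 1]], []),
    (3637, 10, 325, [[0], [1, 1, 0, 1, 1, 0, 1, 0, 1, 0, 1, 0]], []),
    (3645, 10, 325, [[0], [1, 0, 1, 1, 0, 1, 1, 1, 0, 1, 1, 1, 1, 0, 1, 1, 1, 1, 0, 1]], []),
    (3674, 12, 325, [[0], [1, 1, 0, 1, 1, 0]], [[0], [0, 0, 1, 0, 1, 0, 1, 1, 0]]),
    (3682, 10, 325, [[0], [0, 0, 1, 1, 1, 1, 0, 1, 1, 1, 1, 0, 1, 1]], []),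
    (3703, 10, 325, [[0], [0, 0, 1, 1, 0, 1, 0, 1, 1, 0, 1, 0, 1, 0, 1, 1]], []),
    (3741, 10, 325, [[0], [1, 1, 0, 1, 1, 0, 1, 1, 1, 1, 0, 1, 1, 1, 1]], []),
    (3750, 10, 325, [[0], [0, 1, 0, 1, 0, 1, 1, 1, 1, 0, 1, 1, 1, 0]], []),
    (3759, 10, 325, [[0], [0, 0, 1, 1, 1, 1, 0, 1, 0, 1, 1, 1, 1, 1]], []),
    (3781, 10, 325, [[0], [0, 0, 0, 1, 1, 0, 1, 1, 0, 1, 0, 1, 0, 1, 1, 0, 1, 1, 0]], []),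
    (3790, 10, 325, [[0], [0, 0, 1, 0, 1, 1, 0, 1, 1, 0, 1, 1, 1, 0, 1]], []),
    (3799, 10, 325, [[0], [0, 0, 1, 0, 1, 1, 1, 0, 1, 0, 1, 1, 0, 1]], []),
    (3830, 12, 325, [[0], [1, 0, 1, 1, 1, 0, 1, 0]], [[0], [0, 0, 1, 0, 1, 1, 0, 1, 1, 0]]),
    (3839, 18, 419, [[1, 1, 0], [0, 1, 1, 0]], [[0, 0, 1, 0], [1, 1, 1]]),
    (3870, 10, 325, [[0], [0, 1, 0, 1, 0, 1, 1, 0, 1, 0, 1, 1, 0]], []),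
    (3911, 12, 328, [[1, 1, 0, 1, 0, 1, 1, 0, 1], [0, 0, 0, 1, 1, 0, 1, 0, 1, 0]], [[1, 0, 1, 0, 1, 1, 0, 1, 1], [0, 0, 0, 1, 1, 0, 1, 1, 0, 1, 0, 1, 1]]),
    (3921, 10, 325, [[0], [1, 0, 1, 0, 1, 1, 1, 0, 1, 1, 0, 1, 0]], []),
    (3931, 10, 325, [[0], [1, 1, 0, 1, 1, 1, 1, 1, 0, 1, 1]], []),
    (3941, 10, 325, [[0], [0, 0, 1, 1, 1, 1, 1, 0, 1, 0, 1, 1, 1, 1]], []),
    (3974, 10, 325, [[0], [0, 1, 1, 0, 1, 1, 1, 0, 1, 0, 1, 1, 1, 1]], []),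
    (3984, 10, 325, [[0], [1, 1, 1, 0, 1, 1, 0, 1, 0, 1]], []),
    (3994, 10, 325, [[0], [0, 0, 0, 1, 1, 0, 1, 1, 0, 1, 1, 1, 1, 0]], []),
    (4027, 17, 335, [[1, 0], [0, 0, 1, 1, 1, 1, 1, 1, 1]], [[0, 0, 0, 1, 1], [0, 0, 1, 1]]),
    (4037, 10, 325, [[0], [0, 1, 1, 1, 0, 1]], []),
    (4092, 10, 325, [[0], [0, 0, 0, 1, 0, 1, 0, 1, 1, 0, 1, 0, 1, 1, 0, 1, 1]], []),
    (4103, 10, 325, [[0], [0, 1, 0, 1, 1, 0, 1, 1, 1, 0, 1, 0, 1]], []),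
    (4114, 10, 325, [[0], [0, 1, 1, 1, 0, 1, 1, 1, 1, 0, 1, 0, 1, 0]], []),
    (4125, 10, 325, [[0], [1, 0, 1, 0, 1, 1, 1, 0, 1, 0, 1, 1]], []),
    (4136, 10, 325, [[0], [1, 1, 0, 1, 0, 1, 1, 1, 0, 1, 0, 1, 0]], []),
    (4171, 10, 325, [[0], [0, 1, 0, 1, 1, 0, 1, 0, 1, 1, 0, 1, 1, 0, 1, 0]], []),
    (4182, 10, 325, [[0], [0, 1, 0, 1, 0, 1, 1, 0, 1, 0, 1, 1, 1]], []),
    (4193, 10, 325, [[0], [1, 1, 1, 1, 1, 0, 1]], []),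
    (4204, 18, 325, [[0], [1, 1, 1]], [[0], [0, 1, 1, 0]]),
    (4767, 17, 335, [[1, 1, 1, 1, 1, 0], [0, 0, 0, 1, 1, 1, 1, 0]], [[0, 0, 0, 1, 1], [0, 0, 1, 1, 1]]),
    (4781, 14, 3608, [[1, 0, 1, 1, 0], [1, 0]], [[1, 1, 0, 1, 0], [0, 1, 0]]),
    (4795, 17, 325, [[0], [1, 0, 1, 0, 1, 0, 1, 0]], [[0], [0, 0, 0, 1, 1, 1]]),
    (4838, 10, 325, [[0], [0, 0, 1, 1, 0, 1, 1, 1, 1, 0, 1, 1, 0, 1, 0, 1]], []),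
    (4852, 10, 325, [[0], [0, 1, 0, 1, 1, 0, 1, 1, 0, 1, 1, 1, 0]], []),
    (4866, 10, 325, [[0], [0, 0, 1, 1, 1, 1, 1, 0, 1, 0, 1, 1, 1, 1, 1, 1]], []),
    (4880, 10, 325, [[0], [0, 0, 0, 1, 1, 0, 1, 1, 1, 1, 0, 1, 0, 1, 1]], []),
    (4937, 14, 3608, [[1, 0, 1, 1], [0, 1, 1]], [[1, 1, 0, 1, 0], [1, 0, 1, 0]]),
    (4945, 18, 3084, [[0, 0, 1, 1, 0], [0, 0, 1, 1, 1]], [[0, 1, 1, 1], [0, 0, 0, 1, 1, 0]]),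
    (4974, 10, 325, [[0], [0, 0, 1, 0, 1, 1, 0, 1, 1, 1, 0]], [])]

/-- Steps from class 1, part. -/
def step1_3 : List (Nat × Nat × Nat × List (List Nat) × List (List Nat)) :=
  [(4982, 10, 325, [[0], [0, 1, 0, 1, 1, 0, 1, 0, 1, 0]], []),
    (5003, 11, 2855, [[1, 0, 1, 0, 1], [0, 0, 1, 0, 1]], [[1, 0, 1, 0, 1], [0, 0, 1, 0, 1]]),
    (5011, 10, 325, [[0], [0, 0, 1, 1, 0, 1, 0, 1, 0, 1, 1, 1, 1, 1]], []),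
    (5040, 10, 325, [[0], [1, 1, 0, 1, 0, 1, 1]], []),
    (5048, 10, 325, [[0], [0, 0, 1, 1, 1, 1, 1, 1, 0, 1, 0, 1, 1, 1, 1, 1]], []),
    (5124, 11, 3231, [[0, 0, 0, 1], [0, 1, 1]], [[0, 0, 0, 1, 0], [0, 1]]),
    (5139, 10, 325, [[0], [0, 1, 1, 1, 0, 1, 1, 0, 1, 1, 1, 0, 1, 1]], []),
    (5154, 10, 325, [[0], [0, 1, 1, 1, 0, 1, 1, 0, 1, 0, 1, 1, 0, 1]], []),
    (5169, 10, 325, [[0], [0, 1, 1, 1, 1, 1, 1, 0, 1, 1, 0, 1, 1]], []),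
    (5184, 12, 325, [[0], [1, 0, 1, 1, 0, 1, 1]], [[0], [0, 0, 0, 1, 1, 0, 1, 1, 0, 1, 0]]),
    (5216, 10, 325, [[0], [0, 1, 1, 1, 0, 1, 1, 0, 1, 1, 0, 1, 0]], []),
    (5286, 10, 325, [[0], [1, 1, 0, 1, 0, 1, 1, 0, 1, 1, 1, 1, 0, 1]], []),
    (5295, 10, 325, [[0], [0, 1, 0, 1, 1, 0, 1, 1, 1, 1, 0, 1, 1, 1, 0, 1]], []),
    (5326, 10, 325, [[0], [0, 0, 1, 1, 0, 1, 1, 1, 1, 1, 1, 0, 1, 1, 1, 0]], []),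
    (5335, 10, 325, [[0], [0, 1, 0, 1, 1, 0, 1, 1, 1, 0, 1, 0, 1, 1, 1]], []),
    (5366, 12, 328, [[0, 1, 0, 1, 1, 0], [1, 0, 1, 1, 0, 1]], [[1, 0, 1, 0, 1, 1, 0, 1, 1], [0, 1, 0, 1, 0, 1, 1, 0]]),
    (5375, 10, 325, [[0], [0, 0, 0, 1, 1, 0, 1, 1, 1, 0, 1, 0, 1, 1]], []),
    (5450, 10, 325, [[0], [0, 0, 0, 1, 1, 0, 1, 0, 1]], []),
    (5466, 10, 325, [[0], [0, 1, 1, 1, 0, 1, 1, 1, 0, 1, 1]], []),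
    (5482, 10, 325, [[0], [1, 1, 1, 1, 0, 1, 1, 0, 1, 1, 1]], []),
    (5501, 5, 2451, [[1]], [[0, 0, 0, 0, 0, 0, 0, 0, 0], [0]]),
    (5517, 10, 325, [[0], [1, 0, 1, 1, 1, 1, 0, 1, 0, 1, 1, 1, 1, 1, 1]], []),
    (5533, 10, 325, [[0], [1, 1, 0, 1, 1, 0, 1, 1, 1, 1, 1, 1, 0]], []),
    (5549, 11, 2788, [[0, 1, 0], [0, 0, 0, 1, 0, 1, 0]], [[0, 1, 0], [0, 0, 0, 1, 0, 1, 0]]),
    (5637, 10, 325, [[0], [1, 1, 1, 0, 1, 1, 0, 1, 1, 0, 1, 1]], []),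
    (5647, 10, 325, [[0], [0, 1, 0, 1, 0, 1, 1, 1, 1, 0, 1, 0]], []),
    (5657, 5, 2451, [[0, 0, 0, 1, 1]], [[0, 0, 0, 0, 0, 0, 0, 0, 0], [0, 0, 0, 0, 0, 0, 0, 0, 0, 0, 0]]),
    (5690, 10, 325, [[0], [0, 0, 0, 1, 1, 1, 0, 1, 1, 1, 1, 1, 1, 0, 1, 1]], []),
    (5700, 10, 325, [[0], [1, 0, 1, 1, 0, 1, 0, 1, 1, 0, 1, 1, 1, 0]], []),
    (5710, 10, 325, [[0], [0, 1, 0, 1, 0, 1, 1, 0, 1, 0]], []),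
    (5791, 10, 325, [[0], [1, 1, 0, 1, 0, 1, 1, 1, 1, 1, 1, 0, 1, 1, 0]], []),
    (5808, 12, 325, [[0], [0, 0, 0, 1, 1, 0, 1, 0, 1, 0]], [[0], [0, 0, 1, 1, 0, 1, 0, 1]]),
    (5829, 10, 325, [[0], [0, 1, 0, 1, 1, 1, 1, 0, 1, 0, 1, 0]], []),
    (5846, 10, 325, [[0], [1, 1, 1, 0, 1, 1, 0, 1, 1, 1, 1]], []),
    (5867, 10, 325, [[0], [1, 1, 0, 1, 1, 1, 0, 1, 1, 0, 1, 1, 1, 0]], []),
    (5884, 10, 325, [[0], [0, 0, 0, 1, 1, 1, 0, 1, 1, 0, 1]], []),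
    (5990, 12, 328, [[0, 0, 1, 1, 0, 1], [0, 0, 0, 1, 1, 0, 1, 0, 1, 1, 0]], [[1, 0, 1, 0, 1, 1, 0, 1, 1], [0, 0, 1, 0, 1, 0]]),
    (6001, 10, 325, [[0], [1, 1, 0, 1, 1, 0, 1, 1, 0, 1, 1, 1]], []),
    (6012, 10, 325, [[0], [1, 1, 0, 1, 1, 1, 0, 1, 1, 1, 0]], []),
    (6023, 10, 325, [[0], [1, 0, 1, 1, 1, 0, 1, 1, 1, 1, 0, 1, 1, 0, 1, 0]], []),
    (6132, 10, 325, [[0], [0, 0, 1, 1, 0, 1, 1, 1, 0, 1, 1]], []),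
    (6155, 10, 325, [[0], [0, 1, 1, 0, 1, 1, 1, 1, 1, 1, 0, 1, 0, 1, 1]], []),
    (6178, 10, 325, [[0], [0, 0, 1, 0, 1, 0, 1, 1, 0]], []),
    (6196, 10, 325, [[0], [1, 0, 1, 1, 1, 1, 0, 1, 1, 0, 1, 0, 1, 1]], []),
    (6219, 18, 3079, [[1, 1, 0], [0, 1, 1, 1, 0]], [[0, 1, 1, 1, 1], [1, 1]]),
    (7192, 10, 325, [[0], [0, 0, 1, 0, 1, 0, 1, 0, 1, 0]], []),
    (7206, 10, 325, [[0], [0, 0, 0, 1, 1, 0, 1, 1, 0, 1, 1, 1, 1, 0, 1, 0, 1]], []),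
    (7220, 10, 325, [[0], [1, 1, 0, 1, 0, 1, 0, 1, 1, 0, 1, 1, 0, 1, 1, 1]], []),
    (7234, 10, 325, [[0], [0, 0, 0, 1, 1, 0]], []),
    (7329, 15, 2855, [[0, 1], [0, 0, 0]], [[0, 0, 1], [1, 0]]),
    (7339, 10, 325, [[0], [0, 0, 1, 0, 1, 1, 1, 0, 1, 1, 1, 1, 0, 1, 1, 1, 1, 0, 1, 0]], []),
    (7349, 10, 325, [[0], [1, 0, 1, 1, 0, 1, 1, 1, 1, 0]], []),
    (7392, 10, 325, [[0], [1, 0, 1, 0, 1, 1, 0, 1, 0, 1]], []),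
    (7402, 10, 325, [[0], [0, 1, 0, 1, 0, 1, 1, 0, 1, 1, 0, 1, 1, 1, 1, 1]], []),
    (7495, 10, 325, [[0], [1, 0, 1, 1, 1, 1, 1, 0, 1, 1, 1, 0, 1, 1, 1, 1, 0, 1, 0]], []),
    (7520, 12, 325, [[0], [0, 0, 1, 1, 1, 1]], [[0], [0, 0, 0, 1, 0, 1, 0, 1, 1, 0, 1, 1, 0, 1]]),
    (7545, 10, 325, [[0], [0, 0, 1, 1, 0, 1, 1, 0, 1, 1, 0, 1, 1]], []),
    (7570, 10, 325, [[0], [0, 0, 1, 0, 1, 0, 1, 1, 1, 1, 0, 1, 1, 0, 1, 1, 0]], []),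
    (7661, 10, 325, [[0], [0, 1, 0, 1, 1, 1, 1, 1]], []),
    (7676, 12, 325, [[0], [0, 0, 0, 1, 1, 0]], [[0], [0, 0, 1, 0, 1, 1, 0, 1, 0, 1]]),
    (7691, 17, 325, [[0], [0, 0, 1, 1, 1]], [[0], [0, 1, 1, 1, 1, 0]]),
    (7706, 16, 5657, [[0], [0, 1]], [[0], [1, 1, 0]]),
    (7873, 17, 335, [[1, 1, 1, 1, 1, 1, 1, 0], [0, 1, 1, 1, 0]], [[0, 0, 0, 1, 1], [0, 0, 1, 1, 1, 1]]),
    (7884, 12, 328, [[1, 1, 1], [0, 0, 0, 1, 0, 1]], [[1, 0, 1, 0, 1, 1, 0, 1, 1], [0, 0, 1, 0, 1, 0, 1, 1, 0, 1]])]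

/-- Steps from class 1, part. -/
def step1_4 : List (Nat × Nat × Nat × List (List Nat) × List (List Nat)) :=
  [(7895, 10, 325, [[0], [0, 1, 1, 0, 1, 1, 1, 1, 1, 1]], []),
    (8013, 10, 325, [[0], [0, 1, 0, 1, 1, 1, 1, 1, 1, 0, 1, 0]], []),
    (8040, 12, 328, [[0, 1, 1, 1, 0], [0, 0, 0, 1]], [[1, 0, 1, 0, 1, 1, 0, 1, 1], [0, 0, 1, 0, 1, 0, 1, 1, 0]]),
    (8067, 10, 325, [[0], [0, 0, 0, 1, 0, 1, 1, 1, 1, 0, 1, 1, 1, 1, 0, 1, 1, 1, 0, 1]], []),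
    (8172, 10, 325, [[0], [1, 0, 1, 0, 1, 0, 1, 1, 0, 1, 0, 1, 0, 1]], []),
    (8207, 10, 325, [[0], [1, 1, 1, 1, 1, 0, 1, 0]], []),
    (8223, 10, 325, [[0], [0, 1, 0, 1, 1, 1, 1, 0, 1, 1, 1, 0, 1, 1, 1, 1, 1, 0, 1]], []),
    (8239, 15, 3790, [[0, 0, 1], [1, 0]], [[0, 1], [0, 0, 0]]),
    (9559, 10, 325, [[0], [0, 0, 1, 1, 0, 1, 0, 1, 1, 0]], []),
    (9573, 10, 325, [[0], [0, 0, 0, 1, 1, 0, 1, 1, 0, 1, 0, 1, 0, 1]], []),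
    (9587, 10, 325, [[0], [0, 1, 1, 0, 1, 1, 0]], []),
    (9733, 17, 325, [[0], [1, 0, 1, 0]], [[0], [0, 0, 0, 1, 1, 1, 1, 1, 1]]),
    (9744, 10, 325, [[0], [0, 0, 0, 1, 1, 0, 1, 0, 1, 0, 1, 1, 0]], []),
    (9755, 10, 325, [[0], [0, 0, 1, 0, 1, 0, 1, 0, 1, 1, 0, 1, 1, 0]], []),
    (9886, 18, 419, [[1, 0], [0, 1, 0]], [[0, 0, 1, 0], [0, 1, 0]]),
    (9915, 17, 335, [[1, 0, 1, 0, 1, 0, 1], [1, 0, 1, 0]], [[0, 0, 0, 1, 1], [1, 1, 1, 1, 1, 0]]),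
    (10068, 18, 427, [[0, 0, 1, 1, 1, 0], [0, 0, 1]], [[0, 1, 1, 1], [0, 0, 1]]),
    (10212, 10, 325, [[0], [0, 1, 1, 1, 1, 0, 1, 1, 0, 1, 1, 1, 1, 0]], []),
    (12096, 10, 325, [[0], [1, 0, 1, 1, 1, 1, 1, 1, 1, 0, 1]], []),
    (12252, 10, 325, [[0], [1, 0, 1, 1, 1, 1, 1, 1, 1, 1, 0, 1]], [])]

/-- Steps from class 1. -/
def step1 : List (Nat × Nat × Nat × List (List Nat) × List (List Nat)) := List.flatten [step1_0, step1_1, step1_2, step1_3, step1_4]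

/-- Steps from class 2, part. -/
def step2_0 : List (Nat × Nat × Nat × List (List Nat) × List (List Nat)) :=
  [(325, 10, 325, [[1], [1, 0, 1, 1, 1]], []),
    (326, 2, 326, [[0]], [[0], [0]]),
    (328, 10, 325, [[1, 0, 0, 1, 1, 0, 0, 1, 0, 1, 1, 1, 0, 1, 0, 0, 1, 1], [0, 0, 0, 0, 0, 1, 0, 0]], []),
    (329, 10, 325, [[0, 1, 0, 1, 0, 0, 1, 0, 1, 1], [1, 0, 0, 1, 1, 0, 1, 0, 1, 1, 0, 0, 1]], []),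
    (330, 10, 325, [[1, 0, 0, 1, 0, 0, 1], [0, 0, 1, 0, 1, 0, 1, 1, 0, 0, 1, 1, 1]], []),
    (331, 10, 325, [[0, 0, 0, 1, 1, 1, 0, 1, 0, 1, 1, 1], [1, 1, 0, 1, 0, 1, 1]], []),
    (332, 10, 325, [[0, 0, 0, 1, 0, 0, 1], [0, 0, 0, 1, 0, 0, 1, 0, 1, 0, 0, 1]], []),
    (333, 10, 325, [[0, 0, 1, 0, 0, 1, 0, 0], [1, 0, 1, 1, 0, 0, 1, 0, 1, 1, 1]], []),
    (334, 10, 325, [[0, 1, 1, 0, 1, 1, 1, 0, 1, 1, 1], [1, 0, 1, 0, 1, 1, 0, 1, 0, 1]], []),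
    (335, 10, 325, [[0, 1, 1, 0, 1, 0, 1, 0, 1, 0, 1, 1, 0], [0, 0, 0, 1, 0, 1, 1, 1, 1, 0, 1]], []),
    (336, 10, 325, [[0, 0, 1, 0, 1, 1, 0, 0, 1, 1, 0], [1, 1, 0, 1, 1, 0, 0, 1, 1, 0, 1, 1]], []),
    (337, 10, 325, [[0, 1, 1, 0, 1, 1, 0, 1, 1, 0, 1, 1, 0, 1, 1, 0, 1, 1, 0], [0, 0, 0, 1, 1]], []),
    (416, 12, 337, [[0, 1, 0, 0, 1, 0, 1, 0, 0], [1, 0, 1, 0, 1, 0, 0, 1, 0]], [[0, 0, 1, 1, 0, 1, 0, 1, 1], [1, 0, 1, 1]]),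
    (417, 10, 325, [[0, 0, 1, 0, 1, 1, 0, 0, 1, 0, 1, 0, 0], [0, 0, 0, 1, 1, 0, 1, 0, 1, 1, 0, 0, 1]], []),
    (418, 10, 325, [[0, 1, 0, 1, 0, 1, 0, 1, 0, 1, 1, 1], [0, 0, 1, 1, 1, 0, 1, 0, 1, 1, 1]], []),
    (419, 10, 325, [[0, 0, 0, 0, 1, 0, 1, 1, 0, 1, 0, 0, 1, 0, 1, 1], [0, 0, 1, 0, 0, 1, 0, 0, 1, 1, 1, 0]], []),
    (420, 10, 325, [[1, 1, 0, 1, 1, 0, 0, 1, 0, 0, 1, 1, 0, 1], [0, 0, 1, 0, 0, 1, 0, 1, 1, 1]], []),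
    (421, 10, 325, [[0, 1, 0, 1, 0, 1, 1, 1, 0, 0, 1, 0], [1, 1, 0, 1, 0]], []),
    (422, 10, 325, [[1, 1, 0, 1, 1, 1, 1, 0, 0, 1], [1, 1, 1, 1, 0, 1, 1, 0, 0, 1, 0, 1]], []),
    (423, 10, 325, [[1, 0, 1, 0, 1, 1, 1, 1, 1], [1, 1, 0, 1, 0, 1, 0, 1, 0, 0, 1, 1]], []),
    (424, 10, 325, [[1, 1, 0, 1, 0, 0, 1, 1], [1, 0, 0, 1, 0, 0, 1, 0, 1, 1, 0]], []),
    (425, 12, 330, [[0, 0, 0, 0, 1, 1, 1, 0, 0], [0, 1, 1, 1, 0, 0, 1, 0, 0]], [[1, 0, 1, 0, 1, 1], [0, 0, 0, 1, 1, 0, 1, 0, 1, 1]]),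
    (426, 10, 325, [[0, 0, 0, 1, 1, 1, 0, 1, 1, 0, 0], [1, 0, 0, 1, 1, 0]], []),
    (427, 10, 325, [[0, 0, 0, 1, 0, 0, 1, 0, 1, 1, 1, 1, 1], [0, 0, 1, 1, 1, 0, 0, 1, 1, 1, 1, 0, 1, 0]], []),
    (428, 10, 325, [[0, 0, 1, 0, 1, 0, 1, 1, 0, 1], [1, 0, 1, 0, 1, 0, 1, 0, 1, 0, 0, 1, 1, 0]], []),
    (559, 14, 418, [[0, 1, 0, 0], [0, 0, 1]], [[1, 0, 1], [1, 1, 0, 1, 0]]),
    (560, 19, 326, [[0], [0, 0, 0, 0, 1, 0, 0]], [[0], [1, 0, 1, 0, 1]]),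
    (561, 10, 325, [[1, 0, 1, 0, 1, 0, 0, 1, 0], [1, 0, 1, 1, 0, 1, 0, 0, 1, 0]], []),
    (562, 10, 325, [[0, 1, 0, 1, 1, 1, 1, 1, 0, 1, 0, 0], [0, 0, 0, 1, 0, 1, 0, 1, 0, 1, 0]], []),
    (563, 10, 325, [[0, 0, 0, 1, 0, 1, 1, 1, 1, 0, 1, 1, 0, 1], [0, 1, 0, 0, 1, 1, 0, 1, 1, 1, 1, 0, 1]], []),
    (564, 10, 325, [[1, 1, 0, 1, 1, 1, 0, 1, 0, 1], [0, 1, 1, 0, 1, 0, 0, 1, 0]], []),
    (565, 10, 325, [[0, 0, 1, 1, 0, 1, 1, 0, 1, 1, 0, 1, 1, 1], [0, 1, 0, 0, 1, 1, 0]], []),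
    (566, 10, 325, [[1, 1, 1, 0, 1, 0, 1, 0, 1, 0, 0, 1], [0, 1, 1, 0, 1, 0, 1, 0, 1, 0, 1]], []),
    (567, 10, 325, [[0, 0, 0, 0, 1, 0, 1, 1, 0, 1, 0, 1, 1, 0, 0, 1], [1, 1, 0, 1, 0, 1, 1, 1, 1, 1]], []),
    (568, 10, 325, [[0, 0, 0, 1, 1, 0, 0, 1, 0, 1, 1, 0, 1], [0, 0, 0, 0, 0, 1, 1, 0]], []),
    (569, 10, 325, [[0, 1, 1, 1, 1, 0, 1, 0], [0, 1, 0, 0, 1, 1, 0, 1, 0]], []),
    (570, 19, 333, [[0, 1, 1, 0, 1], [0, 0, 1, 0, 1, 1, 0]], [[1, 0, 1, 1, 0, 1, 0], [0, 0, 0, 0, 1, 1, 0]]),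
    (571, 14, 329, [[0, 0, 0, 0, 1], [0, 0, 1]], [[1, 0], [0, 0, 1, 0, 1]]),
    (717, 19, 326, [[0], [0, 0, 0, 1, 0, 1, 0]], [[0], [1, 1, 0, 0]]),
    (718, 10, 325, [[0, 1, 0, 1, 0, 0, 1, 1, 1, 1], [0, 1, 0, 1, 1, 0, 0, 1, 0]], []),
    (720, 10, 325, [[1, 0, 0, 1, 1, 0, 1, 0, 1, 1, 0, 1, 0], [1, 1, 1, 1, 1, 0, 1, 0, 1, 1]], []),
    (721, 10, 325, [[0, 1, 1, 0, 1, 0, 0, 1, 1, 0, 0], [0, 0, 1, 1, 0, 1, 1, 0, 0, 1, 0]], []),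
    (722, 10, 325, [[1, 0, 1, 0, 1, 1, 0, 1, 1, 0, 0, 1, 1, 1], [0, 0, 0, 0, 1, 1, 0, 0, 1, 0]], []),
    (723, 10, 325, [[0, 1, 0, 1, 1, 0, 0, 1, 0, 1], [0, 1, 0, 0, 1, 0, 1, 1, 0]], []),
    (724, 10, 325, [[0, 1, 1, 0, 1, 1, 0, 0, 1, 1, 1, 0], [0, 0, 1, 0, 1, 0, 0, 1, 1, 1, 0, 0, 1]], []),
    (726, 10, 325, [[0, 1, 0, 0, 1, 0, 1, 0, 1], [1, 1, 0, 1, 0, 1, 1, 1, 1, 0, 1]], []),
    (727, 19, 333, [[0, 1, 0, 1, 1, 0, 1], [0, 0, 1, 0, 1]], [[1, 0, 1, 1, 0, 1, 0], [0, 0, 0, 1, 0, 1, 0, 0]]),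
    (910, 13, 2673, [[1], [1, 0, 0]], [[1, 0], [0]]),
    (911, 14, 3005, [[1, 1, 0], [0, 0, 0, 1, 1]], [[1, 1, 0], [0, 0, 1, 1]]),
    (912, 10, 325, [[0, 1, 1, 0, 1, 1, 0, 1, 0, 1], [0, 1, 1, 0, 1, 1, 1, 1, 0, 1, 0, 1]], []),
    (913, 10, 325, [[0, 1, 1, 0, 1, 1, 1, 0, 1, 0, 1, 1, 0, 1, 0], [1, 0, 1, 0, 1, 1, 1, 0, 1, 0, 1, 1]], []),
    (914, 12, 330, [[0, 0, 0, 0, 0, 1], [1, 0, 1, 0]], [[1, 0, 1, 0, 1, 1], [1, 0, 1, 0, 1, 1, 0]]),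
    (915, 10, 325, [[1, 0, 1, 1, 0, 1, 1, 0, 1, 1, 0, 1, 1, 0, 1, 1, 0, 1, 0], [1, 1, 1, 1, 1, 0]], []),
    (916, 10, 325, [[1, 1, 1, 1, 0, 1, 0, 1, 1, 1, 0, 1, 1, 1, 0, 1, 0], [0, 1, 1, 1, 0, 1, 1, 1, 0, 1, 0, 1, 0]], []),
    (917, 10, 325, [[1, 1, 1, 0, 1, 0, 1, 1, 1, 0, 1, 1, 1, 0, 1, 0], [0, 1, 0, 1, 0, 1, 1, 1, 0, 1, 1, 1, 0]], []),
    (919, 12, 337, [[1, 0, 1, 1, 1, 1], [0, 0, 0, 0, 1, 1, 0, 0]], [[0, 0, 1, 1, 0, 1, 0, 1, 1], [0, 0, 0, 1, 0, 1, 1, 0, 1, 1]]),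
    (920, 10, 325, [[0, 1, 0, 1, 0, 1, 1, 1, 1, 0, 1, 1, 0, 1, 1, 0], [1, 1, 0, 1, 0, 1, 1, 1, 0, 1, 0, 1]], []),
    (921, 10, 325, [[1, 0, 1, 0, 1, 1, 0, 1, 1, 0], [1, 0, 1, 0, 1, 1, 1, 1, 0, 1, 1, 0]], []),
    (922, 14, 2908, [[0, 1, 0], [0, 0, 0, 1]], [[0, 0, 0, 1, 0], [0, 0, 1]]),
    (1041, 10, 325, [[0, 0, 0, 1, 0, 1, 1, 0, 1, 0, 1, 0, 0], [0, 0, 1, 1, 0, 1, 0, 1, 0, 0, 1, 0, 1, 1]], []),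
    (1042, 10, 325, [[1, 1, 1, 1, 1, 0, 1, 0, 0, 1], [0, 0, 1, 1, 0, 1, 1, 1, 0, 0, 1, 0, 1, 0]], []),
    (1043, 10, 325, [[0, 0, 1, 1, 0, 1, 1, 1], [0, 0, 0, 0, 1, 1, 0, 0, 1]], []),
    (1045, 10, 325, [[0, 0, 0, 1, 1, 0, 0, 1, 0, 1, 1], [0, 0, 0, 0, 1, 1, 0, 1, 0, 0, 1, 0, 0, 1]], []),
    (1047, 10, 325, [[0, 0, 0, 1, 0, 0, 1, 1, 1, 1, 0, 1, 1], [1, 0, 1, 0, 0, 1, 1, 0, 1, 1, 1, 1]], [])]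

/-- Steps from class 2, part. -/
def step2_1 : List (Nat × Nat × Nat × List (List Nat) × List (List Nat)) :=
  [(1048, 10, 325, [[0, 1, 0, 0, 1, 1, 1, 0, 1, 0, 1, 0], [0, 0, 0, 0, 1, 0, 1, 1]], []),
    (1049, 10, 325, [[0, 1, 0, 0, 1, 1, 1, 1, 0, 1, 1, 0, 0], [1, 0, 1, 1, 0, 1, 0, 0, 1]], []),
    (1050, 10, 325, [[1, 1, 0, 1, 0, 0, 1, 0, 1, 1, 0, 1, 0], [1, 1, 0, 1, 1, 0, 1, 0, 0, 1, 0, 0]], []),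
    (1052, 10, 325, [[0, 1, 0, 1, 1, 0, 1, 1, 0, 0, 1, 0, 1], [0, 0, 0, 1, 0, 0, 1, 1, 0, 1, 0, 1, 1]], []),
    (2395, 12, 330, [[1, 1, 1, 1, 0, 1], [0, 0, 1, 1]], [[1, 0, 1, 0, 1, 1], [1, 0]]),
    (2409, 10, 325, [[1, 0, 1, 1, 0, 0, 1, 1, 1, 1], [1, 0, 0, 1, 0, 1, 1, 0, 0, 1, 0, 1]], []),
    (2423, 10, 325, [[0, 0, 1, 1, 1, 0, 1, 0, 0], [0, 1, 1, 0, 1, 0, 1, 0, 1, 0, 0]], []),
    (2437, 10, 325, [[0, 0, 1, 0, 0, 1, 0, 1, 1, 0, 0], [0, 1, 1, 0, 1, 0, 1]], []),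
    (2479, 10, 325, [[1, 1, 0, 1, 0, 0, 1, 0], [1, 1, 0, 0, 1, 0, 1, 0, 1, 1, 0, 0]], []),
    (2493, 10, 325, [[1, 0, 0, 1, 0, 0, 1, 0, 1, 0], [1, 0, 0, 1, 0, 1, 1, 1]], []),
    (2507, 10, 325, [[0, 0, 1, 0, 0, 1, 0, 0, 1, 1, 0, 1, 0, 0, 1, 0, 0], [1, 1, 0, 0, 1, 0, 1, 1, 0, 0, 1, 0]], []),
    (2521, 12, 337, [[1], [0, 0, 1, 0, 0, 1, 0, 1, 1]], [[0, 0, 1, 1, 0, 1, 0, 1, 1], [0]]),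
    (2566, 10, 325, [[0, 1, 0, 0, 1, 0, 1, 1, 0, 1, 0, 1, 0], [1, 0, 1, 0, 0, 1, 1, 0, 1, 0, 0, 1]], []),
    (2581, 10, 325, [[1, 1, 0, 1, 0, 0], [1, 1, 0, 1, 1, 1, 0, 1, 0, 0]], []),
    (2643, 10, 325, [[0, 0, 0, 0, 1, 0, 0, 1, 0, 1, 0, 1, 1, 1], [0, 0, 1, 0, 0, 1, 1, 1, 0, 1, 0, 1, 0, 0]], []),
    (2658, 10, 325, [[0, 1, 1, 1, 0, 0, 1, 1, 0, 0, 1, 0, 0, 1], [1, 0, 0, 1, 1, 0, 0, 1, 1, 1, 0, 0, 1, 0]], []),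
    (2673, 10, 325, [[1, 0, 1, 0, 1, 0, 0, 1, 1, 1, 0, 0, 1, 1], [1, 0, 0, 1, 0, 1, 0, 0, 1, 0, 0, 1, 0, 0]], []),
    (2688, 10, 325, [[0, 0, 1, 1, 1, 1, 1, 0, 0, 1, 0, 1, 1, 1, 0], [0, 1, 0, 1, 0, 1, 0]], []),
    (2737, 10, 325, [[1, 1, 0, 1, 0, 1], [0, 1, 0, 1, 0, 0, 1, 1, 1, 1]], []),
    (2788, 10, 325, [[0, 0, 0, 0, 1, 1, 1, 1, 1, 0, 1, 0], [0, 1, 1, 1, 1, 0, 0, 1]], []),
    (2804, 10, 325, [[0, 1, 1, 1, 1, 0, 0, 1, 0, 0, 1, 1, 1, 0, 0], [1, 1, 1, 1, 1, 0, 0, 1, 1, 0, 0, 1, 1]], []),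
    (2820, 12, 330, [[1, 0, 1, 0, 0, 1], [0, 0, 1, 0, 0, 1, 0, 1, 0, 1, 0]], [[1, 0, 1, 0, 1, 1], [0, 1, 0, 1, 0, 1, 1, 0, 1, 1, 0]]),
    (2823, 10, 325, [[1, 1, 1, 0, 0, 1, 1, 0, 1, 0], [1, 0, 1, 1, 1, 1, 0]], []),
    (2839, 10, 325, [[1, 0, 0, 1, 1, 1, 0, 0, 1, 0, 1, 1, 1], [0, 0, 1, 1, 1, 1, 0, 1, 0, 0, 1, 0]], []),
    (2855, 10, 325, [[1, 1, 0, 0, 1, 1, 1, 0, 0, 1, 0, 1, 0, 1], [0, 0, 1, 0, 0, 1, 0, 0, 1, 0, 1, 0, 0, 1]], []),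
    (2908, 10, 325, [[0, 0, 0, 1, 0, 1, 1, 0, 0, 1], [0, 0, 1, 1, 0, 0, 1, 0, 1, 0, 1]], []),
    (2967, 10, 325, [[0, 1, 0, 1, 1, 1, 1, 0], [0, 0, 0, 1, 0, 0, 1, 1, 1, 0]], []),
    (2984, 10, 325, [[0, 0, 0, 0, 0, 1, 0, 1, 1, 1], [1, 0, 1, 1, 0, 1, 1, 1, 1, 0, 0]], []),
    (3001, 10, 325, [[0, 1, 0, 0, 1, 0, 0, 1, 0], [0, 0, 1, 0, 1, 1, 0, 1, 0, 0, 1, 0, 0, 1, 1, 0]], []),
    (3005, 10, 325, [[0, 1, 0, 1, 1, 0, 0, 1, 1, 1], [0, 1, 1, 1, 1, 0, 1]], []),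
    (3022, 10, 325, [[1, 0, 0, 1, 0, 0, 1, 1, 0, 0, 1, 1, 1, 0], [0, 1, 0, 0, 1, 1, 1, 0, 0, 1, 1, 0, 0, 1]], []),
    (3143, 19, 326, [[0], [1, 1, 0, 0, 1]], [[0], [0, 0, 0, 0, 0, 1, 1, 0, 1]]),
    (3148, 10, 325, [[0, 1, 1, 1, 0, 1, 1, 1, 0], [0, 1, 1, 0, 1, 0, 0, 1, 1, 1, 1, 1]], []),
    (3166, 10, 325, [[0, 0, 0, 1, 1, 1, 0, 1, 0, 0], [0, 0, 1, 1, 1, 1, 0, 1, 1, 0, 1]], []),
    (3184, 12, 337, [[1, 0, 1, 0, 1, 0, 1, 1], [1, 0, 0, 1, 0, 1, 0, 1, 0]], [[0, 0, 1, 1, 0, 1, 0, 1, 1], [1, 0, 1, 1, 0, 1, 0, 1, 1]]),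
    (3189, 10, 325, [[0, 0, 0, 1, 1, 1, 0, 1, 0, 1, 0, 0, 1, 0], [0, 0, 1, 0, 1, 0, 1, 0, 1, 0, 0, 1, 1, 0]], []),
    (3300, 19, 326, [[0], [0, 0, 0, 0, 1, 1, 0, 1]], [[0], [0, 0, 1, 0, 1, 0]]),
    (3306, 10, 325, [[0, 0, 0, 1, 1, 1, 0, 1, 1, 1], [0, 1, 1, 0, 1, 1, 1, 0, 1, 0, 1, 1]], []),
    (3325, 19, 333, [[1, 0, 0], [0, 1, 1, 1, 1]], [[1, 0, 1, 1, 0, 1, 0], [0, 0, 0, 1, 1, 0, 1, 0, 0]]),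
    (3331, 10, 325, [[0, 1, 1, 1, 1, 0, 1, 0], [0, 0, 0, 0, 1, 1, 1, 0, 0, 1]], []),
    (3350, 10, 325, [[0, 0, 1, 1, 1, 0, 0, 1, 0, 0, 1, 1, 1, 1, 0], [1, 1, 0, 0, 1, 1, 0, 0, 1, 1, 1, 1, 1]], []),
    (3408, 10, 325, [[1, 0, 0, 1, 0, 0, 1, 1, 1, 0, 1, 1], [1, 1, 1, 0, 1, 1, 0, 1]], []),
    (3455, 10, 325, [[0, 0, 0, 0, 0, 1, 0, 1, 0, 1, 1], [1, 1, 0, 1, 1, 0, 1, 1, 1, 1, 0, 0]], []),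
    (3462, 10, 325, [[1, 1, 0, 0, 1, 1, 1, 0, 0, 1, 1], [0, 1, 1, 0, 0, 1, 1, 0]], []),
    (3482, 19, 333, [[0, 1, 1], [0, 0, 0, 0, 0, 1]], [[1, 0, 1, 1, 0, 1, 0], [1, 0, 1, 1, 0, 1, 0, 1]]),
    (3516, 10, 325, [[0, 0, 0, 0, 1, 0, 1, 1, 1, 1, 1, 0], [1, 0, 0, 1, 1, 1, 1, 0]], []),
    (3579, 10, 325, [[0, 1, 1, 0, 0, 1, 0, 0, 1, 0, 0], [0, 1, 1, 1, 1, 0, 0, 1, 0]], []),
    (3616, 10, 325, [[0, 1, 0, 0, 1, 0, 0, 1, 0], [0, 0, 1, 1, 0, 0, 1, 0, 1, 1, 1, 1, 0]], []),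
    (3637, 10, 325, [[0, 0, 0, 1, 1, 0, 1, 0, 1, 0, 0], [0, 0, 1, 1, 1, 1, 0, 1, 1, 0, 1, 1]], []),
    (3750, 10, 325, [[1, 0, 1, 0, 0, 1, 1, 0, 0, 1, 0, 0, 1, 0], [0, 0, 1, 1, 0, 1, 0, 0, 1, 1, 0, 1]], []),
    (3759, 10, 325, [[1, 0, 0, 1, 1, 1, 1, 0, 1], [0, 0, 1, 1, 0, 1, 0, 1, 0, 0, 1, 0, 0, 1, 1]], []),
    (3781, 10, 325, [[0, 0, 0, 1, 0, 0, 1, 0, 1, 0, 0, 1], [0, 0, 0, 0, 0, 1, 0, 1, 1, 0, 1, 1, 0, 1, 0, 0]], []),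
    (3931, 10, 325, [[0, 0, 0, 1, 0, 0, 1, 0, 1, 0, 0, 1, 0, 1, 0, 0, 1], [0, 0, 1, 1, 1, 1, 0, 0]], []),
    (3941, 10, 325, [[1, 0, 1, 1, 1, 1, 0, 0, 1], [1, 1, 0, 0, 1, 0, 0, 1, 0, 0, 1, 1, 0, 1, 0]], []),
    (4037, 10, 325, [[0, 0, 1, 0, 1, 1], [0, 0, 1, 0, 1, 1, 1, 0, 1, 1]], []),
    (4795, 16, 2437, [[1], [0]], [[1], [0]]),
    (5169, 10, 325, [[0, 0, 1, 1, 0, 0, 1, 1, 0], [1, 0, 1, 1, 0, 0, 1, 0, 1, 0]], []),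
    (5326, 10, 325, [[0, 1, 1, 1, 0, 1, 0, 1, 1, 1], [1, 1, 1, 0, 1, 1, 1, 0, 1, 1, 1, 0, 0]], []),
    (7234, 5, 724, [[0, 0, 1]], [[0, 0, 0, 0, 0, 0, 0, 0, 0, 0], [0, 0, 0, 0, 0]]),
    (7392, 10, 325, [[0, 0, 0, 1, 0, 0, 1, 1, 1, 1, 0, 0, 1], [0, 0, 0, 1, 0, 0, 1, 1, 1, 1, 1, 1, 1, 1, 0, 0, 1]], [])]

/-- Steps from class 2. -/
def step2 : List (Nat × Nat × Nat × List (List Nat) × List (List Nat)) := List.flatten [step2_0, step2_1]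

/-- Steps from class 3, part. -/
def step3_0 : List (Nat × Nat × Nat × List (List Nat) × List (List Nat)) :=
  [(325, 10, 325, [[1], [0, 1, 0, 0, 0, 0, 0, 1, 0, 0, 0, 0, 0, 1, 0]], []),
    (326, 10, 325, [[1, 1, 0, 1, 1, 1, 1, 1], [1, 1, 0, 1, 1, 0, 1, 1]], []),
    (327, 3, 327, [[0]], [[0], [0]]),
    (328, 10, 325, [[1, 1, 1, 0, 0, 0, 1, 1, 1], [1, 1, 1, 0, 0, 0, 0, 1, 1, 1]], []),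
    (329, 10, 325, [[1, 0, 1, 1, 0, 1, 1, 0, 1], [0, 1, 0, 0, 0, 1, 1, 0, 0, 1, 0, 1]], []),
    (330, 10, 325, [[0, 0, 0, 1, 0, 1, 0, 0, 0], [1, 1, 1, 0, 0, 1, 1, 1]], []),
    (331, 10, 325, [[0, 0, 1, 1, 0, 0], [0, 0, 1, 0, 0, 0, 0, 1, 0, 0]], []),
    (332, 10, 325, [[0, 0, 1, 1, 1, 0, 1], [0, 0, 0, 1, 0, 0, 1, 0, 0, 1, 0, 0, 0]], []),
    (333, 10, 325, [[1, 0, 0, 1, 1, 1, 1, 0, 0, 1], [0, 1, 0, 0, 0, 0, 1, 0]], []),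
    (334, 10, 325, [[0, 0, 0, 1, 1, 1, 1, 0, 0, 0], [1, 1, 0, 0, 1, 1, 0, 0, 1, 1]], []),
    (335, 10, 325, [[1, 0, 1, 1, 1, 0, 0, 0, 0, 1, 1], [0, 1, 1, 1, 0, 0, 1, 1, 0, 0, 0, 0, 1]], []),
    (336, 10, 325, [[0, 0, 0, 1, 1, 0, 1, 1, 0, 0, 1], [0, 0, 1, 0, 1, 0, 1, 0, 1, 0, 0]], []),
    (337, 10, 325, [[1, 0, 0, 1, 0, 0, 0, 1, 0, 0, 1], [0, 0, 0, 0, 1, 0, 0, 0, 0]], []),
    (425, 12, 334, [[1, 1, 1, 0, 1, 1, 1, 1, 1, 1], [1, 1, 0, 1, 1, 1, 1, 1, 1, 1, 1]], [[0, 1, 1, 0, 1, 0, 1, 1, 0, 1], [0, 0, 1, 1, 0, 1, 0, 1, 0]]),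
    (571, 20, 327, [[0], [1, 0, 0]], [[0], [0, 0, 0, 1, 0, 0]]),
    (716, 19, 330, [[0, 0, 1, 1, 0, 1, 1, 1], [0, 1, 0, 0]], [[1, 0], [1, 1, 0, 1, 0]]),
    (910, 17, 331, [[1, 0, 0, 0, 0, 1, 1], [0, 0, 0, 0, 0, 0, 0, 0]], [[1, 1, 1, 1, 1], [0, 0, 0, 1, 1, 1, 1, 1, 1]]),
    (1044, 12, 334, [[1, 1, 1, 1, 1, 1, 1, 1, 1], [0, 0, 1, 0, 1]], [[0, 1, 1, 0, 1, 0, 1, 1, 0, 1], [1, 0, 1, 0, 1, 1, 0, 1]]),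
    (1335, 12, 334, [[1, 1, 1], [0, 0, 1, 0, 1]], [[0, 1, 1, 0, 1, 0, 1, 1, 0, 1], [0, 0, 1, 0, 1, 0, 1, 1, 0, 1]]),
    (1456, 17, 331, [[1, 0, 0, 0, 0], [0, 0, 0, 0, 0, 0, 0, 0]], [[1, 1, 1, 1, 1], [0, 1, 1, 1, 1, 1, 1]]),
    (1663, 20, 327, [[0], [0, 0, 1, 1]], [[0], [1, 1, 0, 0]]),
    (1808, 19, 330, [[0, 1], [0, 0, 1, 0, 1, 1, 1, 1]], [[1, 0], [0, 0, 1, 1, 0]]),
    (1954, 12, 334, [[1, 1, 1, 0], [1, 1, 0, 1, 1, 1, 1, 1, 1, 1, 1]], [[0, 1, 1, 0, 1, 0, 1, 1, 0, 1], [1, 1, 0, 1, 0, 1, 0]]),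
    (2052, 7, 325, [[0, 0, 0, 0, 0, 0, 0, 0, 0, 0, 0, 1]], [[0, 0, 0, 0, 0, 0, 0, 0, 0, 0, 0, 0], [0, 0, 0, 0, 0, 0, 0, 0, 0, 0, 0, 0, 0, 0, 0, 0, 0, 0, 0, 0, 0, 0, 0, 0, 0]])]

/-- Steps from class 3. -/
def step3 : List (Nat × Nat × Nat × List (List Nat) × List (List Nat)) := List.flatten [step3_0]

/-- Steps from class 4, part. -/
def step4_0 : List (Nat × Nat × Nat × List (List Nat) × List (List Nat)) :=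
  [(325, 10, 325, [[1], [0, 0, 0, 0, 1, 0, 0, 0, 1, 0, 0, 0, 0]], []),
    (326, 10, 325, [[0, 0, 1, 1, 0, 1, 0, 0, 0, 1, 0, 1, 1, 0, 0, 1, 1, 0], [1, 1, 0, 1, 1, 1, 1, 1]], []),
    (327, 10, 325, [[0, 0, 0, 1, 1, 1, 0, 0, 0], [0, 0, 0, 1, 1, 1, 1, 0, 0, 0]], []),
    (328, 4, 328, [[0]], [[0], [0]]),
    (332, 10, 325, [[0, 0, 0, 0, 0, 1, 1, 1, 0, 0, 0, 0, 0], [1, 1, 0, 0, 1, 1, 0, 0, 1, 1]], []),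
    (333, 10, 325, [[1, 0, 0, 0, 0, 1, 0, 1, 1, 1, 0, 1, 1], [1, 0, 0, 1, 0, 1, 0, 1, 1, 1]], []),
    (334, 10, 325, [[1, 1, 0, 0, 0, 1, 1], [0, 0, 0, 1, 1, 0, 1, 1, 1]], []),
    (335, 10, 325, [[0, 0, 1, 1, 0, 0, 0, 1, 1, 0, 1], [0, 0, 0, 0, 1, 1, 1, 1, 0, 0, 0, 0]], []),
    (336, 10, 325, [[0, 0, 0, 1, 0, 1, 0, 1, 0, 0, 0], [1, 1, 1, 0, 0, 0, 0, 1, 1, 1]], []),
    (337, 10, 325, [[0, 0, 1, 0, 1, 0, 0, 1, 0, 1, 0, 1], [0, 0, 0, 0, 0, 0, 0, 1, 1]], []),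
    (416, 10, 325, [[0, 0, 0, 1, 0, 0, 1, 0, 1, 0, 0, 0, 0, 1, 0], [0, 1, 0, 0, 1, 0, 1, 0, 0, 0, 1, 0, 1, 1]], []),
    (417, 10, 325, [[0, 0, 0, 0, 0, 1, 0, 1, 0, 0, 1], [1, 0, 1, 0, 0, 0, 0, 0, 0, 1, 1]], []),
    (419, 10, 325, [[0, 0, 1, 0, 1, 1, 1, 0, 0, 0, 0], [0, 0, 0, 0, 0, 1, 1, 0, 1, 1, 0]], []),
    (420, 10, 325, [[1, 1, 1, 0, 0, 1, 0, 0], [0, 1, 0, 1, 0, 1, 0, 0, 1, 1, 1, 0]], []),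
    (421, 10, 325, [[1, 1, 1, 0, 0, 0, 0, 1], [1, 1, 0, 0, 1, 1, 1]], []),
    (423, 10, 325, [[0, 0, 1, 0, 0, 1, 1, 1, 1, 0, 0], [0, 1, 1, 1, 1, 0, 1, 1, 0, 1, 1, 1, 0]], []),
    (425, 10, 325, [[0, 1, 0, 0, 0, 0, 1, 0, 1], [1, 1, 1, 1, 0, 0, 1, 0, 1, 0, 0]], []),
    (559, 10, 325, [[0, 0, 0, 0, 0, 1, 0, 0, 0, 0, 1, 0, 0, 1, 0, 0, 0, 1], [0, 1, 0, 0, 0, 1, 0, 0, 0, 0, 1, 0, 0, 1]], []),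
    (562, 10, 325, [[0, 0, 0, 0, 1, 1, 0, 1, 1, 1, 0], [1, 0, 0, 1, 1, 0, 1, 0, 0, 0, 0]], []),
    (564, 10, 325, [[1, 1, 0, 1, 1, 1, 0, 1, 0, 0, 1, 0, 0], [1, 0, 0, 0, 1, 0, 1, 1, 0, 1, 0, 1]], []),
    (569, 10, 325, [[0, 0, 1, 1, 1, 0, 0, 1, 1], [1, 1, 1, 1, 0, 1, 0, 1, 1, 1, 0]], []),
    (570, 10, 325, [[0, 1, 0, 1, 1, 0, 0, 1, 1, 1], [1, 1, 0, 0, 1, 1, 1, 1, 1, 0, 1]], []),
    (910, 18, 3102, [[0, 1, 1, 1], [1, 0, 1, 1, 1]], [[0, 0, 0, 1, 0], [0, 0, 1, 0]]),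
    (912, 10, 325, [[0, 1, 0, 1, 0, 0, 1, 0, 1, 1, 1], [1, 1, 0, 1, 1, 0, 0, 0, 1]], [])]

/-- Steps from class 4. -/
def step4 : List (Nat × Nat × Nat × List (List Nat) × List (List Nat)) := List.flatten [step4_0]

/-- Steps from class 5, part. -/
def step5_0 : List (Nat × Nat × Nat × List (List Nat) × List (List Nat)) :=
  [(325, 10, 325, [[1], [0, 1, 0, 1, 0, 0, 1, 0, 1, 0, 1, 1]], []),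
    (326, 10, 325, [[0, 0, 1, 0, 1, 1, 0, 1, 0, 1], [0, 1, 1, 0, 0, 1, 0, 1, 0, 0, 1, 1, 0]], []),
    (327, 10, 325, [[0, 1, 0, 0, 1, 0, 0, 1, 0], [0, 1, 0, 1, 1, 0, 0, 1, 1, 1, 0, 1]], []),
    (328, 10, 325, [[0, 0, 0, 0, 0, 1, 1, 0, 0, 0, 0, 1], [0, 1, 0, 1, 1, 1, 0, 1, 0]], []),
    (329, 5, 329, [[0]], [[0], [0]]),
    (330, 10, 325, [[1, 1, 1, 0, 1, 0, 1, 1, 1], [1, 0, 0, 0, 1, 0, 0, 0, 1]], []),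
    (331, 10, 325, [[1, 0, 1, 1, 1, 0, 1, 0, 1, 1, 1, 0, 1], [0, 1, 0, 0, 1, 0]], []),
    (334, 10, 325, [[0, 0, 1, 1, 0, 1, 0, 1, 1, 0, 1], [0, 0, 1, 1, 1, 0, 1, 1, 1, 0, 0]], []),
    (335, 10, 325, [[0, 0, 1, 1, 1, 0, 0], [1, 0, 1, 0, 0, 0, 0, 0, 1, 0, 1]], []),
    (336, 10, 325, [[0, 0, 1, 1, 0, 0, 0, 1, 1, 0, 1], [0, 0, 0, 0, 1, 0, 1, 0, 0, 0, 0]], []),
    (337, 10, 325, [[0, 0, 0, 1, 0, 0, 0, 1, 0, 0, 1], [0, 0, 0, 0, 0, 0, 1, 1]], []),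
    (416, 10, 325, [[0, 0, 0, 0, 1, 0, 0, 1, 0, 1, 0, 1], [1, 0, 0, 1, 0, 1, 0, 0, 0, 1, 1]], []),
    (417, 10, 325, [[0, 0, 0, 1, 0, 1, 1, 1, 1, 1], [0, 0, 1, 1, 0, 0, 1, 1, 0, 0, 1, 0]], []),
    (419, 10, 325, [[1, 1, 0, 1, 0, 0, 0, 0, 1, 0], [0, 1, 0, 0, 1, 0, 1, 0, 0, 0, 1]], []),
    (421, 10, 325, [[1, 1, 0, 1, 0, 0, 0, 0, 0, 1], [0, 0, 0, 0, 0, 1, 1, 1, 1, 0, 0]], []),
    (426, 10, 325, [[1, 0, 1, 1, 0, 0, 1], [1, 1, 0, 1, 0, 1, 0]], []),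
    (427, 12, 326, [[0, 0, 0, 1], [1, 0, 1, 0]], [[1, 1, 0, 1, 0, 1, 1, 0], [0, 0, 1, 0, 1, 1, 0]]),
    (428, 12, 331, [[0, 0, 1, 0, 1, 1], [0, 0, 1]], [[1, 0], [0, 0, 0, 1, 1, 0]]),
    (559, 12, 326, [[0, 1, 0, 0, 1], [0, 0, 1, 0, 0, 0]], [[1, 1, 0, 1, 0, 1, 1, 0], [0, 1, 0, 1, 0, 1, 1, 0, 1, 1, 0]]),
    (560, 10, 325, [[1, 0, 1, 0, 0, 1, 0, 0, 0, 0, 1, 0, 0], [0, 1, 0, 1, 1, 0, 1, 0, 1, 1]], []),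
    (561, 10, 325, [[1, 0, 1, 0, 1, 0, 1, 0, 0, 1], [1, 0, 1, 0, 0, 1, 1, 0, 1, 1]], []),
    (562, 10, 325, [[1, 1, 0, 0, 0, 0, 1, 0, 0, 1, 0], [0, 0, 0, 1, 0, 0, 0, 0, 1, 1, 0, 0, 0, 0]], []),
    (565, 10, 325, [[1, 1, 0, 1, 0, 0, 1, 0, 1, 1, 1], [0, 0, 1, 0, 0, 1, 1, 0]], []),
    (566, 10, 325, [[0, 1, 1, 0, 0, 0], [0, 1, 1, 0, 0, 1, 0, 1, 0, 1]], []),
    (568, 12, 331, [[0, 0, 0, 0, 1, 1, 0], [0, 1, 0, 1, 1, 1]], [[1, 0], [0, 0, 1, 1, 0, 1, 1, 0, 1, 0]]),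
    (720, 10, 325, [[1, 1, 0, 1, 0, 0, 1, 0, 1, 0, 0, 0], [1, 0, 0, 0, 0, 0, 1, 1, 0, 1]], []),
    (723, 10, 325, [[0, 0, 1, 0, 0, 0, 0, 0, 1, 1], [1, 1, 1, 1, 1, 0, 0, 1, 1]], []),
    (910, 11, 3189, [[0, 1, 1, 1], [0, 0, 1]], [[1, 0], [0, 0, 0, 1, 0]]),
    (915, 10, 325, [[0, 1, 1, 1, 0, 0, 1, 0], [0, 0, 0, 1, 1, 1, 0, 1, 0, 0, 0, 0]], []),
    (916, 10, 325, [[0, 1, 1, 0, 1, 0, 0, 1, 0, 1, 1], [0, 0, 1, 0, 0, 1, 1, 0, 0, 1, 0]], []),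
    (918, 10, 325, [[0, 1, 0, 0, 1, 1, 1, 0], [0, 0, 0, 0, 0, 1, 0, 0, 1, 1, 0]], []),
    (1046, 10, 325, [[1, 0, 1, 0, 0, 0, 1, 0, 0, 1, 0, 1, 0], [1, 0, 1, 0, 1, 1, 1, 1, 0]], [])]

/-- Steps from class 5. -/
def step5 : List (Nat × Nat × Nat × List (List Nat) × List (List Nat)) := List.flatten [step5_0]

/-- Steps from class 6, part. -/
def step6_0 : List (Nat × Nat × Nat × List (List Nat) × List (List Nat)) :=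
  [(325, 10, 325, [[1], [1, 0, 1, 0, 1]], []),
    (326, 10, 325, [[0, 1, 1, 0, 1, 1, 1], [0, 1, 1, 0, 1, 0, 1, 1, 0, 1, 1, 1]], []),
    (327, 10, 325, [[0, 0, 1, 1, 1, 0, 1], [0, 1, 1, 0, 0, 1, 1, 1, 1, 0, 1, 0, 1]], []),
    (328, 10, 325, [[1, 1, 1, 1, 1, 0, 0, 0, 1, 1, 1, 1, 1], [0, 0, 1, 1, 0, 0, 1, 1, 0, 0]], []),
    (329, 10, 325, [[0, 0, 1, 0, 0, 0, 1, 0, 0], [0, 0, 0, 0, 1, 1, 1, 0, 0, 0, 1, 0, 0]], []),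
    (330, 10, 325, [[0, 1, 0, 0, 1, 0, 1, 0, 0, 1, 0], [0, 0, 0, 0, 1, 0, 1, 1, 1, 1, 1, 0, 0]], []),
    (331, 10, 325, [[0, 0, 0, 1, 1, 0, 1, 1, 0, 0, 0], [1, 0, 0, 0, 0, 0, 1]], []),
    (332, 6, 332, [[0]], [[0], [0]]),
    (333, 10, 325, [[0, 1, 0, 0, 0, 0, 0, 1, 0], [1, 0, 1, 1, 0, 1]], []),
    (334, 10, 325, [[0, 1, 0, 1, 1, 0, 1, 0], [0, 0, 1, 1, 0, 0]], []),
    (335, 10, 325, [[1, 0, 0, 0, 0, 0, 0, 1], [0, 1, 1, 0, 0, 1, 0, 0, 1, 1, 0]], []),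
    (336, 10, 325, [[0, 1, 1, 0, 1, 1, 1, 1, 0, 1, 1, 0], [0, 1, 1, 0, 1, 0, 0, 0, 1, 1, 1, 0]], []),
    (337, 10, 325, [[0, 1, 0, 0, 1, 0, 0, 1, 0, 0, 1, 1], [0, 1, 0, 1, 0, 1, 0, 1, 0, 1, 0]], []),
    (416, 10, 325, [[0, 0, 0, 0, 0, 1, 0, 1, 0, 1, 0, 0, 0, 1, 1], [0, 1, 0, 0, 1, 0, 0, 0, 0, 1, 0, 1, 0, 1, 1]], []),
    (417, 10, 325, [[1, 0, 1, 0, 0, 0, 0, 0, 1], [0, 1, 0, 0, 0, 1, 0, 0, 1, 1, 1]], []),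
    (419, 10, 325, [[1, 0, 1, 1, 0, 1, 1, 1, 1], [0, 1, 1, 1, 0, 1, 0, 0, 0]], []),
    (420, 10, 325, [[0, 1, 1, 0, 0, 1, 1, 1, 1, 0, 1, 1, 1], [0, 0, 1, 1, 0, 1, 0, 1, 1, 1, 1, 0, 0]], []),
    (421, 10, 325, [[0, 1, 0, 0, 0, 1, 0, 0, 0, 1, 1, 0, 0], [0, 0, 0, 1, 0, 0, 0, 0, 1, 1, 0]], []),
    (422, 10, 325, [[0, 0, 0, 0, 1, 1, 0, 1], [1, 1, 0, 0, 1, 1, 1, 0, 1]], []),
    (423, 10, 325, [[1, 1, 1, 0, 0, 0, 0, 1, 1, 1, 0, 0, 0, 1], [0, 1, 1, 0, 0, 0, 0, 1, 1, 1]], []),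
    (426, 10, 325, [[0, 0, 1, 0, 1, 0], [0, 0, 0, 0, 0, 1, 0, 0, 0, 0]], []),
    (427, 10, 325, [[0, 1, 0, 0, 1, 1, 0, 0, 1, 1, 0], [1, 0, 1, 0, 1, 0, 0, 1]], []),
    (428, 10, 325, [[1, 1, 0, 0, 0, 0, 1, 0, 0, 1, 1], [0, 0, 0, 0, 1, 1, 0, 0, 1, 0, 1, 1]], []),
    (560, 10, 325, [[0, 1, 1, 0, 0, 1, 0, 0, 1, 1, 0, 1, 1], [0, 0, 1, 0, 0, 1, 0, 1, 0, 1, 1, 1]], []),
    (562, 10, 325, [[0, 1, 0, 1, 1, 0, 0, 0, 0], [1, 1, 1, 1, 0, 1, 0, 0]], []),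
    (564, 10, 325, [[0, 0, 0, 0, 0, 1, 0, 1, 0, 1, 1], [0, 0, 0, 1, 1, 1, 0, 0, 0, 1, 1]], []),
    (566, 10, 325, [[1, 0, 0, 0, 1, 0, 1, 1, 1, 1], [0, 1, 0, 0, 1, 0, 0, 0]], []),
    (567, 10, 325, [[1, 1, 0, 1, 1, 0, 1, 0, 1, 1, 1], [0, 0, 0, 0, 0, 1, 1, 1, 0, 1, 0]], []),
    (568, 10, 325, [[1, 0, 1, 1, 0, 1, 0, 0, 1, 1], [0, 1, 0, 1, 1, 0, 1, 1, 1, 1, 0]], []),
    (570, 10, 325, [[0, 1, 1, 0, 0, 0, 0, 1, 1], [0, 0, 0, 1, 1, 1, 0, 0]], []),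
    (571, 10, 325, [[1, 0, 1, 0, 0, 0, 0, 0], [1, 1, 0, 1, 1, 0, 1, 0, 0, 1, 1, 0, 1]], []),
    (718, 10, 325, [[1, 0, 1, 0, 1, 1, 1, 0, 0, 1, 0, 0], [0, 1, 1, 1, 0, 0, 0, 1, 0, 0]], []),
    (725, 10, 325, [[0, 0, 1, 1, 1, 0, 0, 1, 1], [1, 0, 0, 0, 1, 1, 0, 1, 0, 0, 1, 1]], []),
    (910, 18, 2596, [[0, 0, 1, 1, 1], [0, 0, 0, 1, 1]], [[0, 0, 0, 1, 1, 0], [0, 1, 1, 1]]),
    (913, 10, 325, [[0, 1, 0, 1, 1, 1, 0, 0, 1, 1, 1], [1, 1, 1, 0, 0, 0, 1, 1, 1, 1, 1]], []),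
    (915, 10, 325, [[1, 1, 0, 0, 1, 0, 1, 0, 0], [0, 0, 0, 0, 0, 1, 0, 0, 0, 1, 1, 0, 0]], []),
    (916, 10, 325, [[0, 1, 1, 1, 0, 0, 1, 1, 1, 1, 0, 0], [0, 0, 0, 0, 0, 1, 1, 0, 1]], []),
    (917, 10, 325, [[0, 1, 0, 1, 0, 1, 0, 0, 0, 0], [1, 0, 1, 0, 0, 0, 1, 1, 0, 1, 1, 0]], []),
    (918, 10, 325, [[0, 0, 1, 0, 1, 0, 0, 1, 1], [0, 1, 0, 0, 1, 0, 1, 0, 1, 1, 1, 0, 1]], []),
    (920, 10, 325, [[0, 1, 1, 0, 0, 1, 1, 0, 0, 1, 0], [0, 0, 0, 1, 0, 1, 1]], []),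
    (1041, 10, 325, [[0, 0, 0, 1, 0, 0, 0, 0, 1, 1, 0, 1], [0, 0, 0, 1, 0, 1, 1, 0, 1, 1, 0, 0, 1, 1]], []),
    (1044, 10, 325, [[0, 1, 1, 1, 1, 0, 0, 1], [0, 0, 1, 1, 0, 0, 0, 0, 0]], []),
    (1045, 10, 325, [[0, 1, 1, 0, 0, 0, 0, 0, 1, 0, 0], [0, 0, 0, 1, 1, 1, 1, 0, 1, 1]], []),
    (1051, 10, 325, [[0, 1, 0, 0, 1, 0, 1, 0, 1], [0, 1, 1, 0, 0, 1, 1, 0, 1, 1]], []),
    (1330, 10, 325, [[0, 1, 1, 0, 0, 0, 0, 0, 1, 1, 0, 1, 1], [0, 0, 1, 1, 1, 1, 0, 1, 0, 1, 1, 0, 0]], []),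
    (1333, 10, 325, [[1, 0, 0, 0, 1, 1, 1, 0, 0, 0, 0, 1, 1, 1], [1, 1, 1, 0, 0, 0, 0, 1, 1, 0]], []),
    (1456, 18, 2596, [[0, 0, 1], [0, 0, 0, 1, 1]], [[0, 0, 0, 1, 1, 0], [1, 1, 1, 1, 0]]),
    (2047, 4, 427, [[0, 0, 1]], [[0, 0, 0, 0, 0, 0, 0, 0, 0, 0, 0, 0], [0, 0, 0, 0, 0]])]

/-- Steps from class 6. -/
def step6 : List (Nat × Nat × Nat × List (List Nat) × List (List Nat)) := List.flatten [step6_0]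

/-- Steps from class 7, part. -/
def step7_0 : List (Nat × Nat × Nat × List (List Nat) × List (List Nat)) :=
  [(325, 10, 325, [[1], [1, 0, 1, 0, 1, 0, 1, 0, 1, 0, 1, 0, 1]], []),
    (326, 10, 325, [[1, 0, 0, 1, 0, 0, 0, 1, 0, 0, 1], [0, 0, 1, 0, 0, 1, 1, 0, 0, 1, 0, 0]], []),
    (327, 10, 325, [[0, 0, 0, 1, 1, 0, 1, 1, 0, 0, 1], [0, 1, 0, 1, 0, 1, 0, 0, 0, 1, 1]], []),
    (328, 10, 325, [[1, 0, 1, 1, 1, 0, 0, 0, 0, 1, 1], [0, 0, 0, 1, 1, 1, 1, 0, 0, 0]], []),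
    (329, 10, 325, [[0, 1, 0, 0, 1, 1, 1, 0, 0, 1, 1], [1, 1, 1, 1, 0, 1, 0, 1, 1, 1, 1]], []),
    (335, 10, 325, [[1, 1, 1, 0, 0, 0, 1, 1, 1], [0, 0, 1, 1, 1, 1, 1, 1, 0, 0]], []),
    (336, 7, 336, [[0]], [[0], [0]]),
    (420, 12, 332, [[0, 0, 1, 1, 1], [0, 0, 1, 0, 1, 1, 1]], [[0, 0, 0, 1, 1, 0, 1, 1, 0, 1, 0, 1], [1, 0, 1, 1, 0, 1, 0]]),
    (560, 19, 328, [[0, 0, 1, 0, 0], [0, 0, 1, 0, 1, 0, 0]], [[0, 0, 0, 0, 0, 1, 1], [0, 0, 0, 1, 1, 0, 1]]),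
    (727, 19, 328, [[0, 0, 1, 0, 0, 1, 0], [0, 1, 0, 0, 0, 0]], [[0, 0, 0, 0, 0, 1, 1], [0, 0, 0, 1]]),
    (910, 17, 329, [[0, 0, 0, 0, 0, 0, 1], [0, 0, 0, 0, 0, 1, 1]], [[0, 1, 1, 1, 1, 1, 0], [1, 1, 1, 1, 0]]),
    (1049, 12, 332, [[0, 1, 0, 1, 0, 0, 1], [0, 0, 1, 1]], [[0, 0, 0, 1, 1, 0, 1, 1, 0, 1, 0, 1], [0, 0, 1, 0, 1, 1, 0, 1, 0, 1]])]

/-- Steps from class 7. -/
def step7 : List (Nat × Nat × Nat × List (List Nat) × List (List Nat)) := List.flatten [step7_0]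

/-- Steps from class 8, part. -/
def step8_0 : List (Nat × Nat × Nat × List (List Nat) × List (List Nat)) :=
  [(325, 10, 325, [[1], [0, 0, 1, 1]], []),
    (326, 10, 325, [[0, 1, 1, 0, 1, 1, 0, 1, 1, 0, 1, 1, 0, 1, 1, 0, 1, 1, 0], [0, 0, 1, 1, 1]], []),
    (327, 10, 325, [[0, 0, 1, 0, 1, 1, 0, 0, 1, 1, 0], [1, 0, 1, 1, 0, 1, 0, 1, 1]], []),
    (328, 10, 325, [[0, 1, 0, 1, 0, 1, 1, 0, 1, 0, 1, 1], [0, 0, 1, 1, 1, 1, 1, 1, 1]], []),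
    (329, 10, 325, [[0, 1, 1, 0, 1, 1, 1, 0, 1, 1, 1], [0, 0, 1, 1, 1, 1, 1, 1]], []),
    (330, 10, 325, [[0, 1, 0, 1, 1, 1, 1, 1, 0, 1, 1], [0, 0, 1, 1, 1, 1, 1, 1, 1]], []),
    (331, 10, 325, [[1, 0, 0, 1], [0, 1, 1, 0, 0, 1, 1]], []),
    (332, 10, 325, [[0, 0, 1, 1, 0, 1, 1, 0, 1, 1, 0, 1], [1, 0, 1, 0, 1, 0, 1, 0, 1, 0, 1]], []),
    (333, 10, 325, [[1, 0, 0, 1, 0, 0, 1], [0, 1, 0, 0, 1, 1, 0, 0, 1, 0, 0, 1, 1]], []),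
    (334, 10, 325, [[1, 0, 0, 1, 0, 0, 1, 0, 0, 1], [1, 1, 1, 0, 1, 1, 1]], []),
    (335, 10, 325, [[1, 0, 0, 1, 0, 0, 1, 0, 0, 1, 0, 0, 1, 0, 0, 1], [1, 0, 1, 0, 1]], []),
    (336, 10, 325, [[0, 0, 1, 1, 0, 1], [1, 0, 1]], []),
    (337, 8, 337, [[0]], [[0], [0]]),
    (416, 12, 329, [[0, 0, 1, 0, 1, 0, 1, 0, 0, 1, 1], [1, 0, 0, 1, 0, 1, 0, 0, 1, 1, 1]], [[1, 0, 1, 1, 0, 1, 1], [1, 0, 1, 0, 1, 0]]),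
    (417, 10, 325, [[0, 0, 1, 0, 1, 0, 1, 1, 0, 1, 1, 1, 1], [0, 0, 1, 1, 1]], []),
    (418, 10, 325, [[1, 0, 0, 1, 0, 1, 1, 1, 1, 1], [0, 1, 1, 1, 1, 0, 0, 1, 1, 1, 1]], []),
    (419, 10, 325, [[1, 1, 1, 0, 1, 1, 0, 0], [1, 0, 1, 0, 1]], []),
    (420, 12, 336, [[1, 1, 0, 0, 1, 1, 1], [1, 1, 1, 1, 0, 1, 1]], [[0, 0, 1, 0, 1, 1, 0, 1], [0, 1, 1, 0, 1, 1, 0, 1]]),
    (421, 10, 325, [[1, 0, 0, 1, 1, 0, 0, 1, 1, 1, 1, 1], [0, 0, 1, 1, 1, 1, 1, 1, 1]], []),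
    (422, 10, 325, [[1, 0, 1, 0, 1, 1, 1, 1, 1], [0, 0, 1, 1, 1, 1, 1, 1, 1]], []),
    (423, 10, 325, [[1, 1, 0, 0, 1, 0, 1, 1, 1, 0, 1, 1], [0, 1, 0, 1, 0, 0, 1, 0, 1]], []),
    (424, 10, 325, [[0, 0, 1, 1, 1, 1, 1, 0, 0, 1, 1, 1, 0, 1], [1, 0, 1, 0, 1, 0, 1, 0, 1, 0, 1]], []),
    (425, 10, 325, [[0, 1, 1, 1, 0, 1, 0, 1, 0, 0, 1, 0], [0, 0, 1, 1, 1, 1, 1, 1]], []),
    (426, 10, 325, [[0, 1, 0, 1, 0, 0, 1, 1, 1, 0, 1, 0, 1, 1, 0, 1], [0, 1, 1, 0, 0, 1, 1]], []),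
    (427, 10, 325, [[1, 0, 1, 1, 0, 1, 1, 0, 1, 0], [1, 1, 1, 1, 1, 0, 1, 1, 1, 1, 1]], []),
    (428, 10, 325, [[0, 0, 1, 0, 1, 1, 0, 0, 1, 0, 1, 0, 0], [0, 1, 0, 1, 0, 1, 0, 0, 1, 0, 1, 0, 1]], []),
    (559, 14, 328, [[0, 1, 0, 0, 1], [1, 0, 0, 1]], [[1, 0, 1, 0], [0, 1, 0, 1, 1]]),
    (560, 14, 416, [[0, 1, 1, 0], [1, 1, 1, 1, 1]], [[0, 1, 0], [0, 0, 1, 1]]),
    (561, 20, 335, [[0, 0, 1, 0], [1, 0, 0, 1]], [[1, 0, 1, 0], [0, 0, 0]]),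
    (562, 10, 325, [[0, 0, 1, 1, 0, 1, 1, 0, 1, 1, 1], [1, 1, 1, 0, 1, 1, 1]], []),
    (563, 10, 325, [[1, 1, 0, 0, 1, 0, 1, 1, 0, 1], [0, 0, 1, 1, 1, 1, 1, 1]], []),
    (564, 10, 325, [[0, 1, 1, 0, 1, 0, 0, 1, 1, 0, 1, 0, 1, 1], [1, 1, 1, 0, 1, 1, 1]], []),
    (565, 10, 325, [[0, 0, 1, 0, 1, 1, 0, 1, 1, 1, 1, 1, 0], [1, 1, 1, 0, 1, 1, 1]], []),
    (566, 10, 325, [[1, 0, 1, 0, 1, 0, 0, 1, 1, 1, 0, 0, 1, 1], [0, 1, 1, 0, 1, 1, 0, 0, 1, 1, 0, 1, 1]], []),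
    (567, 10, 325, [[1, 0, 1, 0, 0, 1, 1, 0, 1, 0], [1, 0, 1, 1, 0, 1, 0, 1, 1]], []),
    (568, 10, 325, [[0, 1, 1, 1, 0, 0, 1, 1, 0, 1, 1, 0], [0, 0, 1, 1, 1, 1, 1, 1]], []),
    (569, 10, 325, [[1, 0, 0, 1, 0, 1, 1, 0, 1, 0, 0, 1, 0], [1, 0, 1, 0, 1, 0, 1, 0, 1, 0, 1]], []),
    (570, 10, 325, [[1, 0, 1, 0, 1, 0, 0, 1, 0], [1, 0, 1, 1, 0, 1, 0, 1, 1]], []),
    (571, 20, 329, [[1, 1, 0, 0], [1, 0, 1, 1]], [[0, 0, 1], [0, 1, 1, 0]]),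
    (716, 19, 325, [[0, 0, 1, 1, 1], [1, 1, 1, 1, 1]], [[0, 0], [0, 0, 0, 1, 1]]),
    (717, 10, 325, [[0, 1, 0, 0, 1, 0, 1, 0, 1], [0, 1, 0, 0, 1, 0, 0, 1]], []),
    (718, 10, 325, [[0, 0, 1, 0, 1, 1, 1, 1, 1, 0, 1, 0], [0, 1, 0, 0, 1, 0, 0, 1]], []),
    (719, 10, 325, [[0, 1, 0, 0, 1, 1, 1, 0, 1, 1, 0, 0, 1, 1], [0, 0, 1, 1, 1, 1, 1, 1]], []),
    (720, 10, 325, [[1, 0, 1, 0, 1, 1, 1, 0, 1, 1], [0, 1, 0, 0, 1, 0, 0, 1]], []),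
    (721, 10, 325, [[1, 1, 0, 0, 1, 1, 1, 0, 0, 1, 0, 1, 0, 1], [0, 1, 0, 0, 1, 0, 0, 1]], []),
    (722, 10, 325, [[0, 1, 1, 0, 1, 0, 0, 1, 1, 0, 0], [1, 1, 1, 0, 1, 1, 1]], []),
    (723, 10, 325, [[1, 0, 0, 1, 1, 0, 1, 0, 1, 1, 0, 1, 0], [1, 1, 1, 0, 1, 1, 1]], []),
    (724, 10, 325, [[1, 0, 1, 1, 0, 1, 0, 0, 1, 1], [0, 0, 1, 1, 1, 1, 1, 1]], []),
    (725, 10, 325, [[0, 1, 0, 1, 1, 1, 1, 0], [1, 1, 1, 0, 1, 1, 1]], []),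
    (726, 19, 332, [[1, 1, 1, 0, 1, 1], [1, 1, 0, 0, 1]], [[1, 0, 1, 0, 1, 1], [0, 0, 0, 0, 1]]),
    (910, 13, 2658, [[1, 0, 1, 1], [0, 1, 1, 1]], [[0, 0, 0, 1], [0, 1, 0]]),
    (911, 14, 3001, [[0, 1, 0], [0, 0, 1, 1]], [[0, 0, 0, 1], [1, 0]]),
    (912, 10, 325, [[0, 1, 0, 1, 1, 0, 1, 1, 1, 0, 0], [0, 1, 0, 0, 1]], []),
    (913, 10, 325, [[0, 1, 1, 1, 0, 1, 1, 1, 0, 1, 1, 0, 1, 1, 0, 1], [0, 1, 0, 0, 1]], []),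
    (914, 12, 329, [[0, 1, 0], [1, 1]], [[1, 0, 1, 1, 0, 1, 1], [0, 0, 0, 1, 0, 1, 1, 0, 1, 0, 1, 0]]),
    (915, 10, 325, [[0, 1, 0, 1, 1, 0, 1, 1, 0, 1, 1, 0, 1, 1, 0, 1, 1, 0, 1], [0, 1, 0, 0, 1]], []),
    (916, 10, 325, [[0, 1, 0, 1, 1, 1, 0, 1, 1, 1, 0, 1, 0, 1, 1, 1, 1], [0, 1, 0, 0, 1]], []),
    (917, 10, 325, [[0, 1, 0, 1, 1, 1, 0, 1, 1, 1, 0, 1, 0, 1, 1, 1], [0, 1, 0, 0, 1]], []),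
    (918, 10, 325, [[1, 0, 1, 1, 0, 1, 1, 0, 1, 1, 0, 1, 1, 0, 1, 1, 0, 1, 0], [0, 1, 0, 0, 1]], []),
    (919, 12, 336, [[0, 0, 1, 0, 1, 1, 1, 0, 1], [0, 0, 1, 0, 1, 0, 0]], [[0, 0, 1, 0, 1, 1, 0, 1], [0, 0, 0, 1, 0, 1, 0, 1, 1, 0, 1, 1, 0, 1]]),
    (920, 10, 325, [[0, 1, 1, 0, 1, 1, 1, 0, 1, 0, 1, 1, 0, 1, 0], [0, 1, 0, 0, 1]], []),
    (921, 10, 325, [[0, 0, 1, 1, 1, 0, 1, 1, 0, 1, 0], [0, 1, 0, 0, 1]], []),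
    (922, 14, 2891, [[1, 1, 0], [1, 0]], [[0, 0, 1, 0, 1], [1, 0, 1, 0]]),
    (1041, 10, 325, [[0, 1, 0, 1, 1, 0, 1, 1, 0, 0, 1, 0, 1], [0, 0, 1, 1, 1]], [])]

/-- Steps from class 8, part. -/
def step8_1 : List (Nat × Nat × Nat × List (List Nat) × List (List Nat)) :=
  [(1042, 10, 325, [[0, 1, 0, 1, 1, 0, 1, 1, 0, 1], [1, 1, 1, 1, 1, 0, 1, 1, 1, 1, 1]], []),
    (1043, 10, 325, [[1, 1, 0, 1, 0, 0, 1, 0, 1, 1, 0, 1, 0], [0, 1, 1, 0, 0, 1, 1]], []),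
    (1044, 10, 325, [[0, 1, 0, 0, 1, 0, 1, 0, 1, 1, 1, 0], [0, 0, 1, 1, 1, 1, 1, 1]], []),
    (1045, 10, 325, [[0, 1, 1, 1, 1, 0, 1, 0, 1, 1, 0, 0, 1, 1], [0, 0, 1, 1, 1, 1, 1, 1, 1]], []),
    (1046, 10, 325, [[1, 0, 0, 1, 1, 1, 1, 0, 1, 1], [0, 0, 1, 1, 1, 1, 1, 1, 1]], []),
    (1047, 10, 325, [[1, 1, 0, 0, 1, 1, 1, 0, 0, 1, 1, 0], [1, 1, 0, 1, 1, 1, 1, 0, 1, 1, 0, 1, 1, 1, 1]], []),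
    (1048, 10, 325, [[1, 1, 0, 0, 1, 0, 1, 1], [1, 0, 1, 0, 1]], []),
    (1050, 10, 325, [[1, 1, 1, 1, 0, 0, 1, 1, 1, 1, 1, 0], [0, 1, 1, 0, 1, 1, 1, 0, 0, 1, 1, 0, 1, 1, 1]], []),
    (1051, 10, 325, [[0, 0, 1, 0, 1, 0, 0, 1, 0, 1, 1, 1, 1, 0, 0], [0, 1, 1, 1, 1, 0, 0, 1, 1, 1, 1]], []),
    (1052, 10, 325, [[1, 0, 1, 1, 0, 1, 0, 1, 0, 0], [0, 1, 0, 0, 1, 0, 0, 1, 0, 0, 1, 0, 0, 1, 0, 0, 1]], []),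
    (1326, 12, 336, [[1, 0, 1, 0, 0, 1], [1, 0, 1, 0, 0, 1, 0, 1, 1, 1]], [[0, 0, 1, 0, 1, 1, 0, 1], [1, 1, 0, 1, 0, 1, 1, 0, 1]]),
    (1327, 10, 325, [[1, 0, 1, 1, 0, 1, 0, 1, 0, 0, 1, 1, 1], [0, 0, 1, 1, 1]], []),
    (1328, 10, 325, [[1, 1, 1, 1, 1, 0, 1, 0, 0, 1], [0, 1, 1, 1, 1, 0, 0, 1, 1, 1, 1]], []),
    (1329, 10, 325, [[0, 0, 1, 1, 0, 1, 1, 1], [1, 0, 1, 0, 1]], []),
    (1330, 12, 329, [[1, 1, 1], [1, 1, 0, 0, 1, 1, 1, 1]], [[1, 0, 1, 1, 0, 1, 1], [0, 0, 1, 1, 0, 1, 0, 1, 1, 0, 1, 1]]),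
    (1331, 10, 325, [[1, 0, 0, 1, 1, 1, 0, 1, 1, 0, 0, 1], [0, 0, 1, 1, 1, 1, 1, 1, 1]], []),
    (1333, 10, 325, [[1, 1, 0, 1, 1, 1, 0, 1, 0, 0, 1, 1], [0, 1, 0, 1, 0, 0, 1, 0, 1]], []),
    (1334, 10, 325, [[0, 1, 0, 0, 1, 0, 1, 0, 1, 0, 1, 1, 0, 1], [1, 0, 1, 0, 1, 0, 1, 0, 1, 0, 1]], []),
    (1335, 10, 325, [[0, 1, 0, 0, 1, 0, 1, 0, 1, 1, 1, 0], [0, 0, 1, 1, 1, 1, 1, 1]], []),
    (1336, 10, 325, [[1, 0, 0, 1, 1, 1, 0, 1, 0, 1, 1, 0, 1, 0, 1, 0], [0, 1, 1, 0, 0, 1, 1]], []),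
    (1338, 10, 325, [[0, 0, 1, 0, 1, 0, 0, 1, 1, 0, 1, 0, 0], [0, 1, 0, 1, 0, 1, 0, 0, 1, 0, 1, 0, 1]], []),
    (1456, 13, 2658, [[1, 0], [0, 1]], [[0, 0, 0, 1], [0, 0, 0, 1, 0]]),
    (1457, 14, 2891, [[0, 0, 1], [0, 0, 1, 0, 1]], [[0, 0, 1, 0, 1], [0, 1, 1]]),
    (1458, 10, 325, [[0, 0, 1, 1, 1, 0, 1, 1, 0, 1, 0], [0, 1, 0, 0, 1]], []),
    (1459, 10, 325, [[0, 1, 0, 1, 1, 0, 1, 0, 1, 1, 1, 0, 1, 1, 0, 1], [0, 1, 0, 0, 1]], []),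
    (1460, 12, 336, [[1, 0, 1, 1, 0, 0], [0, 0, 1, 0, 1, 0, 0]], [[0, 0, 1, 0, 1, 1, 0, 1], [0, 1, 0, 1, 0, 1, 1, 0, 1, 1, 0, 1]]),
    (1462, 10, 325, [[0, 0, 1, 1, 0, 1, 1, 1, 0, 1, 1, 1, 0, 1, 0, 1, 1], [0, 1, 0, 0, 1]], []),
    (1463, 10, 325, [[1, 1, 1, 0, 1, 0, 1, 1, 1, 0, 1, 1, 1, 0, 1, 0], [0, 1, 0, 0, 1]], []),
    (1465, 12, 329, [[0, 1, 1, 0, 0, 1], [1, 1]], [[1, 0, 1, 1, 0, 1, 1], [0, 1, 0, 1, 1, 0, 1, 0, 1, 0]]),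
    (1466, 10, 325, [[0, 1, 0, 1, 1, 0, 1, 0, 1, 1, 1, 0, 1, 1, 0], [0, 1, 0, 0, 1]], []),
    (1467, 10, 325, [[0, 1, 0, 1, 1, 0, 1, 1, 1, 0, 0], [0, 1, 0, 0, 1]], []),
    (1468, 14, 3001, [[0, 0, 1, 1, 0, 0], [0, 0, 1, 1]], [[0, 0, 0, 1], [0, 0, 1, 0]]),
    (1651, 14, 416, [[1, 1, 1], [1, 0, 1]], [[0, 1, 0], [0, 0, 0]]),
    (1652, 14, 328, [[0, 1], [1]], [[1, 0, 1, 0], [1]]),
    (1653, 20, 329, [[1, 1, 1], [1, 1, 0, 1, 1]], [[0, 0, 1], [1, 0, 1, 1]]),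
    (1654, 10, 325, [[1, 1, 1, 0, 1, 1, 0, 1, 1, 0, 0], [1, 1, 1, 0, 1, 1, 1]], []),
    (1656, 10, 325, [[1, 1, 0, 1, 0, 1, 1, 0, 0, 1, 0, 1, 1, 0], [1, 1, 1, 0, 1, 1, 1]], []),
    (1657, 10, 325, [[0, 1, 1, 1, 1, 1, 0, 1, 1, 0, 1, 0, 0], [1, 1, 1, 0, 1, 1, 1]], []),
    (1658, 10, 325, [[1, 0, 1, 0, 1, 1, 0, 1, 1, 0, 0, 1, 1, 1], [0, 1, 1, 0, 1, 1, 0, 0, 1, 1, 0, 1, 1]], []),
    (1659, 10, 325, [[0, 1, 0, 1, 1, 0, 0, 1, 0, 1], [1, 0, 1, 1, 0, 1, 0, 1, 1]], []),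
    (1660, 10, 325, [[0, 1, 1, 0, 1, 1, 0, 0, 1, 1, 1, 0], [0, 0, 1, 1, 1, 1, 1, 1]], []),
    (1662, 10, 325, [[0, 1, 0, 0, 1, 0, 1, 0, 1], [1, 0, 1, 1, 0, 1, 0, 1, 1]], []),
    (1663, 20, 335, [[1, 1, 0, 0], [1]], [[1, 0, 1, 0], [1]]),
    (1808, 19, 332, [[0, 0, 1, 0, 1, 1, 0], [0, 1, 1, 0, 1]], [[1, 0, 1, 0, 1, 1], [1, 0, 1, 1, 0]]),
    (1809, 10, 325, [[1, 0, 1, 0, 1, 0, 0, 1, 0], [0, 1, 0, 0, 1, 0, 0, 1]], []),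
    (1811, 10, 325, [[1, 1, 0, 0, 1, 0, 1, 0, 0, 1, 1, 1, 0, 1], [0, 0, 1, 1, 1, 1, 1, 1]], []),
    (1812, 10, 325, [[1, 1, 0, 1, 1, 1, 0, 1, 0, 1], [0, 1, 0, 0, 1, 0, 0, 1]], []),
    (1813, 10, 325, [[0, 0, 1, 1, 0, 1, 1, 0, 1, 1, 0, 1, 1, 1], [0, 1, 0, 0, 1, 0, 0, 1]], []),
    (1814, 10, 325, [[0, 0, 1, 1, 0, 0, 1, 0, 1, 1, 0], [1, 1, 1, 0, 1, 1, 1]], []),
    (1815, 10, 325, [[0, 1, 0, 1, 1, 0, 1, 0, 1, 1, 0, 0, 1], [1, 1, 1, 0, 1, 1, 1]], []),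
    (1817, 10, 325, [[0, 1, 1, 1, 1, 0, 1, 0], [1, 1, 1, 0, 1, 1, 1]], []),
    (1818, 19, 325, [[1, 0, 1, 0, 1], [0, 1, 1, 1]], [[0, 0], [0, 0, 1, 0, 0]]),
    (1951, 10, 325, [[1, 0, 1, 0, 0, 1, 1, 0, 1, 1, 0, 1, 0], [0, 0, 1, 1, 1]], []),
    (1953, 10, 325, [[0, 1, 0, 1, 1, 0, 1, 0, 0, 1, 0, 1, 1], [0, 1, 1, 0, 0, 1, 1]], []),
    (1954, 10, 325, [[0, 1, 1, 1, 0, 1, 0, 1, 0, 0, 1, 0], [0, 0, 1, 1, 1, 1, 1, 1]], []),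
    (1955, 10, 325, [[0, 0, 1, 0, 0, 1, 1, 1, 1, 0, 1, 1, 1, 1], [0, 0, 1, 1, 1, 1, 1, 1, 1]], []),
    (1956, 10, 325, [[1, 1, 0, 1, 1, 1, 1, 0, 0, 1], [0, 0, 1, 1, 1, 1, 1, 1, 1]], []),
    (1958, 10, 325, [[1, 1, 0, 1, 0, 0, 1, 1], [1, 0, 1, 0, 1]], []),
    (1960, 10, 325, [[0, 1, 1, 1, 1, 1, 0, 0, 1, 1, 1, 1], [0, 1, 1, 0, 1, 1, 1, 0, 0, 1, 1, 0, 1, 1, 1]], []),
    (1961, 10, 325, [[0, 0, 1, 1, 1, 1, 0, 1, 0, 0, 1, 0, 1, 0, 0], [0, 1, 1, 1, 1, 0, 0, 1, 1, 1, 1]], []),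
    (1962, 10, 325, [[0, 0, 1, 0, 1, 0, 1, 1, 0, 1], [0, 1, 0, 0, 1, 0, 0, 1, 0, 0, 1, 0, 0, 1, 0, 0, 1]], []),
    (2042, 2, 325, [[0, 1]], [[0, 0], [0, 0, 0, 0, 0]]),
    (2044, 10, 325, [[1, 0, 0, 1, 0, 0, 1, 0, 0, 1, 0, 0, 1, 0, 0, 1], [0, 0, 1, 1, 1, 1, 1, 1, 1]], []),
    (2045, 10, 325, [[0, 1, 0, 1, 0, 0, 1, 0, 1, 1], [1, 1, 1, 0, 1, 1, 1]], [])]

/-- Steps from class 8, part. -/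
def step8_2 : List (Nat × Nat × Nat × List (List Nat) × List (List Nat)) :=
  [(2046, 10, 325, [[0, 1, 0, 1, 1, 1, 1, 1, 0, 1, 0], [0, 0, 1, 1, 1, 1, 1, 1, 1]], []),
    (2047, 10, 325, [[1, 1, 1, 0, 1, 0, 1, 1, 1], [0, 0, 1, 1, 1, 1, 1, 1, 1]], []),
    (2048, 10, 325, [[1, 0, 0, 1], [0, 1, 1, 0, 0, 1, 1]], []),
    (2049, 10, 325, [[0, 1, 0, 1, 1, 1, 1, 1, 0, 1, 1], [0, 1, 0, 1, 0, 0, 1, 0, 1]], []),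
    (2050, 10, 325, [[0, 1, 1, 0, 1, 1, 1, 0, 1, 1, 1], [0, 0, 1, 1, 1, 1, 1, 1]], []),
    (2051, 10, 325, [[0, 0, 1, 0, 0, 1, 0, 0, 1, 0, 0], [1, 0, 1, 0, 1, 0, 1, 0, 1, 0, 1, 0, 1]], []),
    (2052, 10, 325, [[0, 0, 1, 1, 0, 1, 1, 0, 1, 1, 0, 1], [1, 0, 1, 1, 0, 1, 0, 1, 1]], []),
    (2053, 10, 325, [[0, 1, 1, 0, 1, 1, 0, 1, 1, 0, 1, 1, 0, 1, 1, 0, 1, 1, 0], [0, 1, 0, 1, 0, 1, 0, 0, 1, 0, 1, 0, 1]], []),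
    (2551, 12, 329, [[0, 0, 1, 0, 1, 1, 1, 0, 1], [0, 1, 0, 1, 0]], [[1, 0, 1, 1, 0, 1, 1], [0, 1, 1, 0, 1, 1, 0, 1]]),
    (2566, 10, 325, [[0, 1, 0, 1, 0, 1, 1, 0, 1, 0, 0, 1, 0], [1, 1, 1, 0, 1, 1, 1]], []),
    (2581, 10, 325, [[0, 0, 1, 0, 1, 0, 1, 0, 1, 0, 1, 1, 1], [0, 1, 0, 1, 0, 0, 1, 0, 1]], []),
    (2596, 10, 325, [[0, 0, 1, 0, 1, 1, 0, 0, 1, 0, 1, 1, 0], [0, 1, 1, 0, 1, 1, 0, 0, 1, 1, 0, 1, 1]], []),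
    (2628, 10, 325, [[0, 0, 1, 0, 1, 1, 0, 0, 1, 0], [0, 0, 1, 1, 1, 1, 1, 1, 1]], []),
    (2643, 10, 325, [[0, 0, 1, 0, 0, 1, 0, 0, 1, 1, 0], [0, 0, 1, 1, 1, 1, 1, 1, 1]], []),
    (2658, 10, 325, [[1, 0, 1, 1, 1, 0, 1, 1, 0, 0, 1, 0, 0, 1], [1, 0, 1, 0, 1]], []),
    (2673, 12, 336, [[0, 1, 0, 1, 1, 0], [0, 1, 0, 0, 1]], [[0, 0, 1, 0, 1, 1, 0, 1], [0, 0, 0, 1, 1, 0, 1, 0, 1, 1]]),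
    (2721, 10, 325, [[1, 1, 1, 1, 0, 0, 1, 1, 0, 1], [0, 1, 0, 0, 1, 0, 0, 1]], []),
    (2737, 10, 325, [[0, 0, 1, 0, 1, 1], [0, 1, 0, 0, 1]], []),
    (2804, 10, 325, [[0, 1, 0, 0, 1, 1, 0, 1, 0, 1, 1, 0, 1], [0, 1, 0, 1, 0, 0, 1, 0, 1]], []),
    (2820, 10, 325, [[0, 1, 0, 1, 0, 1, 0, 0, 1, 0, 0, 1, 0, 1, 0, 1, 0, 1], [0, 0, 1, 1]], []),
    (2823, 10, 325, [[1, 0, 1, 1, 1, 1, 0, 0, 1], [1, 1, 0, 1, 1]], []),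
    (2839, 10, 325, [[1, 0, 0, 1, 0, 1, 0, 0, 1, 0, 1, 0, 0, 1], [1, 1, 0, 1, 1]], []),
    (2891, 10, 325, [[0, 0, 1, 0, 1, 1, 1, 0, 0], [0, 1, 1, 0, 0, 1, 1]], []),
    (2946, 10, 325, [[0, 1, 1, 1, 1, 1, 0, 0, 1, 1], [0, 0, 1, 1, 1, 1, 1, 1]], []),
    (2963, 10, 325, [[1, 0, 0, 1, 0, 0, 1, 0, 1, 0, 0, 1, 0, 1, 0, 1, 1, 1], [0, 0, 1, 1]], []),
    (2967, 12, 329, [[1, 1, 0, 0, 1, 0], [0, 1, 1, 0, 1, 1, 1, 1]], [[1, 0, 1, 1, 0, 1, 1], [0, 1, 1, 0, 1, 1, 0]]),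
    (2984, 10, 325, [[1, 0, 0, 1, 1, 1, 1, 0, 1], [0, 1, 1, 0, 0, 1, 1]], []),
    (3001, 10, 325, [[1, 1, 0, 1, 1, 0, 0, 1, 1, 0, 1, 1], [0, 1, 0, 1, 1, 0, 1, 0, 0, 1, 0, 1, 1, 0, 1]], []),
    (3005, 10, 325, [[1, 0, 0, 1, 1, 1, 1, 0, 1], [1, 1, 0, 1, 1]], []),
    (3061, 10, 325, [[0, 0, 1, 1, 0, 1, 0, 0, 1, 0, 0], [1, 0, 1, 0, 1, 0, 1, 0, 1, 0, 1, 0, 1]], []),
    (3125, 10, 325, [[0, 1, 1, 0, 1, 0, 1, 0, 1, 0], [0, 0, 1, 1, 1, 1, 1, 1, 1]], []),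
    (3143, 10, 325, [[1, 1, 0, 1, 0, 1, 0, 0], [1, 1, 1, 0, 1, 1, 1]], []),
    (3148, 10, 325, [[1, 1, 1, 0, 1, 1, 1, 0, 1, 1, 1], [1, 0, 1, 0, 1]], []),
    (3166, 10, 325, [[1, 0, 1, 1, 1, 1, 0, 0, 1], [0, 1, 1, 0, 0, 1, 1]], []),
    (3184, 10, 325, [[1, 0, 1, 0, 1, 0, 1, 0, 0, 1, 0, 0, 1, 0, 1, 0, 1, 0], [0, 0, 1, 1]], []),
    (3256, 10, 325, [[0, 0, 1, 1, 0, 0, 1, 1, 1, 1, 1, 1, 0, 0], [1, 0, 1, 0, 1, 0, 1, 0, 1, 0, 1]], []),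
    (3300, 20, 335, [[0, 1, 1, 0, 1, 0], [0, 1, 0, 1, 1]], [[1, 0, 1, 0], [0, 0, 0, 0, 1]]),
    (3306, 10, 325, [[0, 1, 0, 1, 1, 0, 0, 1, 0, 1, 1, 1, 1, 0], [0, 0, 1, 1, 1, 1, 1, 1, 1]], []),
    (3325, 10, 325, [[0, 0, 1, 0, 1, 0, 1, 1], [1, 1, 1, 0, 1, 1, 1]], []),
    (3331, 12, 336, [[0, 1, 0, 1, 1, 1, 1], [1, 1, 0, 1, 1, 1, 1]], [[0, 0, 1, 0, 1, 1, 0, 1], [1, 0, 1, 0, 1, 1, 0, 1]]),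
    (3350, 10, 325, [[0, 0, 1, 0, 1, 0, 1, 1, 1, 0, 0, 1, 0], [0, 1, 0, 1, 0, 0, 1, 0, 1]], []),
    (3435, 10, 325, [[0, 1, 1, 1, 1, 0, 1, 0], [0, 0, 1, 1, 1, 1, 1, 1]], []),
    (3455, 19, 325, [[1, 0, 1, 0, 1], [1, 1, 0, 1, 1, 1]], [[0, 0], [0, 0, 1, 0, 1, 0, 0]]),
    (3462, 10, 325, [[1, 1, 1, 1, 0, 0, 1, 1, 1, 1], [0, 1, 0, 0, 1]], []),
    (3482, 20, 329, [[1, 0, 1, 0], [0, 1, 0]], [[0, 0, 1], [0, 1, 1]]),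
    (3489, 10, 325, [[0, 1, 0, 1, 0, 1, 0, 1, 1, 0], [0, 0, 1, 1, 1, 1, 1, 1, 1]], []),
    (3509, 10, 325, [[1, 0, 1, 0, 1, 0, 0, 1, 0, 1, 0, 0, 1, 0, 0, 1, 1, 1], [0, 0, 1, 1]], []),
    (3571, 10, 325, [[1, 1, 0, 1, 0, 1, 0, 1, 0, 1, 1, 1, 1], [0, 1, 1, 0, 1, 1, 0, 0, 1, 1, 0, 1, 1]], []),
    (3579, 10, 325, [[0, 0, 1, 0, 0, 1, 1, 1, 1, 0, 1, 0], [0, 1, 1, 0, 0, 1, 1]], []),
    (3608, 10, 325, [[0, 1, 1, 1, 1, 1, 1, 0, 0, 1, 1, 1, 1], [1, 0, 1, 1, 0, 1, 0, 1, 1]], []),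
    (3616, 10, 325, [[0, 1, 1, 1, 0, 1, 1, 1, 0], [0, 0, 1, 1, 1, 1, 1, 1, 1]], []),
    (3637, 19, 332, [[0, 0, 1, 1, 0, 1, 1, 0, 1], [0, 1, 0]], [[1, 0, 1, 0, 1, 1], [0, 0, 0, 0, 1, 0, 1]]),
    (3674, 10, 325, [[1, 1, 0, 0, 1, 1, 1, 1, 1, 0], [0, 0, 1, 1, 1, 1, 1, 1]], []),
    (3741, 10, 325, [[1, 0, 1, 1, 0, 1, 0, 1, 1, 1, 1, 1, 0, 0], [0, 1, 1, 0, 0, 1, 1]], []),
    (3759, 10, 325, [[1, 1, 1, 1, 0, 1, 0, 1, 0, 1, 1, 1], [0, 0, 1, 1, 1, 1, 1, 1, 1]], []),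
    (3781, 10, 325, [[0, 0, 1, 1, 0, 1, 1, 0, 1, 1, 0, 0], [0, 1, 0, 0, 1, 0, 0, 1, 0, 0, 1, 0, 0, 1, 0, 0, 1]], []),
    (3790, 10, 325, [[1, 1, 0, 1, 0, 0, 1, 0, 1, 0, 1, 0, 1], [1, 0, 1, 1, 0, 1, 0, 1, 1]], []),
    (3799, 10, 325, [[0, 1, 0, 1, 1, 1, 1, 0], [0, 0, 1, 1, 1, 1, 1, 1]], []),
    (3911, 10, 325, [[0, 0, 1, 1, 0, 0, 1, 0, 1, 0, 0, 1, 0, 0, 1, 0], [0, 1, 0, 1, 0, 1, 0, 0, 1, 0, 1, 0, 1]], []),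
    (3921, 10, 325, [[0, 1, 1, 1, 0, 1, 0, 1, 0, 1, 0, 0, 1], [1, 1, 0, 1, 1]], []),
    (3931, 10, 325, [[0, 0, 1, 0, 0, 1, 1, 0, 0, 1, 0, 0], [1, 0, 1, 0, 1]], []),
    (3941, 10, 325, [[1, 1, 1, 0, 1, 0, 1, 0, 1, 1, 1, 1], [0, 0, 1, 1, 1, 1, 1, 1, 1]], []),
    (3984, 10, 325, [[0, 0, 1, 1, 1, 1, 1, 1, 0, 0, 1, 1, 0, 0], [1, 0, 1, 0, 1, 0, 1, 0, 1, 0, 1]], []),
    (4092, 10, 325, [[0, 1, 0, 1, 1, 1, 1, 1, 1, 1, 1, 0, 1, 0], [1, 1, 0, 1, 1]], [])]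

/-- Steps from class 8, part. -/
def step8_3 : List (Nat × Nat × Nat × List (List Nat) × List (List Nat)) :=
  [(4103, 10, 325, [[1, 0, 0, 1, 0, 1, 0, 1, 0, 1, 1, 1, 0], [1, 1, 0, 1, 1]], []),
    (4125, 10, 325, [[0, 1, 0, 1, 1, 0, 1, 0, 0, 1, 1, 0], [0, 1, 1, 0, 0, 1, 1]], []),
    (4193, 10, 325, [[1, 1, 0, 1, 0, 0], [0, 1, 0, 0, 1]], []),
    (4597, 10, 325, [[0, 0, 1, 1, 0, 0, 1, 0, 1], [0, 1, 1, 0, 1, 1, 0, 0, 1, 1, 0, 1, 1]], []),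
    (4604, 12, 329, [[0, 1, 0, 0, 1, 1], [0, 1, 1]], [[1, 0, 1, 1, 0, 1, 1], [1, 0]]),
    (4624, 10, 325, [[0, 0, 1, 0, 1, 0, 1, 0, 0, 1], [1, 1, 0, 1, 1]], []),
    (4631, 10, 325, [[0, 1, 1, 1, 0, 0, 1, 1, 0, 1], [1, 0, 1, 0, 1]], []),
    (4651, 10, 325, [[0, 1, 0, 0, 1, 1, 0, 0, 1, 0, 1, 0, 1, 0, 1], [0, 1, 0, 0, 1, 0, 1, 0, 0, 1, 0, 0, 1, 0, 1]], []),
    (4658, 10, 325, [[0, 1, 1, 0, 0, 1, 1, 1, 0, 0], [1, 1, 0, 1, 1]], []),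
    (4678, 12, 336, [[1], [0, 1, 0, 1, 0, 0]], [[0, 0, 1, 0, 1, 1, 0, 1], [0]]),
    (4685, 10, 325, [[0, 1, 0, 0, 1, 0, 1, 0, 1, 1, 0], [1, 0, 1, 0, 1, 0, 1, 0, 1, 0, 1, 0, 1]], []),
    (5107, 16, 2423, [[1, 0, 1, 1], [1, 0, 1]], [[1, 1], [0, 1]]),
    (5139, 10, 325, [[1, 1, 0, 1, 0, 0, 1, 0], [0, 0, 1, 1, 1, 1, 1, 1, 1]], []),
    (5231, 10, 325, [[0, 1, 1, 0, 1, 0, 1, 0, 0, 1, 0], [1, 0, 1, 0, 1, 0, 1, 0, 1, 0, 1, 0, 1]], []),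
    (5335, 10, 325, [[0, 0, 1, 1, 0, 1, 1, 0, 0, 1, 0, 1], [0, 1, 0, 1, 0, 0, 1, 0, 1]], []),
    (5344, 10, 325, [[0, 1, 1, 1, 1, 0, 1, 1, 1, 1, 0], [0, 0, 1, 1, 1, 1, 1, 1, 1]], []),
    (5466, 10, 325, [[0, 1, 0, 1, 0, 1, 1, 0, 1, 0, 1], [0, 1, 0, 0, 1]], []),
    (5482, 10, 325, [[1, 1, 1, 0, 1, 0, 1, 1, 1, 0], [1, 0, 1, 1, 0, 1, 0, 1, 1]], []),
    (5517, 10, 325, [[1, 0, 1, 0, 0, 1, 1, 0, 1, 1, 0, 0], [0, 1, 0, 1, 0, 0, 1, 0, 1]], []),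
    (5568, 10, 325, [[0, 0, 1, 1, 1, 0, 0, 1, 1, 0], [1, 1, 0, 1, 1]], []),
    (5637, 10, 325, [[0, 1, 1, 0, 0, 1, 1, 0, 0], [1, 1, 1, 0, 1, 1, 1]], []),
    (5657, 10, 325, [[1, 1, 1], [0, 0, 1, 1, 1, 1, 1, 1]], []),
    (5743, 10, 325, [[1, 0, 1, 0, 1, 0, 1, 0, 0, 1, 1, 0, 0, 1, 0], [0, 1, 0, 0, 1, 0, 1, 0, 0, 1, 0, 0, 1, 0, 1]], []),
    (5812, 10, 325, [[0, 0, 1, 0, 1, 0, 1, 0, 0], [0, 1, 0, 0, 1, 0, 0, 1]], []),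
    (5905, 10, 325, [[1, 0, 1, 1, 0, 0, 1, 1, 1, 0], [1, 0, 1, 0, 1]], []),
    (5955, 10, 325, [[0, 1, 1, 1, 0, 1, 0, 1, 0, 0, 1], [0, 1, 1, 0, 0, 1, 1]], []),
    (6080, 10, 325, [[1, 0, 0, 1, 0, 1, 0, 1, 0, 0], [1, 1, 0, 1, 1]], []),
    (6132, 10, 325, [[1, 1, 0, 1, 0, 1, 0, 1, 0, 1, 1], [0, 1, 1, 1, 0, 0, 1, 1, 1]], []),
    (6137, 10, 325, [[1, 0, 0, 1, 0, 1, 0, 1, 1, 1, 0], [0, 1, 1, 0, 0, 1, 1]], []),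
    (6809, 10, 325, [[1, 0, 1, 0, 0, 1, 1, 1], [0, 0, 1, 1]], []),
    (6827, 10, 325, [[1, 1, 0, 0, 1, 1, 1, 0, 1, 1, 0, 1], [0, 0, 1, 1, 1, 1, 1, 1, 1]], []),
    (6907, 10, 325, [[0, 0, 1, 1, 1, 1, 0, 1, 0, 1, 1, 1, 0], [0, 1, 0, 0, 1]], []),
    (7002, 10, 325, [[1, 0, 1, 1, 0, 1, 1, 0, 1, 0, 0], [0, 1, 1, 0, 0, 1, 1]], []),
    (7025, 10, 325, [[0, 0, 1, 1, 0, 0, 1, 1, 0, 1], [1, 0, 1]], []),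
    (7089, 10, 325, [[0, 1, 1, 1, 0, 1, 0, 1, 1, 1, 1, 0, 0], [0, 1, 0, 0, 1]], []),
    (7706, 5, 720, [[0, 0, 1, 1, 1]], [[0, 0, 0, 0, 0, 0, 0, 0], [0, 0, 0]]),
    (7827, 12, 336, [[1, 1, 1], [1, 1, 1, 1, 0, 1, 1]], [[0, 0, 1, 0, 1, 1, 0, 1], [0, 0, 1, 1, 0, 1, 0, 1, 1, 0, 1, 1]]),
    (7862, 10, 325, [[0, 1, 0, 1, 0, 0, 1, 0, 0, 1, 0, 0, 1, 0, 1, 0], [0, 0, 1, 1]], []),
    (8191, 12, 329, [[1, 1, 1, 1, 0, 1], [0, 1, 1, 1, 1, 0, 1, 1]], [[1, 0, 1, 1, 0, 1, 1], [0, 0, 0, 1, 0, 1, 0]]),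
    (9093, 10, 325, [[0, 0, 1, 1, 1, 0, 1, 1, 0, 1, 0, 1], [0, 1, 0, 0, 1]], []),
    (9103, 10, 325, [[0, 0, 1, 1, 0, 1, 1], [0, 1, 1, 0, 1, 1, 0, 0, 1, 1, 0, 1, 1]], []),
    (9258, 10, 325, [[1, 0, 0, 1, 1, 0, 1, 1, 1, 0, 0, 1], [0, 1, 0, 0, 1, 0, 0, 1]], []),
    (9278, 16, 2423, [[1], [1, 0, 1]], [[1, 1], [0]]),
    (9457, 10, 325, [[1, 0, 1, 0, 1, 1, 0, 1, 1, 1, 0, 0], [0, 1, 0, 0, 1]], []),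
    (11302, 10, 325, [[0, 1, 0, 0, 1, 1, 1, 0, 0, 1, 1, 1], [1, 0, 1, 0, 1, 0, 1, 0, 1, 0, 1, 0, 1]], []),
    (11484, 10, 325, [[1, 1, 0, 1, 0, 0, 1, 1, 1, 0, 0, 1], [1, 0, 1, 0, 1, 0, 1, 0, 1, 0, 1, 0, 1]], []),
    (11612, 10, 325, [[0, 1, 1, 1, 0, 0, 1], [0, 1, 0, 0, 1, 1, 0, 0, 1, 0, 0, 1, 1]], []),
    (11794, 10, 325, [[1, 0, 0, 1, 1, 1, 0], [0, 1, 0, 0, 1, 1, 0, 0, 1, 0, 0, 1, 1]], []),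
    (13474, 20, 329, [[0, 0, 1, 1, 0, 1], [0, 1, 1, 0, 0]], [[0, 0, 1], [1, 0, 1, 0]]),
    (13629, 19, 332, [[1, 1, 1, 0], [1, 1, 0, 1, 1, 0, 1]], [[1, 0, 1, 0, 1, 1], [0, 0, 0, 0, 1, 1, 0, 1, 0]]),
    (13669, 10, 325, [[0, 0, 1, 0, 1, 1, 0, 1, 0, 0], [0, 1, 0, 1, 0, 1, 0, 0, 1, 0, 1, 0, 1]], []),
    (13822, 5, 720, [[0, 1]], [[0, 0, 0, 0, 0, 0, 0, 0], [0, 0, 0, 0, 0]]),
    (13979, 10, 325, [[0, 1, 0, 1, 0, 1, 1, 1, 0, 1, 1], [1, 0, 1, 0, 1]], []),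
    (14020, 20, 335, [[0, 1, 0, 1, 1, 0], [1, 0, 1]], [[1, 0, 1, 0], [0, 0, 1, 0]]),
    (14175, 19, 325, [[1, 0, 1, 0, 1], [1, 1, 0, 1]], [[0, 0], [0, 0, 0, 0, 0, 1, 1, 0, 1]]),
    (16007, 10, 325, [[1, 1, 0, 1, 0, 1, 0, 1, 1, 0], [0, 1, 0, 0, 1]], [])]

/-- Steps from class 8. -/
def step8 : List (Nat × Nat × Nat × List (List Nat) × List (List Nat)) := List.flatten [step8_0, step8_1, step8_2, step8_3]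

/-- Steps from class 9, part. -/
def step9_0 : List (Nat × Nat × Nat × List (List Nat) × List (List Nat)) :=
  [(325, 1, 325, [[1]], [[0, 0], [0]]),
    (326, 2, 326, [[1]], [[0, 0, 0], [0]]),
    (327, 7, 325, [[0, 1, 1, 1, 1, 1, 1, 1, 1, 1, 1, 1, 1]], [[0, 0, 0, 0, 0, 0, 0, 0, 0, 0, 0, 0, 0], [0, 0, 0, 0, 0, 0, 0, 0, 0, 0, 0, 0]]),
    (328, 4, 328, [[1]], [[0, 0, 0, 0, 0, 0, 0], [0]]),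
    (329, 5, 329, [[1]], [[0, 0, 0, 0, 0, 0], [0]]),
    (330, 4, 2395, [[1, 1, 1, 1, 1]], [[0, 0, 0, 0, 0, 0, 0], [0, 0, 0]]),
    (331, 4, 426, [[0, 1, 1, 1, 1]], [[0, 0, 0, 0, 0, 0, 0], [0, 0, 0, 0, 0, 0, 0, 0, 0]]),
    (332, 4, 427, [[0, 1, 1, 1]], [[0, 0, 0, 0, 0, 0, 0], [0, 0, 0, 0, 0, 0, 0, 0, 0, 0, 0, 0]]),
    (333, 4, 2507, [[0, 1, 1]], [[0, 0, 0, 0, 0, 0, 0], [0, 0, 0, 0]]),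
    (334, 5, 325, [[1, 1, 1, 1, 1]], [[0, 0, 0, 0, 0, 0], [0, 0, 0, 0, 0]]),
    (335, 4, 325, [[0, 1, 1, 1, 1, 1, 1]], [[0, 0, 0, 0, 0, 0, 0], [0, 0, 0, 0, 0, 0]]),
    (336, 7, 336, [[1]], [[0, 0, 0, 0, 0, 0, 0, 0, 0, 0, 0, 0, 0], [0]]),
    (337, 2, 325, [[0, 1, 1]], [[0, 0, 0], [0, 0]]),
    (416, 1, 2451, [[1]], [[0, 0], [0]]),
    (417, 2, 5216, [[1]], [[0, 0, 0], [0]]),
    (418, 7, 331, [[0, 1, 1, 1, 1, 1, 1]], [[0, 0, 0, 0, 0, 0, 0, 0, 0, 0, 0, 0, 0], [0, 0, 0, 0, 0, 0, 0, 0, 0, 0, 0, 0, 0, 0, 0, 0, 0, 0, 0, 0, 0, 0, 0, 0]]),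
    (419, 4, 2658, [[0, 1, 1, 1, 1, 1, 1]], [[0, 0, 0, 0, 0, 0, 0], [0, 0, 0, 0, 0, 0, 0, 0, 0, 0, 0, 0, 0]]),
    (420, 5, 3984, [[0, 1, 1, 1, 1, 1]], [[0, 0, 0, 0, 0, 0], [0, 0, 0, 0, 0, 0, 0, 0, 0, 0, 0]]),
    (421, 4, 722, [[0, 1, 1]], [[0, 0, 0, 0, 0, 0, 0], [0, 0, 0, 0, 0, 0, 0, 0, 0, 0, 0]]),
    (422, 4, 2381, [[1, 1, 1]], [[0, 0, 0, 0, 0, 0, 0], [0, 0, 0, 0, 0]]),
    (423, 4, 2521, [[0, 1, 1, 1, 1]], [[0, 0, 0, 0, 0, 0, 0], [0, 0]]),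
    (424, 4, 725, [[0, 1, 1, 1, 1, 1]], [[0, 0, 0, 0, 0, 0, 0], [0, 0, 0, 0, 0, 0, 0, 0, 0, 0]]),
    (425, 5, 3964, [[0, 1]], [[0, 0, 0, 0, 0, 0], [0, 0, 0, 0, 0, 0, 0]]),
    (426, 4, 2551, [[0, 1]], [[0, 0, 0, 0, 0, 0, 0], [0, 0, 0, 0, 0, 0, 0, 0]]),
    (427, 7, 330, [[1, 1, 1, 1, 1, 1, 1]], [[0, 0, 0, 0, 0, 0, 0, 0, 0, 0, 0, 0, 0], [0, 0, 0, 0, 0, 0, 0, 0, 0, 0, 0, 0, 0, 0, 0]]),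
    (428, 2, 5201, [[0, 1, 1]], [[0, 0, 0], [0, 0]]),
    (559, 1, 715, [[1]], [[0, 0], [0]]),
    (560, 2, 725, [[1]], [[0, 0, 0], [0]]),
    (561, 7, 333, [[0, 1, 1, 1, 1]], [[0, 0, 0, 0, 0, 0, 0, 0, 0, 0, 0, 0, 0], [0, 0, 0, 0, 0, 0, 0, 0, 0, 0]]),
    (562, 4, 719, [[1]], [[0, 0, 0, 0, 0, 0, 0], [0]]),
    (563, 5, 716, [[1]], [[0, 0, 0, 0, 0, 0], [0]]),
    (564, 4, 2643, [[0, 1, 1]], [[0, 0, 0, 0, 0, 0, 0], [0, 0, 0, 0, 0, 0, 0, 0, 0, 0, 0]]),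
    (565, 4, 334, [[1, 1, 1]], [[0, 0, 0, 0, 0, 0, 0], [0, 0, 0, 0, 0]]),
    (566, 4, 332, [[0, 1, 1, 1, 1]], [[0, 0, 0, 0, 0, 0, 0], [0, 0]]),
    (567, 4, 2566, [[0, 1, 1, 1, 1, 1]], [[0, 0, 0, 0, 0, 0, 0], [0, 0, 0, 0, 0, 0, 0, 0, 0, 0]]),
    (568, 5, 715, [[1, 1, 1, 1, 1]], [[0, 0, 0, 0, 0, 0], [0, 0, 0, 0, 0]]),
    (569, 4, 715, [[0, 1, 1, 1, 1, 1, 1]], [[0, 0, 0, 0, 0, 0, 0], [0, 0, 0, 0, 0, 0]]),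
    (570, 7, 328, [[1, 1, 1, 1, 1, 1, 1, 1, 1]], [[0, 0, 0, 0, 0, 0, 0, 0, 0, 0, 0, 0, 0], [0, 0, 0]]),
    (571, 2, 715, [[0, 1, 1]], [[0, 0, 0], [0, 0]]),
    (715, 1, 416, [[1]], [[0, 0], [0]]),
    (716, 2, 423, [[1]], [[0, 0, 0], [0]]),
    (717, 7, 334, [[0, 1, 1, 1]], [[0, 0, 0, 0, 0, 0, 0, 0, 0, 0, 0, 0, 0], [0, 0, 0, 0, 0, 0, 0, 0, 0, 0, 0, 0, 0, 0, 0, 0, 0, 0, 0, 0, 0, 0]]),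
    (718, 4, 424, [[1]], [[0, 0, 0, 0, 0, 0, 0], [0]]),
    (719, 5, 418, [[1]], [[0, 0, 0, 0, 0, 0], [0]]),
    (720, 4, 2820, [[0, 1, 1]], [[0, 0, 0, 0, 0, 0, 0], [0, 0, 0, 0, 0, 0, 0, 0, 0, 0, 0]]),
    (721, 4, 720, [[0, 1, 1, 1, 1]], [[0, 0, 0, 0, 0, 0, 0], [0, 0, 0, 0, 0, 0, 0, 0, 0]]),
    (722, 4, 727, [[0, 1, 1, 1]], [[0, 0, 0, 0, 0, 0, 0], [0, 0, 0, 0, 0, 0, 0, 0, 0, 0, 0, 0]]),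
    (723, 4, 2839, [[0, 1, 1, 1, 1, 1]], [[0, 0, 0, 0, 0, 0, 0], [0, 0, 0, 0, 0, 0, 0, 0, 0, 0]]),
    (724, 5, 416, [[1, 1, 1, 1, 1]], [[0, 0, 0, 0, 0, 0], [0, 0, 0, 0, 0]]),
    (725, 4, 416, [[0, 1, 1, 1, 1, 1, 1]], [[0, 0, 0, 0, 0, 0, 0], [0, 0, 0, 0, 0, 0]]),
    (726, 7, 327, [[0, 1, 1, 1, 1, 1, 1, 1, 1, 1, 1]], [[0, 0, 0, 0, 0, 0, 0, 0, 0, 0, 0, 0, 0], [0, 0, 0, 0, 0, 0, 0, 0, 0, 0, 0, 0, 0, 0, 0, 0, 0]]),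
    (727, 2, 416, [[0, 1, 1]], [[0, 0, 0], [0, 0]]),
    (910, 1, 2673, [[1]], [[0, 0], [0]]),
    (911, 2, 2891, [[0, 1, 1]], [[0, 0, 0], [0, 0, 0, 0, 0]]),
    (912, 7, 332, [[0, 1, 1, 1, 1, 1]], [[0, 0, 0, 0, 0, 0, 0, 0, 0, 0, 0, 0, 0], [0, 0, 0, 0, 0, 0, 0, 0]]),
    (913, 4, 2437, [[1]], [[0, 0, 0, 0, 0, 0, 0], [0]]),
    (914, 5, 5700, [[1]], [[0, 0, 0, 0, 0, 0], [0]]),
    (915, 4, 327, [[0, 1, 1]], [[0, 0, 0, 0, 0, 0, 0], [0, 0, 0, 0, 0, 0, 0, 0, 0, 0, 0]]),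
    (916, 4, 2804, [[1, 1, 1]], [[0, 0, 0, 0, 0, 0, 0], [0, 0, 0, 0, 0]]),
    (917, 4, 2855, [[0, 1, 1, 1, 1]], [[0, 0, 0, 0, 0, 0, 0], [0, 0]]),
    (918, 4, 326, [[0, 1, 1, 1, 1, 1]], [[0, 0, 0, 0, 0, 0, 0], [0, 0, 0, 0, 0, 0, 0, 0, 0, 0]]),
    (919, 5, 5710, [[1, 1, 1, 1, 1]], [[0, 0, 0, 0, 0, 0], [0, 0, 0, 0, 0]]),
    (920, 4, 2465, [[0, 1, 1, 1, 1, 1, 1]], [[0, 0, 0, 0, 0, 0, 0], [0, 0, 0, 0, 0, 0]]),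
    (921, 7, 329, [[0, 1, 1, 1, 1, 1, 1, 1, 1]], [[0, 0, 0, 0, 0, 0, 0, 0, 0, 0, 0, 0, 0], [0, 0, 0, 0, 0]])]

/-- Steps from class 9, part. -/
def step9_1 : List (Nat × Nat × Nat × List (List Nat) × List (List Nat)) :=
  [(922, 2, 2963, [[0, 1]], [[0, 0, 0], [0, 0, 0, 0]]),
    (1040, 1, 5139, [[0, 1]], [[0, 0], [0, 0, 0]]),
    (1041, 2, 2628, [[0, 1, 1]], [[0, 0, 0], [0, 0, 0, 0, 0]]),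
    (1042, 7, 335, [[0, 1, 1]], [[0, 0, 0, 0, 0, 0, 0, 0, 0, 0, 0, 0, 0], [0, 0, 0, 0, 0, 0, 0, 0, 0, 0, 0, 0, 0, 0, 0, 0, 0, 0, 0, 0]]),
    (1043, 4, 2788, [[1]], [[0, 0, 0, 0, 0, 0, 0], [0]]),
    (1044, 5, 2395, [[1]], [[0, 0, 0, 0, 0, 0], [0]]),
    (1045, 4, 423, [[1, 1, 1, 1, 1]], [[0, 0, 0, 0, 0, 0, 0], [0, 0, 0]]),
    (1046, 4, 2703, [[0, 1, 1, 1, 1]], [[0, 0, 0, 0, 0, 0, 0], [0, 0, 0, 0, 0, 0, 0, 0, 0]]),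
    (1047, 4, 2688, [[0, 1, 1, 1]], [[0, 0, 0, 0, 0, 0, 0], [0, 0, 0, 0, 0, 0, 0, 0, 0, 0, 0, 0]]),
    (1048, 4, 417, [[0, 1, 1]], [[0, 0, 0, 0, 0, 0, 0], [0, 0, 0, 0]]),
    (1049, 5, 2507, [[1, 1, 1, 1, 1]], [[0, 0, 0, 0, 0, 0], [0, 0, 0, 0, 0]]),
    (1050, 4, 2871, [[0, 1, 1, 1, 1, 1, 1]], [[0, 0, 0, 0, 0, 0, 0], [0, 0, 0, 0, 0, 0]]),
    (1051, 7, 326, [[1, 1, 1, 1, 1, 1, 1, 1, 1, 1, 1]], [[0, 0, 0, 0, 0, 0, 0, 0, 0, 0, 0, 0, 0], [0, 0, 0, 0, 0, 0, 0, 0, 0, 0, 0, 0, 0, 0, 0, 0, 0, 0, 0]]),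
    (1052, 2, 2658, [[0, 1]], [[0, 0, 0], [0, 0, 0, 0]]),
    (2198, 9, 325, [[0]], [[0], []]),
    (2211, 7, 2367, [[0, 1]], [[0, 0, 0, 0, 0, 0, 0, 0, 0, 0, 0, 0, 0], [0, 0, 0, 0, 0, 0, 0, 0, 0, 0, 0, 0, 0, 0]]),
    (2224, 7, 2367, [[0, 1, 1, 1, 1, 1, 1, 1]], [[0, 0, 0, 0, 0, 0, 0, 0, 0, 0, 0, 0, 0], [0, 0]]),
    (2237, 7, 2367, [[0, 1, 1, 1, 1, 1, 1, 1, 1, 1]], [[0, 0, 0, 0, 0, 0, 0, 0, 0, 0, 0, 0, 0], [0, 0, 0, 0, 0, 0, 0, 0, 0, 0, 0, 0, 0, 0, 0, 0]]),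
    (2250, 7, 2367, [[0, 1, 1, 1, 1, 1, 1, 1, 1, 1, 1]], [[0, 0, 0, 0, 0, 0, 0, 0, 0, 0, 0, 0, 0], [0, 0, 0, 0]]),
    (2263, 7, 2367, [[0, 1, 1, 1, 1, 1, 1, 1, 1]], [[0, 0, 0, 0, 0, 0, 0, 0, 0, 0, 0, 0, 0], [0, 0, 0, 0, 0, 0, 0, 0, 0, 0, 0, 0, 0, 0, 0, 0, 0, 0]]),
    (2276, 7, 2367, [[0, 1, 1, 1, 1, 1, 1, 1, 1, 1, 1, 1]], [[0, 0, 0, 0, 0, 0, 0, 0, 0, 0, 0, 0, 0], [0, 0, 0, 0, 0, 0]]),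
    (2289, 7, 2367, [[0, 1, 1]], [[0, 0, 0, 0, 0, 0, 0, 0, 0, 0, 0, 0, 0], [0, 0, 0, 0, 0, 0, 0, 0, 0, 0, 0, 0, 0, 0, 0, 0, 0, 0, 0, 0]]),
    (2302, 7, 2367, [[0, 1, 1, 1, 1, 1]], [[0, 0, 0, 0, 0, 0, 0, 0, 0, 0, 0, 0, 0], [0, 0, 0, 0, 0, 0, 0, 0]]),
    (2315, 7, 2367, [[0, 1, 1, 1]], [[0, 0, 0, 0, 0, 0, 0, 0, 0, 0, 0, 0, 0], [0, 0, 0, 0, 0, 0, 0, 0, 0, 0, 0, 0, 0, 0, 0, 0, 0, 0, 0, 0, 0, 0]]),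
    (2328, 7, 2367, [[0, 1, 1, 1, 1]], [[0, 0, 0, 0, 0, 0, 0, 0, 0, 0, 0, 0, 0], [0, 0, 0, 0, 0, 0, 0, 0, 0, 0]]),
    (2341, 7, 2367, [[0, 1, 1, 1, 1, 1, 1]], [[0, 0, 0, 0, 0, 0, 0, 0, 0, 0, 0, 0, 0], [0, 0, 0, 0, 0, 0, 0, 0, 0, 0, 0, 0, 0, 0, 0, 0, 0, 0, 0, 0, 0, 0, 0, 0]]),
    (2354, 7, 2367, [[0, 1, 1, 1, 1, 1, 1, 1, 1, 1, 1, 1, 1]], [[0, 0, 0, 0, 0, 0, 0, 0, 0, 0, 0, 0, 0], [0, 0, 0, 0, 0, 0, 0, 0, 0, 0, 0, 0]]),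
    (2367, 7, 337, [[0, 1, 1, 1, 1, 1, 1, 1, 1, 1, 1, 1, 1]], [[0, 0, 0, 0, 0, 0, 0, 0, 0, 0, 0, 0, 0], [0, 0, 0, 0, 0, 0, 0, 0, 0, 0, 0, 0]]),
    (2381, 4, 327, [[1]], [[0, 0, 0, 0, 0, 0, 0], [0]]),
    (2395, 5, 328, [[1]], [[0, 0, 0, 0, 0, 0], [0]]),
    (2409, 4, 2381, [[1, 1, 1, 1, 1]], [[0, 0, 0, 0, 0, 0, 0], [0, 0, 0]]),
    (2423, 4, 424, [[0, 1, 1, 1, 1]], [[0, 0, 0, 0, 0, 0, 0], [0, 0, 0, 0, 0, 0, 0, 0, 0]]),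
    (2437, 4, 425, [[0, 1, 1, 1]], [[0, 0, 0, 0, 0, 0, 0], [0, 0, 0, 0, 0, 0, 0, 0, 0, 0, 0, 0]]),
    (2451, 4, 2493, [[0, 1, 1]], [[0, 0, 0, 0, 0, 0, 0], [0, 0, 0, 0]]),
    (2465, 5, 337, [[1, 1, 1, 1, 1]], [[0, 0, 0, 0, 0, 0], [0, 0, 0, 0, 0]]),
    (2479, 4, 337, [[0, 1, 1, 1, 1, 1, 1]], [[0, 0, 0, 0, 0, 0, 0], [0, 0, 0, 0, 0, 0]]),
    (2493, 7, 335, [[1]], [[0, 0, 0, 0, 0, 0, 0, 0, 0, 0, 0, 0, 0], [0]]),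
    (2507, 2, 337, [[0, 1, 1]], [[0, 0, 0], [0, 0]]),
    (2521, 1, 337, [[1]], [[0, 0], [0]]),
    (2522, 2, 325, [[1]], [[0, 0, 0], [0]]),
    (2536, 7, 337, [[0, 1, 1, 1, 1, 1, 1]], [[0, 0, 0, 0, 0, 0, 0, 0, 0, 0, 0, 0, 0], [0, 0, 0, 0, 0, 0, 0, 0, 0, 0, 0, 0, 0, 0, 0, 0, 0, 0, 0, 0, 0, 0, 0, 0]]),
    (2551, 5, 3888, [[0, 1, 1, 1, 1, 1]], [[0, 0, 0, 0, 0, 0], [0, 0, 0, 0, 0, 0, 0, 0, 0, 0, 0]]),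
    (2566, 4, 2465, [[1, 1, 1]], [[0, 0, 0, 0, 0, 0, 0], [0, 0, 0, 0, 0]]),
    (2581, 4, 723, [[0, 1, 1, 1, 1, 1]], [[0, 0, 0, 0, 0, 0, 0], [0, 0, 0, 0, 0, 0, 0, 0, 0, 0]]),
    (2596, 4, 2628, [[0, 1]], [[0, 0, 0, 0, 0, 0, 0], [0, 0, 0, 0, 0, 0, 0, 0]]),
    (2611, 2, 5199, [[0, 1, 1]], [[0, 0, 0], [0, 0]]),
    (2613, 2, 5201, [[1]], [[0, 0, 0], [0]]),
    (2628, 4, 2566, [[0, 1, 1, 1, 1, 1, 1]], [[0, 0, 0, 0, 0, 0, 0], [0, 0, 0, 0, 0, 0, 0, 0, 0, 0, 0, 0, 0]]),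
    (2643, 4, 720, [[0, 1, 1]], [[0, 0, 0, 0, 0, 0, 0], [0, 0, 0, 0, 0, 0, 0, 0, 0, 0, 0]]),
    (2658, 4, 2423, [[0, 1, 1, 1, 1]], [[0, 0, 0, 0, 0, 0, 0], [0, 0]]),
    (2673, 5, 4037, [[0, 1]], [[0, 0, 0, 0, 0, 0], [0, 0, 0, 0, 0, 0, 0]]),
    (2688, 7, 336, [[1, 1, 1, 1, 1, 1, 1]], [[0, 0, 0, 0, 0, 0, 0, 0, 0, 0, 0, 0, 0], [0, 0, 0, 0, 0, 0, 0, 0, 0, 0, 0, 0, 0, 0, 0]]),
    (2703, 1, 2522, [[1]], [[0, 0], [0]]),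
    (2705, 7, 337, [[0, 1, 1, 1, 1]], [[0, 0, 0, 0, 0, 0, 0, 0, 0, 0, 0, 0, 0], [0, 0, 0, 0, 0, 0, 0, 0, 0, 0]]),
    (2721, 4, 2703, [[0, 1, 1]], [[0, 0, 0, 0, 0, 0, 0], [0, 0, 0, 0, 0, 0, 0, 0, 0, 0, 0]]),
    (2737, 4, 2613, [[0, 1, 1, 1, 1, 1]], [[0, 0, 0, 0, 0, 0, 0], [0, 0, 0, 0, 0, 0, 0, 0, 0, 0]]),
    (2753, 7, 332, [[1, 1, 1, 1, 1, 1, 1, 1, 1]], [[0, 0, 0, 0, 0, 0, 0, 0, 0, 0, 0, 0, 0], [0, 0, 0]]),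
    (2756, 2, 715, [[1]], [[0, 0, 0], [0]]),
    (2772, 5, 719, [[1]], [[0, 0, 0, 0, 0, 0], [0]]),
    (2788, 4, 336, [[0, 1, 1, 1, 1]], [[0, 0, 0, 0, 0, 0, 0], [0, 0]]),
    (2804, 4, 718, [[0, 1, 1, 1, 1, 1, 1]], [[0, 0, 0, 0, 0, 0, 0], [0, 0, 0, 0, 0, 0]]),
    (2820, 1, 718, [[1]], [[0, 0], [0]]),
    (2823, 4, 722, [[1]], [[0, 0, 0, 0, 0, 0, 0], [0]]),
    (2839, 4, 325, [[1, 1, 1]], [[0, 0, 0, 0, 0, 0, 0], [0, 0, 0, 0, 0]])]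

/-- Steps from class 9, part. -/
def step9_2 : List (Nat × Nat × Nat × List (List Nat) × List (List Nat)) :=
  [(2855, 5, 718, [[1, 1, 1, 1, 1]], [[0, 0, 0, 0, 0, 0], [0, 0, 0, 0, 0]]),
    (2871, 2, 718, [[0, 1, 1]], [[0, 0, 0], [0, 0]]),
    (2874, 7, 337, [[0, 1, 1, 1]], [[0, 0, 0, 0, 0, 0, 0, 0, 0, 0, 0, 0, 0], [0, 0, 0, 0, 0, 0, 0, 0, 0, 0, 0, 0, 0, 0, 0, 0, 0, 0, 0, 0, 0, 0]]),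
    (2891, 4, 719, [[0, 1, 1, 1, 1]], [[0, 0, 0, 0, 0, 0, 0], [0, 0, 0, 0, 0, 0, 0, 0, 0]]),
    (2908, 4, 422, [[0, 1, 1, 1, 1, 1, 1]], [[0, 0, 0, 0, 0, 0, 0], [0, 0, 0, 0, 0, 0]]),
    (2912, 2, 416, [[1]], [[0, 0, 0], [0]]),
    (2929, 4, 2855, [[0, 1, 1]], [[0, 0, 0, 0, 0, 0, 0], [0, 0, 0, 0, 0, 0, 0, 0, 0, 0, 0]]),
    (2946, 5, 422, [[1, 1, 1, 1, 1]], [[0, 0, 0, 0, 0, 0], [0, 0, 0, 0, 0]]),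
    (2963, 1, 422, [[1]], [[0, 0], [0]]),
    (2967, 5, 424, [[1]], [[0, 0, 0, 0, 0, 0], [0]]),
    (2984, 4, 2705, [[0, 1, 1, 1, 1, 1]], [[0, 0, 0, 0, 0, 0, 0], [0, 0, 0, 0, 0, 0, 0, 0, 0, 0]]),
    (3001, 2, 422, [[0, 1, 1]], [[0, 0, 0], [0, 0]]),
    (3005, 4, 417, [[1]], [[0, 0, 0, 0, 0, 0, 0], [0]]),
    (3022, 4, 726, [[0, 1, 1, 1]], [[0, 0, 0, 0, 0, 0, 0], [0, 0, 0, 0, 0, 0, 0, 0, 0, 0, 0, 0]]),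
    (3039, 7, 330, [[0, 1, 1, 1, 1, 1, 1, 1, 1, 1, 1]], [[0, 0, 0, 0, 0, 0, 0, 0, 0, 0, 0, 0, 0], [0, 0, 0, 0, 0, 0, 0, 0, 0, 0, 0, 0, 0, 0, 0, 0, 0]]),
    (3043, 7, 337, [[0, 1, 1, 1, 1, 1]], [[0, 0, 0, 0, 0, 0, 0, 0, 0, 0, 0, 0, 0], [0, 0, 0, 0, 0, 0, 0, 0]]),
    (3061, 4, 2753, [[0, 1, 1, 1, 1]], [[0, 0, 0, 0, 0, 0, 0], [0, 0]]),
    (3079, 2, 3022, [[0, 1]], [[0, 0, 0], [0, 0, 0, 0]]),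
    (3084, 5, 5657, [[1]], [[0, 0, 0, 0, 0, 0], [0]]),
    (3102, 5, 5680, [[1, 1, 1, 1, 1]], [[0, 0, 0, 0, 0, 0], [0, 0, 0, 0, 0]]),
    (3107, 2, 2963, [[0, 1, 1]], [[0, 0, 0], [0, 0, 0, 0, 0]]),
    (3125, 4, 2871, [[1, 1, 1]], [[0, 0, 0, 0, 0, 0, 0], [0, 0, 0, 0, 0]]),
    (3143, 7, 334, [[0, 1, 1, 1, 1, 1, 1, 1, 1]], [[0, 0, 0, 0, 0, 0, 0, 0, 0, 0, 0, 0, 0], [0, 0, 0, 0, 0]]),
    (3148, 4, 2507, [[1]], [[0, 0, 0, 0, 0, 0, 0], [0]]),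
    (3166, 4, 331, [[0, 1, 1, 1, 1, 1]], [[0, 0, 0, 0, 0, 0, 0], [0, 0, 0, 0, 0, 0, 0, 0, 0, 0]]),
    (3184, 1, 2566, [[1]], [[0, 0], [0]]),
    (3189, 4, 332, [[0, 1, 1]], [[0, 0, 0, 0, 0, 0, 0], [0, 0, 0, 0, 0, 0, 0, 0, 0, 0, 0]]),
    (3207, 4, 2522, [[0, 1, 1, 1, 1, 1, 1]], [[0, 0, 0, 0, 0, 0, 0], [0, 0, 0, 0, 0, 0]]),
    (3212, 7, 337, [[0, 1, 1]], [[0, 0, 0, 0, 0, 0, 0, 0, 0, 0, 0, 0, 0], [0, 0, 0, 0, 0, 0, 0, 0, 0, 0, 0, 0, 0, 0, 0, 0, 0, 0, 0, 0]]),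
    (3231, 4, 421, [[0, 1, 1]], [[0, 0, 0, 0, 0, 0, 0], [0, 0, 0, 0]]),
    (3237, 2, 2658, [[0, 1, 1]], [[0, 0, 0], [0, 0, 0, 0, 0]]),
    (3256, 4, 2536, [[0, 1, 1, 1]], [[0, 0, 0, 0, 0, 0, 0], [0, 0, 0, 0, 0, 0, 0, 0, 0, 0, 0, 0]]),
    (3275, 1, 5199, [[0, 1]], [[0, 0], [0, 0, 0]]),
    (3281, 4, 2551, [[0, 1, 1, 1, 1]], [[0, 0, 0, 0, 0, 0, 0], [0, 0, 0, 0, 0, 0, 0, 0, 0]]),
    (3300, 2, 2688, [[0, 1]], [[0, 0, 0], [0, 0, 0, 0]]),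
    (3306, 4, 427, [[1, 1, 1, 1, 1]], [[0, 0, 0, 0, 0, 0, 0], [0, 0, 0]]),
    (3325, 7, 328, [[1, 1, 1, 1, 1, 1, 1, 1, 1, 1, 1]], [[0, 0, 0, 0, 0, 0, 0, 0, 0, 0, 0, 0, 0], [0, 0, 0, 0, 0, 0, 0, 0, 0, 0, 0, 0, 0, 0, 0, 0, 0, 0, 0]]),
    (3331, 5, 2423, [[1]], [[0, 0, 0, 0, 0, 0], [0]]),
    (3350, 4, 2721, [[0, 1, 1, 1, 1, 1, 1]], [[0, 0, 0, 0, 0, 0, 0], [0, 0, 0, 0, 0, 0]]),
    (3356, 4, 2820, [[1]], [[0, 0, 0, 0, 0, 0, 0], [0]]),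
    (3375, 5, 2522, [[1, 1, 1, 1, 1]], [[0, 0, 0, 0, 0, 0], [0, 0, 0, 0, 0]]),
    (3381, 7, 337, [[0, 1, 1, 1, 1, 1, 1, 1, 1, 1, 1, 1]], [[0, 0, 0, 0, 0, 0, 0, 0, 0, 0, 0, 0, 0], [0, 0, 0, 0, 0, 0]]),
    (3401, 5, 2367, [[0, 1]], [[0, 0, 0, 0, 0, 0], [0, 0, 0, 0, 0, 0, 0]]),
    (3408, 4, 2839, [[0, 1, 1, 1, 1, 1, 1]], [[0, 0, 0, 0, 0, 0, 0], [0, 0, 0, 0, 0, 0, 0, 0, 0, 0, 0, 0, 0]]),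
    (3428, 4, 2756, [[0, 1]], [[0, 0, 0, 0, 0, 0, 0], [0, 0, 0, 0, 0, 0, 0, 0]]),
    (3435, 5, 2479, [[0, 1, 1, 1, 1, 1]], [[0, 0, 0, 0, 0, 0], [0, 0, 0, 0, 0, 0, 0, 0, 0, 0, 0]]),
    (3455, 7, 333, [[0, 1, 1]], [[0, 0, 0, 0, 0, 0, 0, 0, 0, 0, 0, 0, 0], [0, 0, 0, 0, 0, 0, 0]]),
    (3462, 4, 426, [[0, 1, 1]], [[0, 0, 0, 0, 0, 0, 0], [0, 0, 0, 0, 0, 0, 0, 0, 0, 0, 0]]),
    (3482, 2, 2611, [[0, 1, 1]], [[0, 0, 0], [0, 0]]),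
    (3489, 4, 2658, [[1, 1, 1]], [[0, 0, 0, 0, 0, 0, 0], [0, 0, 0, 0, 0]]),
    (3509, 1, 5092, [[1]], [[0, 0], [0]]),
    (3516, 4, 2673, [[0, 1, 1, 1, 1]], [[0, 0, 0, 0, 0, 0, 0], [0, 0]]),
    (3523, 2, 2628, [[1]], [[0, 0, 0], [0]]),
    (3543, 4, 419, [[0, 1, 1, 1, 1, 1]], [[0, 0, 0, 0, 0, 0, 0], [0, 0, 0, 0, 0, 0, 0, 0, 0, 0]]),
    (3550, 7, 337, [[0, 1, 1, 1, 1, 1, 1, 1, 1]], [[0, 0, 0, 0, 0, 0, 0, 0, 0, 0, 0, 0, 0], [0, 0, 0, 0, 0, 0, 0, 0, 0, 0, 0, 0, 0, 0, 0, 0, 0, 0]]),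
    (3571, 4, 2367, [[0, 1]], [[0, 0, 0, 0, 0, 0, 0], [0, 0, 0, 0, 0, 0, 0, 0]]),
    (3579, 4, 334, [[1, 1, 1, 1, 1]], [[0, 0, 0, 0, 0, 0, 0], [0, 0, 0]]),
    (3600, 1, 2611, [[0, 1]], [[0, 0], [0, 0, 0]]),
    (3608, 4, 335, [[0, 1, 1]], [[0, 0, 0, 0, 0, 0, 0], [0, 0, 0, 0]]),
    (3616, 4, 2395, [[0, 1, 1, 1, 1, 1, 1]], [[0, 0, 0, 0, 0, 0, 0], [0, 0, 0, 0, 0, 0, 0, 0, 0, 0, 0, 0, 0]]),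
    (3637, 7, 327, [[1, 1, 1, 1, 1]], [[0, 0, 0, 0, 0, 0, 0, 0, 0, 0, 0, 0, 0], [0, 0, 0, 0, 0, 0, 0, 0, 0, 0, 0, 0, 0, 0, 0, 0, 0, 0, 0, 0, 0]]),
    (3645, 4, 2788, [[0, 1, 1, 1, 1]], [[0, 0, 0, 0, 0, 0, 0], [0, 0, 0, 0, 0, 0, 0, 0, 0]]),
    (3653, 2, 2891, [[1]], [[0, 0, 0], [0]]),
    (3674, 5, 5743, [[0, 1]], [[0, 0, 0, 0, 0, 0], [0, 0, 0, 0, 0, 0, 0]])]

/-- Steps from class 9, part. -/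
def step9_3 : List (Nat × Nat × Nat × List (List Nat) × List (List Nat)) :=
  [(3682, 5, 5584, [[0, 1, 1, 1, 1, 1]], [[0, 0, 0, 0, 0, 0], [0, 0, 0, 0, 0, 0, 0, 0, 0, 0, 0]]),
    (3703, 2, 3001, [[0, 1, 1]], [[0, 0, 0], [0, 0]]),
    (3711, 4, 2737, [[0, 1, 1, 1]], [[0, 0, 0, 0, 0, 0, 0], [0, 0, 0, 0, 0, 0, 0, 0, 0, 0, 0, 0]]),
    (3719, 7, 337, [[0, 1, 1, 1, 1, 1, 1, 1, 1, 1, 1]], [[0, 0, 0, 0, 0, 0, 0, 0, 0, 0, 0, 0, 0], [0, 0, 0, 0]]),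
    (3741, 7, 331, [[1, 1, 1]], [[0, 0, 0, 0, 0, 0, 0, 0, 0, 0, 0, 0, 0], [0, 0, 0, 0, 0, 0, 0, 0, 0]]),
    (3750, 4, 721, [[0, 1, 1, 1, 1]], [[0, 0, 0, 0, 0, 0, 0], [0, 0]]),
    (3759, 4, 423, [[0, 1, 1, 1, 1, 1, 1]], [[0, 0, 0, 0, 0, 0, 0], [0, 0, 0, 0, 0, 0, 0, 0, 0, 0, 0, 0, 0]]),
    (3781, 2, 417, [[0, 1]], [[0, 0, 0], [0, 0, 0, 0]]),
    (3790, 4, 2772, [[0, 1, 1]], [[0, 0, 0, 0, 0, 0, 0], [0, 0, 0, 0]]),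
    (3799, 5, 423, [[0, 1, 1, 1, 1, 1]], [[0, 0, 0, 0, 0, 0], [0, 0, 0, 0, 0, 0, 0, 0, 0, 0, 0]]),
    (3821, 1, 423, [[0, 1]], [[0, 0], [0, 0, 0]]),
    (3830, 5, 425, [[0, 1]], [[0, 0, 0, 0, 0, 0], [0, 0, 0, 0, 0, 0, 0]]),
    (3839, 4, 2804, [[1, 1, 1, 1, 1]], [[0, 0, 0, 0, 0, 0, 0], [0, 0, 0]]),
    (3848, 2, 423, [[0, 1, 1]], [[0, 0, 0], [0, 0, 0, 0, 0]]),
    (3870, 4, 418, [[0, 1]], [[0, 0, 0, 0, 0, 0, 0], [0, 0, 0, 0, 0, 0, 0, 0]]),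
    (3879, 4, 715, [[1, 1, 1]], [[0, 0, 0, 0, 0, 0, 0], [0, 0, 0, 0, 0]]),
    (3888, 7, 337, [[0, 1, 1, 1, 1, 1, 1, 1, 1, 1]], [[0, 0, 0, 0, 0, 0, 0, 0, 0, 0, 0, 0, 0], [0, 0, 0, 0, 0, 0, 0, 0, 0, 0, 0, 0, 0, 0, 0, 0]]),
    (3911, 2, 722, [[0, 1]], [[0, 0, 0], [0, 0, 0, 0]]),
    (3921, 5, 726, [[0, 1]], [[0, 0, 0, 0, 0, 0], [0, 0, 0, 0, 0, 0, 0]]),
    (3931, 4, 328, [[0, 1, 1, 1, 1]], [[0, 0, 0, 0, 0, 0, 0], [0, 0, 0, 0, 0, 0, 0, 0, 0]]),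
    (3941, 4, 725, [[0, 1, 1, 1, 1, 1, 1]], [[0, 0, 0, 0, 0, 0, 0], [0, 0, 0, 0, 0, 0, 0, 0, 0, 0, 0, 0, 0]]),
    (3964, 1, 725, [[0, 1]], [[0, 0], [0, 0, 0]]),
    (3974, 4, 716, [[0, 1]], [[0, 0, 0, 0, 0, 0, 0], [0, 0, 0, 0, 0, 0, 0, 0]]),
    (3984, 4, 330, [[0, 1, 1, 1]], [[0, 0, 0, 0, 0, 0, 0], [0, 0, 0, 0, 0, 0, 0, 0, 0, 0, 0, 0]]),
    (3994, 5, 725, [[0, 1, 1, 1, 1, 1]], [[0, 0, 0, 0, 0, 0], [0, 0, 0, 0, 0, 0, 0, 0, 0, 0, 0]]),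
    (4004, 2, 725, [[0, 1, 1]], [[0, 0, 0], [0, 0, 0, 0, 0]]),
    (4027, 7, 329, [[0, 1, 1, 1, 1]], [[0, 0, 0, 0, 0, 0, 0, 0, 0, 0, 0, 0, 0], [0, 0, 0, 0, 0, 0, 0, 0, 0, 0, 0, 0, 0, 0, 0, 0, 0, 0, 0, 0, 0, 0, 0]]),
    (4037, 4, 2596, [[0, 1, 1]], [[0, 0, 0, 0, 0, 0, 0], [0, 0, 0, 0]]),
    (4047, 4, 2688, [[1, 1, 1, 1, 1]], [[0, 0, 0, 0, 0, 0, 0], [0, 0, 0]]),
    (4057, 7, 337, [[0, 1, 1, 1, 1, 1, 1, 1]], [[0, 0, 0, 0, 0, 0, 0, 0, 0, 0, 0, 0, 0], [0, 0]]),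
    (4081, 1, 2367, [[0, 1]], [[0, 0], [0, 0, 0]]),
    (4092, 7, 325, [[0, 1, 1, 1, 1, 1, 1]], [[0, 0, 0, 0, 0, 0, 0, 0, 0, 0, 0, 0, 0], [0, 0, 0, 0, 0, 0, 0, 0, 0, 0, 0]]),
    (4103, 5, 3911, [[1, 1, 1, 1, 1]], [[0, 0, 0, 0, 0, 0], [0, 0, 0, 0, 0]]),
    (4114, 4, 2479, [[0, 1, 1, 1]], [[0, 0, 0, 0, 0, 0, 0], [0, 0, 0, 0, 0, 0, 0, 0, 0, 0, 0, 0]]),
    (4125, 4, 727, [[1, 1, 1, 1, 1]], [[0, 0, 0, 0, 0, 0, 0], [0, 0, 0]]),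
    (4136, 4, 2643, [[1]], [[0, 0, 0, 0, 0, 0, 0], [0]]),
    (4147, 2, 5216, [[0, 1, 1]], [[0, 0, 0], [0, 0, 0, 0, 0]]),
    (4171, 2, 5231, [[0, 1]], [[0, 0, 0], [0, 0, 0, 0]]),
    (4182, 4, 2581, [[0, 1, 1, 1, 1, 1, 1]], [[0, 0, 0, 0, 0, 0, 0], [0, 0, 0, 0, 0, 0]]),
    (4193, 4, 724, [[0, 1, 1]], [[0, 0, 0, 0, 0, 0, 0], [0, 0, 0, 0]]),
    (4204, 4, 2437, [[0, 1, 1, 1, 1]], [[0, 0, 0, 0, 0, 0, 0], [0, 0, 0, 0, 0, 0, 0, 0, 0]]),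
    (4215, 5, 4047, [[1]], [[0, 0, 0, 0, 0, 0], [0]]),
    (4226, 7, 337, [[0, 1]], [[0, 0, 0, 0, 0, 0, 0, 0, 0, 0, 0, 0, 0], [0, 0, 0, 0, 0, 0, 0, 0, 0, 0, 0, 0, 0, 0]]),
    (4238, 2, 326, [[0, 1, 1]], [[0, 0, 0], [0, 0, 0, 0, 0]]),
    (4263, 1, 326, [[0, 1]], [[0, 0], [0, 0, 0]]),
    (4275, 2, 327, [[0, 1]], [[0, 0, 0], [0, 0, 0, 0]]),
    (4287, 7, 326, [[0, 1, 1, 1, 1, 1, 1, 1, 1, 1, 1, 1, 1]], [[0, 0, 0, 0, 0, 0, 0, 0, 0, 0, 0, 0, 0], [0, 0, 0, 0, 0, 0, 0, 0, 0, 0, 0, 0, 0, 0, 0, 0, 0, 0, 0, 0, 0, 0, 0, 0, 0]]),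
    (4299, 4, 329, [[0, 1]], [[0, 0, 0, 0, 0, 0, 0], [0, 0, 0, 0, 0, 0, 0, 0]]),
    (4311, 5, 330, [[0, 1]], [[0, 0, 0, 0, 0, 0], [0, 0, 0, 0, 0, 0, 0]]),
    (4323, 4, 2409, [[0, 1, 1, 1, 1, 1]], [[0, 0, 0, 0, 0, 0, 0], [0, 0, 0, 0, 0, 0, 0, 0, 0, 0]]),
    (4335, 4, 428, [[0, 1, 1, 1, 1]], [[0, 0, 0, 0, 0, 0, 0], [0, 0]]),
    (4347, 4, 416, [[1, 1, 1]], [[0, 0, 0, 0, 0, 0, 0], [0, 0, 0, 0, 0]]),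
    (4359, 4, 2521, [[0, 1, 1]], [[0, 0, 0, 0, 0, 0, 0], [0, 0, 0, 0, 0, 0, 0, 0, 0, 0, 0]]),
    (4371, 5, 326, [[0, 1, 1, 1, 1, 1]], [[0, 0, 0, 0, 0, 0], [0, 0, 0, 0, 0, 0, 0, 0, 0, 0, 0]]),
    (4383, 4, 326, [[0, 1, 1, 1, 1, 1, 1]], [[0, 0, 0, 0, 0, 0, 0], [0, 0, 0, 0, 0, 0, 0, 0, 0, 0, 0, 0, 0]]),
    (4401, 5, 2643, [[0, 1]], [[0, 0, 0, 0, 0, 0], [0, 0, 0, 0, 0, 0, 0]]),
    (4414, 5, 2536, [[0, 1]], [[0, 0, 0, 0, 0, 0], [0, 0, 0, 0, 0, 0, 0]]),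
    (4427, 5, 2611, [[0, 1]], [[0, 0, 0, 0, 0, 0], [0, 0, 0, 0, 0, 0, 0]]),
    (4440, 5, 2673, [[0, 1]], [[0, 0, 0, 0, 0, 0], [0, 0, 0, 0, 0, 0, 0]]),
    (4453, 5, 2566, [[0, 1]], [[0, 0, 0, 0, 0, 0], [0, 0, 0, 0, 0, 0, 0]]),
    (4466, 5, 2628, [[0, 1]], [[0, 0, 0, 0, 0, 0], [0, 0, 0, 0, 0, 0, 0]]),
    (4479, 5, 2703, [[0, 1]], [[0, 0, 0, 0, 0, 0], [0, 0, 0, 0, 0, 0, 0]]),
    (4492, 5, 2596, [[0, 1]], [[0, 0, 0, 0, 0, 0], [0, 0, 0, 0, 0, 0, 0]]),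
    (4505, 5, 2658, [[0, 1]], [[0, 0, 0, 0, 0, 0], [0, 0, 0, 0, 0, 0, 0]])]

/-- Steps from class 9, part. -/
def step9_4 : List (Nat × Nat × Nat × List (List Nat) × List (List Nat)) :=
  [(4518, 5, 2551, [[0, 1]], [[0, 0, 0, 0, 0, 0], [0, 0, 0, 0, 0, 0, 0]]),
    (4531, 5, 2613, [[0, 1]], [[0, 0, 0, 0, 0, 0], [0, 0, 0, 0, 0, 0, 0]]),
    (4544, 5, 2688, [[0, 1]], [[0, 0, 0, 0, 0, 0], [0, 0, 0, 0, 0, 0, 0]]),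
    (4557, 5, 2581, [[0, 1]], [[0, 0, 0, 0, 0, 0], [0, 0, 0, 0, 0, 0, 0]]),
    (4570, 5, 336, [[1, 1, 1, 1, 1]], [[0, 0, 0, 0, 0, 0], [0, 0, 0, 0, 0]]),
    (4577, 4, 326, [[1]], [[0, 0, 0, 0, 0, 0, 0], [0]]),
    (4597, 4, 336, [[0, 1, 1, 1, 1, 1, 1]], [[0, 0, 0, 0, 0, 0, 0], [0, 0, 0, 0, 0, 0]]),
    (4604, 5, 327, [[1]], [[0, 0, 0, 0, 0, 0], [0]]),
    (4624, 7, 334, [[1]], [[0, 0, 0, 0, 0, 0, 0, 0, 0, 0, 0, 0, 0], [0]]),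
    (4631, 4, 2367, [[1, 1, 1, 1, 1]], [[0, 0, 0, 0, 0, 0, 0], [0, 0, 0]]),
    (4651, 2, 336, [[0, 1, 1]], [[0, 0, 0], [0, 0]]),
    (4658, 4, 422, [[0, 1, 1, 1, 1]], [[0, 0, 0, 0, 0, 0, 0], [0, 0, 0, 0, 0, 0, 0, 0, 0]]),
    (4678, 1, 336, [[1]], [[0, 0], [0]]),
    (4685, 4, 423, [[0, 1, 1, 1]], [[0, 0, 0, 0, 0, 0, 0], [0, 0, 0, 0, 0, 0, 0, 0, 0, 0, 0, 0]]),
    (4705, 2, 337, [[1]], [[0, 0, 0], [0]]),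
    (4712, 4, 2479, [[0, 1, 1]], [[0, 0, 0, 0, 0, 0, 0], [0, 0, 0, 0]]),
    (4719, 7, 336, [[0, 1, 1, 1, 1, 1, 1, 1, 1, 1, 1, 1, 1]], [[0, 0, 0, 0, 0, 0, 0, 0, 0, 0, 0, 0, 0], [0, 0, 0, 0, 0, 0, 0, 0, 0, 0, 0, 0]]),
    (4739, 5, 3941, [[0, 1]], [[0, 0, 0, 0, 0, 0], [0, 0, 0, 0, 0, 0, 0]]),
    (4753, 4, 2536, [[0, 1]], [[0, 0, 0, 0, 0, 0, 0], [0, 0, 0, 0, 0, 0, 0, 0]]),
    (4767, 7, 329, [[1, 1, 1, 1, 1, 1, 1]], [[0, 0, 0, 0, 0, 0, 0, 0, 0, 0, 0, 0, 0], [0, 0, 0, 0, 0, 0, 0, 0, 0, 0, 0, 0, 0, 0, 0]]),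
    (4781, 2, 5184, [[0, 1, 1]], [[0, 0, 0], [0, 0]]),
    (4795, 1, 2437, [[1]], [[0, 0], [0]]),
    (4809, 2, 5199, [[1]], [[0, 0, 0], [0]]),
    (4810, 7, 330, [[0, 1, 1, 1, 1, 1, 1]], [[0, 0, 0, 0, 0, 0, 0, 0, 0, 0, 0, 0, 0], [0, 0, 0, 0, 0, 0, 0, 0, 0, 0, 0, 0, 0, 0, 0, 0, 0, 0, 0, 0, 0, 0, 0, 0]]),
    (4824, 4, 2643, [[0, 1, 1, 1, 1, 1, 1]], [[0, 0, 0, 0, 0, 0, 0], [0, 0, 0, 0, 0, 0, 0, 0, 0, 0, 0, 0, 0]]),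
    (4838, 5, 3974, [[0, 1, 1, 1, 1, 1]], [[0, 0, 0, 0, 0, 0], [0, 0, 0, 0, 0, 0, 0, 0, 0, 0, 0]]),
    (4852, 4, 718, [[0, 1, 1]], [[0, 0, 0, 0, 0, 0, 0], [0, 0, 0, 0, 0, 0, 0, 0, 0, 0, 0]]),
    (4866, 4, 2367, [[1, 1, 1]], [[0, 0, 0, 0, 0, 0, 0], [0, 0, 0, 0, 0]]),
    (4880, 4, 2507, [[0, 1, 1, 1, 1]], [[0, 0, 0, 0, 0, 0, 0], [0, 0]]),
    (4894, 4, 721, [[0, 1, 1, 1, 1, 1]], [[0, 0, 0, 0, 0, 0, 0], [0, 0, 0, 0, 0, 0, 0, 0, 0, 0]]),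
    (4908, 5, 721, [[1, 1, 1, 1, 1]], [[0, 0, 0, 0, 0, 0], [0, 0, 0, 0, 0]]),
    (4916, 5, 722, [[1]], [[0, 0, 0, 0, 0, 0], [0]]),
    (4937, 2, 721, [[0, 1, 1]], [[0, 0, 0], [0, 0]]),
    (4945, 4, 327, [[0, 1, 1, 1, 1]], [[0, 0, 0, 0, 0, 0, 0], [0, 0]]),
    (4953, 7, 328, [[0, 1, 1, 1, 1]], [[0, 0, 0, 0, 0, 0, 0, 0, 0, 0, 0, 0, 0], [0, 0, 0, 0, 0, 0, 0, 0, 0, 0]]),
    (4974, 4, 721, [[0, 1, 1, 1, 1, 1, 1]], [[0, 0, 0, 0, 0, 0, 0], [0, 0, 0, 0, 0, 0]]),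
    (4982, 4, 2581, [[0, 1, 1]], [[0, 0, 0, 0, 0, 0, 0], [0, 0, 0, 0, 0, 0, 0, 0, 0, 0, 0]]),
    (5003, 1, 721, [[1]], [[0, 0], [0]]),
    (5011, 4, 2673, [[0, 1, 1, 1, 1, 1]], [[0, 0, 0, 0, 0, 0, 0], [0, 0, 0, 0, 0, 0, 0, 0, 0, 0]]),
    (5019, 4, 725, [[1]], [[0, 0, 0, 0, 0, 0, 0], [0]]),
    (5040, 7, 336, [[1, 1, 1, 1, 1, 1, 1, 1, 1]], [[0, 0, 0, 0, 0, 0, 0, 0, 0, 0, 0, 0, 0], [0, 0, 0]]),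
    (5048, 4, 329, [[1, 1, 1]], [[0, 0, 0, 0, 0, 0, 0], [0, 0, 0, 0, 0]]),
    (5069, 2, 718, [[1]], [[0, 0, 0], [0]]),
    (5077, 5, 428, [[1, 1, 1, 1, 1]], [[0, 0, 0, 0, 0, 0], [0, 0, 0, 0, 0]]),
    (5092, 7, 333, [[0, 1, 1, 1, 1, 1, 1, 1, 1, 1, 1]], [[0, 0, 0, 0, 0, 0, 0, 0, 0, 0, 0, 0, 0], [0, 0, 0, 0, 0, 0, 0, 0, 0, 0, 0, 0, 0, 0, 0, 0, 0]]),
    (5107, 1, 428, [[1]], [[0, 0], [0]]),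
    (5109, 7, 327, [[0, 1, 1, 1]], [[0, 0, 0, 0, 0, 0, 0, 0, 0, 0, 0, 0, 0], [0, 0, 0, 0, 0, 0, 0, 0, 0, 0, 0, 0, 0, 0, 0, 0, 0, 0, 0, 0, 0, 0]]),
    (5124, 5, 417, [[1]], [[0, 0, 0, 0, 0, 0], [0]]),
    (5139, 4, 718, [[0, 1, 1, 1, 1]], [[0, 0, 0, 0, 0, 0, 0], [0, 0, 0, 0, 0, 0, 0, 0, 0]]),
    (5154, 4, 2753, [[0, 1, 1, 1, 1, 1]], [[0, 0, 0, 0, 0, 0, 0], [0, 0, 0, 0, 0, 0, 0, 0, 0, 0]]),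
    (5169, 4, 428, [[0, 1, 1, 1, 1, 1, 1]], [[0, 0, 0, 0, 0, 0, 0], [0, 0, 0, 0, 0, 0]]),
    (5184, 2, 428, [[0, 1, 1]], [[0, 0, 0], [0, 0]]),
    (5199, 2, 422, [[1]], [[0, 0, 0], [0]]),
    (5201, 4, 423, [[1]], [[0, 0, 0, 0, 0, 0, 0], [0]]),
    (5216, 4, 2721, [[0, 1, 1]], [[0, 0, 0, 0, 0, 0, 0], [0, 0, 0, 0, 0, 0, 0, 0, 0, 0, 0]]),
    (5231, 4, 725, [[0, 1, 1, 1]], [[0, 0, 0, 0, 0, 0, 0], [0, 0, 0, 0, 0, 0, 0, 0, 0, 0, 0, 0]]),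
    (5246, 5, 5637, [[1, 1, 1, 1, 1]], [[0, 0, 0, 0, 0, 0], [0, 0, 0, 0, 0]]),
    (5255, 4, 337, [[0, 1, 1]], [[0, 0, 0, 0, 0, 0, 0], [0, 0, 0, 0, 0, 0, 0, 0, 0, 0, 0]]),
    (5277, 2, 3022, [[0, 1, 1]], [[0, 0, 0], [0, 0, 0, 0, 0]]),
    (5286, 4, 2423, [[0, 1, 1, 1, 1, 1, 1]], [[0, 0, 0, 0, 0, 0, 0], [0, 0, 0, 0, 0, 0]]),
    (5295, 4, 2756, [[1, 1, 1]], [[0, 0, 0, 0, 0, 0, 0], [0, 0, 0, 0, 0]]),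
    (5304, 7, 329, [[0, 1, 1, 1, 1, 1]], [[0, 0, 0, 0, 0, 0, 0, 0, 0, 0, 0, 0, 0], [0, 0, 0, 0, 0, 0, 0, 0]]),
    (5326, 7, 326, [[0, 1, 1, 1, 1, 1, 1, 1, 1]], [[0, 0, 0, 0, 0, 0, 0, 0, 0, 0, 0, 0, 0], [0, 0, 0, 0, 0]]),
    (5335, 4, 2820, [[0, 1, 1, 1, 1]], [[0, 0, 0, 0, 0, 0, 0], [0, 0]])]

/-- Steps from class 9, part. -/
def step9_5 : List (Nat × Nat × Nat × List (List Nat) × List (List Nat)) :=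
  [(5344, 4, 2395, [[1]], [[0, 0, 0, 0, 0, 0, 0], [0]]),
    (5366, 2, 2912, [[0, 1]], [[0, 0, 0], [0, 0, 0, 0]]),
    (5375, 4, 336, [[0, 1, 1, 1, 1, 1]], [[0, 0, 0, 0, 0, 0, 0], [0, 0, 0, 0, 0, 0, 0, 0, 0, 0]]),
    (5384, 5, 5627, [[1]], [[0, 0, 0, 0, 0, 0], [0]]),
    (5406, 1, 2628, [[1]], [[0, 0], [0]]),
    (5415, 5, 2381, [[1, 1, 1, 1, 1]], [[0, 0, 0, 0, 0, 0], [0, 0, 0, 0, 0]]),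
    (5431, 2, 2536, [[0, 1]], [[0, 0, 0], [0, 0, 0, 0]]),
    (5434, 7, 326, [[0, 1, 1]], [[0, 0, 0, 0, 0, 0, 0, 0, 0, 0, 0, 0, 0], [0, 0, 0, 0, 0, 0, 0, 0, 0, 0, 0, 0, 0, 0, 0, 0, 0, 0, 0, 0]]),
    (5450, 4, 418, [[1, 1, 1, 1, 1]], [[0, 0, 0, 0, 0, 0, 0], [0, 0, 0]]),
    (5466, 4, 425, [[0, 1, 1]], [[0, 0, 0, 0, 0, 0, 0], [0, 0, 0, 0]]),
    (5482, 7, 330, [[1, 1, 1, 1, 1, 1, 1, 1, 1, 1, 1]], [[0, 0, 0, 0, 0, 0, 0, 0, 0, 0, 0, 0, 0], [0, 0, 0, 0, 0, 0, 0, 0, 0, 0, 0, 0, 0, 0, 0, 0, 0, 0, 0]]),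
    (5498, 2, 2688, [[0, 1, 1]], [[0, 0, 0], [0, 0, 0, 0, 0]]),
    (5501, 5, 2451, [[1]], [[0, 0, 0, 0, 0, 0], [0]]),
    (5517, 4, 2566, [[0, 1, 1, 1]], [[0, 0, 0, 0, 0, 0, 0], [0, 0, 0, 0, 0, 0, 0, 0, 0, 0, 0, 0]]),
    (5533, 4, 2753, [[0, 1, 1, 1, 1, 1, 1]], [[0, 0, 0, 0, 0, 0, 0], [0, 0, 0, 0, 0, 0]]),
    (5549, 1, 5077, [[0, 1]], [[0, 0], [0, 0, 0]]),
    (5552, 4, 2839, [[1]], [[0, 0, 0, 0, 0, 0, 0], [0]]),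
    (5568, 4, 2581, [[0, 1, 1, 1, 1]], [[0, 0, 0, 0, 0, 0, 0], [0, 0, 0, 0, 0, 0, 0, 0, 0]]),
    (5584, 5, 2521, [[0, 1]], [[0, 0, 0, 0, 0, 0], [0, 0, 0, 0, 0, 0, 0]]),
    (5594, 4, 2628, [[1, 1, 1]], [[0, 0, 0, 0, 0, 0, 0], [0, 0, 0, 0, 0]]),
    (5604, 4, 2820, [[0, 1, 1, 1, 1, 1, 1]], [[0, 0, 0, 0, 0, 0, 0], [0, 0, 0, 0, 0, 0, 0, 0, 0, 0, 0, 0, 0]]),
    (5627, 1, 5201, [[1]], [[0, 0], [0]]),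
    (5637, 4, 2737, [[0, 1]], [[0, 0, 0, 0, 0, 0, 0], [0, 0, 0, 0, 0, 0, 0, 0]]),
    (5647, 4, 2643, [[0, 1, 1, 1, 1]], [[0, 0, 0, 0, 0, 0, 0], [0, 0]]),
    (5657, 5, 2451, [[0, 1, 1, 1, 1, 1]], [[0, 0, 0, 0, 0, 0], [0, 0, 0, 0, 0, 0, 0, 0, 0, 0, 0]]),
    (5680, 2, 2611, [[1]], [[0, 0, 0], [0]]),
    (5690, 7, 331, [[0, 1, 1]], [[0, 0, 0, 0, 0, 0, 0, 0, 0, 0, 0, 0, 0], [0, 0, 0, 0, 0, 0, 0]]),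
    (5700, 4, 428, [[0, 1, 1, 1, 1, 1]], [[0, 0, 0, 0, 0, 0, 0], [0, 0, 0, 0, 0, 0, 0, 0, 0, 0]]),
    (5710, 4, 422, [[0, 1, 1]], [[0, 0, 0, 0, 0, 0, 0], [0, 0, 0, 0, 0, 0, 0, 0, 0, 0, 0]]),
    (5720, 7, 335, [[0, 1, 1, 1, 1, 1, 1, 1, 1, 1, 1, 1]], [[0, 0, 0, 0, 0, 0, 0, 0, 0, 0, 0, 0, 0], [0, 0, 0, 0, 0, 0]]),
    (5743, 2, 2581, [[0, 1, 1]], [[0, 0, 0], [0, 0]]),
    (5753, 5, 5604, [[0, 1]], [[0, 0, 0, 0, 0, 0], [0, 0, 0, 0, 0, 0, 0]]),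
    (5770, 1, 2536, [[0, 1]], [[0, 0], [0, 0, 0]]),
    (5774, 5, 5627, [[0, 1, 1, 1, 1, 1]], [[0, 0, 0, 0, 0, 0], [0, 0, 0, 0, 0, 0, 0, 0, 0, 0, 0]]),
    (5791, 4, 330, [[0, 1, 1]], [[0, 0, 0, 0, 0, 0, 0], [0, 0, 0, 0]]),
    (5808, 2, 2929, [[0, 1, 1]], [[0, 0, 0], [0, 0]]),
    (5812, 4, 2507, [[0, 1, 1, 1, 1, 1, 1]], [[0, 0, 0, 0, 0, 0, 0], [0, 0, 0, 0, 0, 0, 0, 0, 0, 0, 0, 0, 0]]),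
    (5829, 4, 2839, [[0, 1, 1, 1]], [[0, 0, 0, 0, 0, 0, 0], [0, 0, 0, 0, 0, 0, 0, 0, 0, 0, 0, 0]]),
    (5846, 7, 335, [[1, 1, 1, 1, 1]], [[0, 0, 0, 0, 0, 0, 0, 0, 0, 0, 0, 0, 0], [0, 0, 0, 0, 0, 0, 0, 0, 0, 0, 0, 0, 0, 0, 0, 0, 0, 0, 0, 0, 0]]),
    (5850, 7, 332, [[0, 1, 1, 1, 1, 1, 1, 1, 1]], [[0, 0, 0, 0, 0, 0, 0, 0, 0, 0, 0, 0, 0], [0, 0, 0, 0, 0, 0, 0, 0, 0, 0, 0, 0, 0, 0, 0, 0, 0, 0]]),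
    (5867, 4, 2721, [[0, 1, 1, 1, 1]], [[0, 0, 0, 0, 0, 0, 0], [0, 0, 0, 0, 0, 0, 0, 0, 0]]),
    (5884, 4, 2479, [[0, 1]], [[0, 0, 0, 0, 0, 0, 0], [0, 0, 0, 0, 0, 0, 0, 0]]),
    (5901, 2, 3001, [[1]], [[0, 0, 0], [0]]),
    (5905, 4, 329, [[1, 1, 1, 1, 1]], [[0, 0, 0, 0, 0, 0, 0], [0, 0, 0]]),
    (5922, 5, 419, [[0, 1]], [[0, 0, 0, 0, 0, 0], [0, 0, 0, 0, 0, 0, 0]]),
    (5933, 4, 722, [[0, 1, 1, 1, 1]], [[0, 0, 0, 0, 0, 0, 0], [0, 0]]),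
    (5944, 4, 2756, [[1, 1, 1, 1, 1]], [[0, 0, 0, 0, 0, 0, 0], [0, 0, 0]]),
    (5955, 4, 417, [[0, 1, 1, 1, 1, 1, 1]], [[0, 0, 0, 0, 0, 0, 0], [0, 0, 0, 0, 0, 0, 0, 0, 0, 0, 0, 0, 0]]),
    (5979, 2, 417, [[0, 1, 1]], [[0, 0, 0], [0, 0, 0, 0, 0]]),
    (5990, 2, 424, [[0, 1]], [[0, 0, 0], [0, 0, 0, 0]]),
    (6001, 4, 425, [[0, 1]], [[0, 0, 0, 0, 0, 0, 0], [0, 0, 0, 0, 0, 0, 0, 0]]),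
    (6012, 4, 2737, [[0, 1, 1]], [[0, 0, 0, 0, 0, 0, 0], [0, 0, 0, 0]]),
    (6023, 4, 716, [[1, 1, 1]], [[0, 0, 0, 0, 0, 0, 0], [0, 0, 0, 0, 0]]),
    (6034, 5, 417, [[0, 1, 1, 1, 1, 1]], [[0, 0, 0, 0, 0, 0], [0, 0, 0, 0, 0, 0, 0, 0, 0, 0, 0]]),
    (6045, 7, 334, [[0, 1, 1, 1, 1, 1, 1, 1, 1, 1, 1]], [[0, 0, 0, 0, 0, 0, 0, 0, 0, 0, 0, 0, 0], [0, 0, 0, 0]]),
    (6069, 1, 417, [[0, 1]], [[0, 0], [0, 0, 0]]),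
    (6080, 7, 328, [[1, 1, 1]], [[0, 0, 0, 0, 0, 0, 0, 0, 0, 0, 0, 0, 0], [0, 0, 0, 0, 0, 0, 0, 0, 0]]),
    (6091, 5, 723, [[0, 1]], [[0, 0, 0, 0, 0, 0], [0, 0, 0, 0, 0, 0, 0]]),
    (6109, 2, 722, [[0, 1, 1]], [[0, 0, 0], [0, 0, 0, 0, 0]]),
    (6114, 4, 337, [[0, 1, 1, 1, 1]], [[0, 0, 0, 0, 0, 0, 0], [0, 0, 0, 0, 0, 0, 0, 0, 0]]),
    (6132, 7, 325, [[0, 1, 1, 1, 1]], [[0, 0, 0, 0, 0, 0, 0, 0, 0, 0, 0, 0, 0], [0, 0, 0, 0, 0, 0, 0, 0, 0, 0, 0, 0, 0, 0, 0, 0, 0, 0, 0, 0, 0, 0, 0]]),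
    (6137, 4, 722, [[0, 1, 1, 1, 1, 1, 1]], [[0, 0, 0, 0, 0, 0, 0], [0, 0, 0, 0, 0, 0, 0, 0, 0, 0, 0, 0, 0]]),
    (6155, 4, 2536, [[0, 1, 1]], [[0, 0, 0, 0, 0, 0, 0], [0, 0, 0, 0]]),
    (6173, 1, 722, [[0, 1]], [[0, 0], [0, 0, 0]])]

/-- Steps from class 9, part. -/
def step9_6 : List (Nat × Nat × Nat × List (List Nat) × List (List Nat)) :=
  [(6178, 4, 2628, [[1, 1, 1, 1, 1]], [[0, 0, 0, 0, 0, 0, 0], [0, 0, 0]]),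
    (6196, 4, 726, [[0, 1]], [[0, 0, 0, 0, 0, 0, 0], [0, 0, 0, 0, 0, 0, 0, 0]]),
    (6201, 7, 333, [[0, 1, 1, 1, 1, 1, 1, 1, 1, 1]], [[0, 0, 0, 0, 0, 0, 0, 0, 0, 0, 0, 0, 0], [0, 0, 0, 0, 0, 0, 0, 0, 0, 0, 0, 0, 0, 0, 0, 0]]),
    (6219, 4, 326, [[0, 1, 1, 1]], [[0, 0, 0, 0, 0, 0, 0], [0, 0, 0, 0, 0, 0, 0, 0, 0, 0, 0, 0]]),
    (6237, 2, 719, [[0, 1]], [[0, 0, 0], [0, 0, 0, 0]]),
    (6242, 5, 722, [[0, 1, 1, 1, 1, 1]], [[0, 0, 0, 0, 0, 0], [0, 0, 0, 0, 0, 0, 0, 0, 0, 0, 0]]),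
    (6260, 5, 3994, [[1, 1, 1, 1, 1]], [[0, 0, 0, 0, 0, 0], [0, 0, 0, 0, 0]]),
    (6272, 4, 726, [[0, 1, 1]], [[0, 0, 0, 0, 0, 0, 0], [0, 0, 0, 0]]),
    (6284, 4, 2395, [[0, 1, 1, 1]], [[0, 0, 0, 0, 0, 0, 0], [0, 0, 0, 0, 0, 0, 0, 0, 0, 0, 0, 0]]),
    (6296, 4, 2522, [[0, 1, 1, 1, 1]], [[0, 0, 0, 0, 0, 0, 0], [0, 0, 0, 0, 0, 0, 0, 0, 0]]),
    (6308, 4, 716, [[1, 1, 1, 1, 1]], [[0, 0, 0, 0, 0, 0, 0], [0, 0, 0]]),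
    (6320, 5, 3974, [[1]], [[0, 0, 0, 0, 0, 0], [0]]),
    (6332, 4, 2566, [[1]], [[0, 0, 0, 0, 0, 0, 0], [0]]),
    (6344, 7, 331, [[0, 1, 1, 1, 1, 1, 1, 1]], [[0, 0, 0, 0, 0, 0, 0, 0, 0, 0, 0, 0, 0], [0, 0]]),
    (6369, 2, 5231, [[0, 1, 1]], [[0, 0, 0], [0, 0, 0, 0, 0]]),
    (6381, 1, 2465, [[0, 1]], [[0, 0], [0, 0, 0]]),
    (6393, 2, 5077, [[0, 1]], [[0, 0, 0], [0, 0, 0, 0]]),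
    (6405, 7, 332, [[0, 1, 1, 1, 1, 1, 1]], [[0, 0, 0, 0, 0, 0, 0, 0, 0, 0, 0, 0, 0], [0, 0, 0, 0, 0, 0, 0, 0, 0, 0, 0]]),
    (6417, 4, 2673, [[0, 1, 1, 1, 1, 1, 1]], [[0, 0, 0, 0, 0, 0, 0], [0, 0, 0, 0, 0, 0]]),
    (6429, 5, 331, [[0, 1]], [[0, 0, 0, 0, 0, 0], [0, 0, 0, 0, 0, 0, 0]]),
    (6435, 7, 325, [[0, 1]], [[0, 0, 0, 0, 0, 0, 0, 0, 0, 0, 0, 0, 0], [0, 0, 0, 0, 0, 0, 0, 0, 0, 0, 0, 0, 0, 0]]),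
    (6454, 4, 2423, [[0, 1, 1, 1, 1, 1]], [[0, 0, 0, 0, 0, 0, 0], [0, 0, 0, 0, 0, 0, 0, 0, 0, 0]]),
    (6473, 2, 327, [[0, 1, 1]], [[0, 0, 0], [0, 0, 0, 0, 0]]),
    (6479, 4, 417, [[0, 1, 1, 1, 1]], [[0, 0, 0, 0, 0, 0, 0], [0, 0]]),
    (6498, 1, 327, [[0, 1]], [[0, 0], [0, 0, 0]]),
    (6504, 4, 418, [[1, 1, 1]], [[0, 0, 0, 0, 0, 0, 0], [0, 0, 0, 0, 0]]),
    (6523, 2, 328, [[0, 1]], [[0, 0, 0], [0, 0, 0, 0]]),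
    (6529, 4, 2522, [[0, 1, 1]], [[0, 0, 0, 0, 0, 0, 0], [0, 0, 0, 0, 0, 0, 0, 0, 0, 0, 0]]),
    (6548, 7, 327, [[0, 1, 1, 1, 1, 1, 1, 1, 1, 1, 1, 1, 1]], [[0, 0, 0, 0, 0, 0, 0, 0, 0, 0, 0, 0, 0], [0, 0, 0, 0, 0, 0, 0, 0, 0, 0, 0, 0, 0, 0, 0, 0, 0, 0, 0, 0, 0, 0, 0, 0, 0]]),
    (6554, 5, 327, [[0, 1, 1, 1, 1, 1]], [[0, 0, 0, 0, 0, 0], [0, 0, 0, 0, 0, 0, 0, 0, 0, 0, 0]]),
    (6573, 4, 330, [[0, 1]], [[0, 0, 0, 0, 0, 0, 0], [0, 0, 0, 0, 0, 0, 0, 0]]),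
    (6579, 4, 327, [[0, 1, 1, 1, 1, 1, 1]], [[0, 0, 0, 0, 0, 0, 0], [0, 0, 0, 0, 0, 0, 0, 0, 0, 0, 0, 0, 0]]),
    (6600, 2, 2855, [[0, 1]], [[0, 0, 0], [0, 0, 0, 0]]),
    (6613, 2, 2705, [[0, 1]], [[0, 0, 0], [0, 0, 0, 0]]),
    (6626, 2, 2737, [[0, 1]], [[0, 0, 0], [0, 0, 0, 0]]),
    (6639, 2, 2756, [[0, 1]], [[0, 0, 0], [0, 0, 0, 0]]),
    (6652, 2, 2788, [[0, 1]], [[0, 0, 0], [0, 0, 0, 0]]),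
    (6665, 2, 2820, [[0, 1]], [[0, 0, 0], [0, 0, 0, 0]]),
    (6678, 2, 2839, [[0, 1]], [[0, 0, 0], [0, 0, 0, 0]]),
    (6691, 2, 2871, [[0, 1]], [[0, 0, 0], [0, 0, 0, 0]]),
    (6704, 2, 2721, [[0, 1]], [[0, 0, 0], [0, 0, 0, 0]]),
    (6717, 2, 2753, [[0, 1]], [[0, 0, 0], [0, 0, 0, 0]]),
    (6730, 2, 2772, [[0, 1]], [[0, 0, 0], [0, 0, 0, 0]]),
    (6743, 2, 2804, [[0, 1]], [[0, 0, 0], [0, 0, 0, 0]]),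
    (6756, 2, 2823, [[0, 1]], [[0, 0, 0], [0, 0, 0, 0]]),
    (6769, 2, 335, [[0, 1, 1]], [[0, 0, 0], [0, 0]]),
    (6778, 4, 2465, [[0, 1, 1]], [[0, 0, 0, 0, 0, 0, 0], [0, 0, 0, 0]]),
    (6787, 5, 326, [[1]], [[0, 0, 0, 0, 0, 0], [0]]),
    (6809, 1, 335, [[1]], [[0, 0], [0]]),
    (6818, 5, 335, [[1, 1, 1, 1, 1]], [[0, 0, 0, 0, 0, 0], [0, 0, 0, 0, 0]]),
    (6827, 4, 2522, [[1, 1, 1, 1, 1]], [[0, 0, 0, 0, 0, 0, 0], [0, 0, 0]]),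
    (6849, 2, 336, [[1]], [[0, 0, 0], [0]]),
    (6858, 4, 335, [[0, 1, 1, 1, 1, 1, 1]], [[0, 0, 0, 0, 0, 0, 0], [0, 0, 0, 0, 0, 0]]),
    (6867, 4, 420, [[0, 1, 1, 1, 1]], [[0, 0, 0, 0, 0, 0, 0], [0, 0, 0, 0, 0, 0, 0, 0, 0]]),
    (6889, 7, 335, [[0, 1, 1, 1, 1, 1, 1, 1, 1, 1, 1, 1, 1]], [[0, 0, 0, 0, 0, 0, 0, 0, 0, 0, 0, 0, 0], [0, 0, 0, 0, 0, 0, 0, 0, 0, 0, 0, 0]]),
    (6898, 7, 333, [[1]], [[0, 0, 0, 0, 0, 0, 0, 0, 0, 0, 0, 0, 0], [0]]),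
    (6907, 4, 421, [[0, 1, 1, 1]], [[0, 0, 0, 0, 0, 0, 0], [0, 0, 0, 0, 0, 0, 0, 0, 0, 0, 0, 0]]),
    (6916, 4, 325, [[1]], [[0, 0, 0, 0, 0, 0, 0], [0]]),
    (6938, 2, 5169, [[0, 1, 1]], [[0, 0, 0], [0, 0]]),
    (6943, 5, 4047, [[0, 1, 1, 1, 1, 1]], [[0, 0, 0, 0, 0, 0], [0, 0, 0, 0, 0, 0, 0, 0, 0, 0, 0]]),
    (6961, 5, 4027, [[0, 1]], [[0, 0, 0, 0, 0, 0], [0, 0, 0, 0, 0, 0, 0]]),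
    (6979, 2, 5184, [[1]], [[0, 0, 0], [0]]),
    (6984, 4, 2451, [[1, 1, 1]], [[0, 0, 0, 0, 0, 0, 0], [0, 0, 0, 0, 0]]),
    (7002, 7, 335, [[1, 1, 1, 1, 1, 1, 1]], [[0, 0, 0, 0, 0, 0, 0, 0, 0, 0, 0, 0, 0], [0, 0, 0, 0, 0, 0, 0, 0, 0, 0, 0, 0, 0, 0, 0]])]

/-- Steps from class 9, part. -/
def step9_7 : List (Nat × Nat × Nat × List (List Nat) × List (List Nat)) :=
  [(7007, 4, 2551, [[0, 1, 1, 1, 1, 1, 1]], [[0, 0, 0, 0, 0, 0, 0], [0, 0, 0, 0, 0, 0, 0, 0, 0, 0, 0, 0, 0]]),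
    (7025, 4, 719, [[0, 1, 1, 1, 1, 1]], [[0, 0, 0, 0, 0, 0, 0], [0, 0, 0, 0, 0, 0, 0, 0, 0, 0]]),
    (7043, 1, 2521, [[1]], [[0, 0], [0]]),
    (7048, 4, 716, [[0, 1, 1]], [[0, 0, 0, 0, 0, 0, 0], [0, 0, 0, 0, 0, 0, 0, 0, 0, 0, 0]]),
    (7066, 4, 2613, [[0, 1]], [[0, 0, 0, 0, 0, 0, 0], [0, 0, 0, 0, 0, 0, 0, 0]]),
    (7084, 7, 336, [[0, 1, 1, 1, 1, 1, 1]], [[0, 0, 0, 0, 0, 0, 0, 0, 0, 0, 0, 0, 0], [0, 0, 0, 0, 0, 0, 0, 0, 0, 0, 0, 0, 0, 0, 0, 0, 0, 0, 0, 0, 0, 0, 0, 0]]),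
    (7089, 4, 2409, [[0, 1, 1, 1, 1]], [[0, 0, 0, 0, 0, 0, 0], [0, 0]]),
    (7107, 2, 724, [[0, 1, 1]], [[0, 0, 0], [0, 0]]),
    (7121, 1, 724, [[1]], [[0, 0], [0]]),
    (7135, 2, 721, [[1]], [[0, 0, 0], [0]]),
    (7149, 7, 332, [[0, 1, 1, 1, 1]], [[0, 0, 0, 0, 0, 0, 0, 0, 0, 0, 0, 0, 0], [0, 0, 0, 0, 0, 0, 0, 0, 0, 0]]),
    (7150, 4, 715, [[1]], [[0, 0, 0, 0, 0, 0, 0], [0]]),
    (7164, 5, 725, [[1]], [[0, 0, 0, 0, 0, 0], [0]]),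
    (7178, 4, 2628, [[0, 1, 1]], [[0, 0, 0, 0, 0, 0, 0], [0, 0, 0, 0, 0, 0, 0, 0, 0, 0, 0]]),
    (7192, 4, 333, [[1, 1, 1]], [[0, 0, 0, 0, 0, 0, 0], [0, 0, 0, 0, 0]]),
    (7206, 4, 331, [[0, 1, 1, 1, 1]], [[0, 0, 0, 0, 0, 0, 0], [0, 0]]),
    (7220, 4, 2551, [[0, 1, 1, 1, 1, 1]], [[0, 0, 0, 0, 0, 0, 0], [0, 0, 0, 0, 0, 0, 0, 0, 0, 0]]),
    (7234, 5, 724, [[1, 1, 1, 1, 1]], [[0, 0, 0, 0, 0, 0], [0, 0, 0, 0, 0]]),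
    (7248, 4, 724, [[0, 1, 1, 1, 1, 1, 1]], [[0, 0, 0, 0, 0, 0, 0], [0, 0, 0, 0, 0, 0]]),
    (7262, 7, 327, [[1, 1, 1, 1, 1, 1, 1, 1, 1]], [[0, 0, 0, 0, 0, 0, 0, 0, 0, 0, 0, 0, 0], [0, 0, 0]]),
    (7276, 2, 421, [[0, 1, 1]], [[0, 0, 0], [0, 0]]),
    (7286, 5, 421, [[1, 1, 1, 1, 1]], [[0, 0, 0, 0, 0, 0], [0, 0, 0, 0, 0]]),
    (7296, 4, 717, [[0, 1, 1, 1, 1]], [[0, 0, 0, 0, 0, 0, 0], [0, 0, 0, 0, 0, 0, 0, 0, 0]]),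
    (7306, 4, 416, [[1]], [[0, 0, 0, 0, 0, 0, 0], [0]]),
    (7329, 1, 421, [[1]], [[0, 0], [0]]),
    (7339, 4, 421, [[0, 1, 1, 1, 1, 1, 1]], [[0, 0, 0, 0, 0, 0, 0], [0, 0, 0, 0, 0, 0]]),
    (7349, 4, 724, [[0, 1, 1, 1]], [[0, 0, 0, 0, 0, 0, 0], [0, 0, 0, 0, 0, 0, 0, 0, 0, 0, 0, 0]]),
    (7359, 5, 423, [[1]], [[0, 0, 0, 0, 0, 0], [0]]),
    (7382, 2, 428, [[1]], [[0, 0, 0], [0]]),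
    (7392, 7, 336, [[0, 1, 1, 1, 1, 1, 1, 1, 1, 1, 1]], [[0, 0, 0, 0, 0, 0, 0, 0, 0, 0, 0, 0, 0], [0, 0, 0, 0, 0, 0, 0, 0, 0, 0, 0, 0, 0, 0, 0, 0, 0]]),
    (7402, 4, 2788, [[0, 1, 1, 1, 1, 1]], [[0, 0, 0, 0, 0, 0, 0], [0, 0, 0, 0, 0, 0, 0, 0, 0, 0]]),
    (7412, 4, 2756, [[0, 1, 1]], [[0, 0, 0, 0, 0, 0, 0], [0, 0, 0, 0, 0, 0, 0, 0, 0, 0, 0]]),
    (7435, 7, 330, [[0, 1, 1, 1]], [[0, 0, 0, 0, 0, 0, 0, 0, 0, 0, 0, 0, 0], [0, 0, 0, 0, 0, 0, 0, 0, 0, 0, 0, 0, 0, 0, 0, 0, 0, 0, 0, 0, 0, 0]]),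
    (7445, 2, 2984, [[0, 1]], [[0, 0, 0], [0, 0, 0, 0]]),
    (7451, 4, 329, [[0, 1, 1]], [[0, 0, 0, 0, 0, 0, 0], [0, 0, 0, 0, 0, 0, 0, 0, 0, 0, 0]]),
    (7470, 7, 331, [[0, 1, 1, 1, 1, 1, 1, 1, 1]], [[0, 0, 0, 0, 0, 0, 0, 0, 0, 0, 0, 0, 0], [0, 0, 0, 0, 0]]),
    (7476, 5, 5584, [[1]], [[0, 0, 0, 0, 0, 0], [0]]),
    (7495, 4, 2493, [[0, 1, 1, 1, 1, 1, 1]], [[0, 0, 0, 0, 0, 0, 0], [0, 0, 0, 0, 0, 0]]),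
    (7501, 4, 2465, [[1]], [[0, 0, 0, 0, 0, 0, 0], [0]]),
    (7520, 5, 5594, [[1, 1, 1, 1, 1]], [[0, 0, 0, 0, 0, 0], [0, 0, 0, 0, 0]]),
    (7539, 7, 334, [[0, 1, 1, 1, 1, 1]], [[0, 0, 0, 0, 0, 0, 0, 0, 0, 0, 0, 0, 0], [0, 0, 0, 0, 0, 0, 0, 0]]),
    (7545, 4, 328, [[0, 1, 1, 1, 1, 1]], [[0, 0, 0, 0, 0, 0, 0], [0, 0, 0, 0, 0, 0, 0, 0, 0, 0]]),
    (7564, 2, 2912, [[0, 1, 1]], [[0, 0, 0], [0, 0, 0, 0, 0]]),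
    (7570, 4, 2705, [[0, 1, 1, 1, 1]], [[0, 0, 0, 0, 0, 0, 0], [0, 0]]),
    (7589, 1, 2703, [[1]], [[0, 0], [0]]),
    (7595, 4, 2823, [[1, 1, 1]], [[0, 0, 0, 0, 0, 0, 0], [0, 0, 0, 0, 0]]),
    (7614, 2, 2566, [[0, 1]], [[0, 0, 0], [0, 0, 0, 0]]),
    (7629, 2, 2536, [[0, 1, 1]], [[0, 0, 0], [0, 0, 0, 0, 0]]),
    (7631, 4, 2871, [[1]], [[0, 0, 0, 0, 0, 0, 0], [0]]),
    (7646, 4, 422, [[1, 1, 1, 1, 1]], [[0, 0, 0, 0, 0, 0, 0], [0, 0, 0]]),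
    (7661, 4, 2596, [[0, 1, 1, 1]], [[0, 0, 0, 0, 0, 0, 0], [0, 0, 0, 0, 0, 0, 0, 0, 0, 0, 0, 0]]),
    (7676, 5, 2409, [[1, 1, 1, 1, 1]], [[0, 0, 0, 0, 0, 0], [0, 0, 0, 0, 0]]),
    (7691, 7, 332, [[1, 1, 1, 1, 1, 1, 1, 1, 1, 1, 1]], [[0, 0, 0, 0, 0, 0, 0, 0, 0, 0, 0, 0, 0], [0, 0, 0, 0, 0, 0, 0, 0, 0, 0, 0, 0, 0, 0, 0, 0, 0, 0, 0]]),
    (7706, 1, 5124, [[0, 1]], [[0, 0], [0, 0, 0]]),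
    (7721, 7, 328, [[0, 1, 1]], [[0, 0, 0, 0, 0, 0, 0, 0, 0, 0, 0, 0, 0], [0, 0, 0, 0, 0, 0, 0, 0, 0, 0, 0, 0, 0, 0, 0, 0, 0, 0, 0, 0]]),
    (7723, 5, 2479, [[1]], [[0, 0, 0, 0, 0, 0], [0]]),
    (7738, 4, 2611, [[0, 1, 1, 1, 1]], [[0, 0, 0, 0, 0, 0, 0], [0, 0, 0, 0, 0, 0, 0, 0, 0]]),
    (7753, 4, 416, [[0, 1, 1]], [[0, 0, 0, 0, 0, 0, 0], [0, 0, 0, 0]]),
    (7768, 4, 2772, [[0, 1, 1, 1, 1, 1, 1]], [[0, 0, 0, 0, 0, 0, 0], [0, 0, 0, 0, 0, 0]]),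
    (7783, 2, 2551, [[0, 1, 1]], [[0, 0, 0], [0, 0]]),
    (7794, 4, 2705, [[0, 1]], [[0, 0, 0, 0, 0, 0, 0], [0, 0, 0, 0, 0, 0, 0, 0]]),
    (7805, 4, 424, [[0, 1, 1, 1, 1, 1]], [[0, 0, 0, 0, 0, 0, 0], [0, 0, 0, 0, 0, 0, 0, 0, 0, 0]]),
    (7816, 4, 2611, [[1, 1, 1]], [[0, 0, 0, 0, 0, 0, 0], [0, 0, 0, 0, 0]]),
    (7827, 5, 2423, [[0, 1, 1, 1, 1, 1]], [[0, 0, 0, 0, 0, 0], [0, 0, 0, 0, 0, 0, 0, 0, 0, 0, 0]])]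

/-- Steps from class 9, part. -/
def step9_8 : List (Nat × Nat × Nat × List (List Nat) × List (List Nat)) :=
  [(7851, 7, 333, [[0, 1, 1, 1, 1, 1, 1, 1, 1, 1, 1, 1]], [[0, 0, 0, 0, 0, 0, 0, 0, 0, 0, 0, 0, 0], [0, 0, 0, 0, 0, 0]]),
    (7862, 1, 5154, [[1]], [[0, 0], [0]]),
    (7873, 7, 329, [[0, 1, 1]], [[0, 0, 0, 0, 0, 0, 0, 0, 0, 0, 0, 0, 0], [0, 0, 0, 0, 0, 0, 0]]),
    (7884, 5, 2493, [[0, 1]], [[0, 0, 0, 0, 0, 0], [0, 0, 0, 0, 0, 0, 0]]),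
    (7895, 4, 2613, [[0, 1, 1, 1, 1]], [[0, 0, 0, 0, 0, 0, 0], [0, 0]]),
    (7906, 4, 418, [[0, 1, 1]], [[0, 0, 0, 0, 0, 0, 0], [0, 0, 0, 0, 0, 0, 0, 0, 0, 0, 0]]),
    (7917, 4, 2788, [[0, 1, 1, 1, 1, 1, 1]], [[0, 0, 0, 0, 0, 0, 0], [0, 0, 0, 0, 0, 0, 0, 0, 0, 0, 0, 0, 0]]),
    (7941, 2, 2581, [[1]], [[0, 0, 0], [0]]),
    (7952, 2, 3039, [[0, 1, 1]], [[0, 0, 0], [0, 0]]),
    (7959, 4, 2823, [[0, 1, 1, 1, 1]], [[0, 0, 0, 0, 0, 0, 0], [0, 0, 0, 0, 0, 0, 0, 0, 0]]),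
    (7979, 1, 2643, [[0, 1]], [[0, 0], [0, 0, 0]]),
    (7986, 4, 2772, [[0, 1, 1, 1]], [[0, 0, 0, 0, 0, 0, 0], [0, 0, 0, 0, 0, 0, 0, 0, 0, 0, 0, 0]]),
    (8006, 2, 2929, [[1]], [[0, 0, 0], [0]]),
    (8013, 4, 325, [[0, 1, 1]], [[0, 0, 0, 0, 0, 0, 0], [0, 0, 0, 0]]),
    (8033, 7, 327, [[0, 1, 1, 1, 1, 1, 1, 1, 1]], [[0, 0, 0, 0, 0, 0, 0, 0, 0, 0, 0, 0, 0], [0, 0, 0, 0, 0, 0, 0, 0, 0, 0, 0, 0, 0, 0, 0, 0, 0, 0]]),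
    (8040, 5, 5647, [[0, 1]], [[0, 0, 0, 0, 0, 0], [0, 0, 0, 0, 0, 0, 0]]),
    (8047, 4, 2437, [[0, 1, 1, 1, 1, 1, 1]], [[0, 0, 0, 0, 0, 0, 0], [0, 0, 0, 0, 0, 0, 0, 0, 0, 0, 0, 0, 0]]),
    (8067, 4, 2409, [[0, 1]], [[0, 0, 0, 0, 0, 0, 0], [0, 0, 0, 0, 0, 0, 0, 0]]),
    (8074, 5, 5657, [[0, 1, 1, 1, 1, 1]], [[0, 0, 0, 0, 0, 0], [0, 0, 0, 0, 0, 0, 0, 0, 0, 0, 0]]),
    (8094, 7, 330, [[1, 1, 1, 1, 1]], [[0, 0, 0, 0, 0, 0, 0, 0, 0, 0, 0, 0, 0], [0, 0, 0, 0, 0, 0, 0, 0, 0, 0, 0, 0, 0, 0, 0, 0, 0, 0, 0, 0, 0]]),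
    (8101, 4, 337, [[1, 1, 1, 1, 1]], [[0, 0, 0, 0, 0, 0, 0], [0, 0, 0]]),
    (8121, 2, 418, [[0, 1]], [[0, 0, 0], [0, 0, 0, 0]]),
    (8137, 7, 331, [[0, 1, 1, 1, 1, 1, 1, 1, 1, 1, 1]], [[0, 0, 0, 0, 0, 0, 0, 0, 0, 0, 0, 0, 0], [0, 0, 0, 0]]),
    (8140, 4, 2721, [[1, 1, 1, 1, 1]], [[0, 0, 0, 0, 0, 0, 0], [0, 0, 0]]),
    (8156, 4, 2871, [[0, 1, 1]], [[0, 0, 0, 0, 0, 0, 0], [0, 0, 0, 0]]),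
    (8172, 7, 325, [[1, 1, 1]], [[0, 0, 0, 0, 0, 0, 0, 0, 0, 0, 0, 0, 0], [0, 0, 0, 0, 0, 0, 0, 0, 0]]),
    (8188, 2, 424, [[0, 1, 1]], [[0, 0, 0], [0, 0, 0, 0, 0]]),
    (8191, 5, 424, [[0, 1, 1, 1, 1, 1]], [[0, 0, 0, 0, 0, 0], [0, 0, 0, 0, 0, 0, 0, 0, 0, 0, 0]]),
    (8207, 4, 723, [[0, 1, 1, 1, 1]], [[0, 0, 0, 0, 0, 0, 0], [0, 0]]),
    (8223, 4, 419, [[0, 1]], [[0, 0, 0, 0, 0, 0, 0], [0, 0, 0, 0, 0, 0, 0, 0]]),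
    (8239, 1, 424, [[0, 1]], [[0, 0], [0, 0, 0]]),
    (8242, 4, 424, [[0, 1, 1, 1, 1, 1, 1]], [[0, 0, 0, 0, 0, 0, 0], [0, 0, 0, 0, 0, 0, 0, 0, 0, 0, 0, 0, 0]]),
    (8258, 4, 717, [[1, 1, 1]], [[0, 0, 0, 0, 0, 0, 0], [0, 0, 0, 0, 0]]),
    (8274, 5, 426, [[0, 1]], [[0, 0, 0, 0, 0, 0], [0, 0, 0, 0, 0, 0, 0]]),
    (8290, 2, 716, [[0, 1]], [[0, 0, 0], [0, 0, 0, 0]]),
    (8302, 7, 334, [[0, 1, 1, 1, 1]], [[0, 0, 0, 0, 0, 0, 0, 0, 0, 0, 0, 0, 0], [0, 0, 0, 0, 0, 0, 0, 0, 0, 0, 0, 0, 0, 0, 0, 0, 0, 0, 0, 0, 0, 0, 0]]),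
    (8314, 4, 723, [[0, 1]], [[0, 0, 0, 0, 0, 0, 0], [0, 0, 0, 0, 0, 0, 0, 0]]),
    (8326, 5, 720, [[0, 1]], [[0, 0, 0, 0, 0, 0], [0, 0, 0, 0, 0, 0, 0]]),
    (8338, 4, 2658, [[0, 1, 1]], [[0, 0, 0, 0, 0, 0, 0], [0, 0, 0, 0]]),
    (8350, 4, 335, [[0, 1, 1, 1]], [[0, 0, 0, 0, 0, 0, 0], [0, 0, 0, 0, 0, 0, 0, 0, 0, 0, 0, 0]]),
    (8362, 4, 333, [[0, 1, 1, 1, 1]], [[0, 0, 0, 0, 0, 0, 0], [0, 0, 0, 0, 0, 0, 0, 0, 0]]),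
    (8374, 4, 2581, [[1, 1, 1, 1, 1]], [[0, 0, 0, 0, 0, 0, 0], [0, 0, 0]]),
    (8386, 5, 719, [[0, 1, 1, 1, 1, 1]], [[0, 0, 0, 0, 0, 0], [0, 0, 0, 0, 0, 0, 0, 0, 0, 0, 0]]),
    (8398, 4, 719, [[0, 1, 1, 1, 1, 1, 1]], [[0, 0, 0, 0, 0, 0, 0], [0, 0, 0, 0, 0, 0, 0, 0, 0, 0, 0, 0, 0]]),
    (8423, 7, 329, [[0, 1, 1, 1, 1, 1, 1, 1, 1, 1]], [[0, 0, 0, 0, 0, 0, 0, 0, 0, 0, 0, 0, 0], [0, 0, 0, 0, 0, 0, 0, 0, 0, 0, 0, 0, 0, 0, 0, 0]]),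
    (8435, 2, 719, [[0, 1, 1]], [[0, 0, 0], [0, 0, 0, 0, 0]]),
    (8447, 1, 719, [[0, 1]], [[0, 0], [0, 0, 0]]),
    (8459, 2, 5092, [[0, 1]], [[0, 0, 0], [0, 0, 0, 0]]),
    (8467, 4, 2493, [[0, 1, 1, 1]], [[0, 0, 0, 0, 0, 0, 0], [0, 0, 0, 0, 0, 0, 0, 0, 0, 0, 0, 0]]),
    (8488, 7, 325, [[0, 1, 1, 1, 1, 1, 1, 1]], [[0, 0, 0, 0, 0, 0, 0, 0, 0, 0, 0, 0, 0], [0, 0]]),
    (8496, 4, 2596, [[0, 1, 1, 1, 1, 1, 1]], [[0, 0, 0, 0, 0, 0, 0], [0, 0, 0, 0, 0, 0]]),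
    (8504, 4, 718, [[1, 1, 1, 1, 1]], [[0, 0, 0, 0, 0, 0, 0], [0, 0, 0]]),
    (8525, 1, 2381, [[0, 1]], [[0, 0], [0, 0, 0]]),
    (8533, 4, 715, [[0, 1, 1]], [[0, 0, 0, 0, 0, 0, 0], [0, 0, 0, 0]]),
    (8541, 4, 2658, [[1]], [[0, 0, 0, 0, 0, 0, 0], [0]]),
    (8562, 7, 326, [[0, 1, 1, 1, 1, 1, 1]], [[0, 0, 0, 0, 0, 0, 0, 0, 0, 0, 0, 0, 0], [0, 0, 0, 0, 0, 0, 0, 0, 0, 0, 0]]),
    (8570, 4, 2451, [[0, 1, 1, 1, 1]], [[0, 0, 0, 0, 0, 0, 0], [0, 0, 0, 0, 0, 0, 0, 0, 0]]),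
    (8591, 2, 5077, [[0, 1, 1]], [[0, 0, 0], [0, 0, 0, 0, 0]]),
    (8599, 5, 3921, [[1, 1, 1, 1, 1]], [[0, 0, 0, 0, 0, 0], [0, 0, 0, 0, 0]]),
    (8607, 5, 3888, [[1]], [[0, 0, 0, 0, 0, 0], [0]]),
    (8628, 2, 329, [[0, 1]], [[0, 0, 0], [0, 0, 0, 0]]),
    (8632, 4, 328, [[0, 1, 1, 1, 1, 1, 1]], [[0, 0, 0, 0, 0, 0, 0], [0, 0, 0, 0, 0, 0, 0, 0, 0, 0, 0, 0, 0]]),
    (8649, 4, 419, [[0, 1, 1, 1, 1]], [[0, 0, 0, 0, 0, 0, 0], [0, 0]]),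
    (8666, 7, 328, [[0, 1, 1, 1, 1, 1, 1, 1, 1, 1, 1, 1, 1]], [[0, 0, 0, 0, 0, 0, 0, 0, 0, 0, 0, 0, 0], [0, 0, 0, 0, 0, 0, 0, 0, 0, 0, 0, 0, 0, 0, 0, 0, 0, 0, 0, 0, 0, 0, 0, 0, 0]])]

/-- Steps from class 9, part. -/
def step9_9 : List (Nat × Nat × Nat × List (List Nat) × List (List Nat)) :=
  [(8683, 7, 326, [[0, 1]], [[0, 0, 0, 0, 0, 0, 0, 0, 0, 0, 0, 0, 0], [0, 0, 0, 0, 0, 0, 0, 0, 0, 0, 0, 0, 0, 0]]),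
    (8687, 4, 420, [[1, 1, 1]], [[0, 0, 0, 0, 0, 0, 0], [0, 0, 0, 0, 0]]),
    (8704, 4, 331, [[0, 1]], [[0, 0, 0, 0, 0, 0, 0], [0, 0, 0, 0, 0, 0, 0, 0]]),
    (8721, 2, 328, [[0, 1, 1]], [[0, 0, 0], [0, 0, 0, 0, 0]]),
    (8725, 4, 2367, [[0, 1, 1]], [[0, 0, 0, 0, 0, 0, 0], [0, 0, 0, 0, 0, 0, 0, 0, 0, 0, 0]]),
    (8742, 5, 332, [[0, 1]], [[0, 0, 0, 0, 0, 0], [0, 0, 0, 0, 0, 0, 0]]),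
    (8759, 1, 328, [[0, 1]], [[0, 0], [0, 0, 0]]),
    (8763, 5, 328, [[0, 1, 1, 1, 1, 1]], [[0, 0, 0, 0, 0, 0], [0, 0, 0, 0, 0, 0, 0, 0, 0, 0, 0]]),
    (8780, 4, 2437, [[0, 1, 1, 1, 1, 1]], [[0, 0, 0, 0, 0, 0, 0], [0, 0, 0, 0, 0, 0, 0, 0, 0, 0]]),
    (8798, 2, 2855, [[0, 1, 1]], [[0, 0, 0], [0, 0, 0, 0, 0]]),
    (8811, 2, 2705, [[0, 1, 1]], [[0, 0, 0], [0, 0, 0, 0, 0]]),
    (8824, 2, 2737, [[0, 1, 1]], [[0, 0, 0], [0, 0, 0, 0, 0]]),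
    (8837, 2, 2756, [[0, 1, 1]], [[0, 0, 0], [0, 0, 0, 0, 0]]),
    (8850, 2, 2788, [[0, 1, 1]], [[0, 0, 0], [0, 0, 0, 0, 0]]),
    (8863, 2, 2820, [[0, 1, 1]], [[0, 0, 0], [0, 0, 0, 0, 0]]),
    (8876, 2, 2839, [[0, 1, 1]], [[0, 0, 0], [0, 0, 0, 0, 0]]),
    (8889, 2, 2871, [[0, 1, 1]], [[0, 0, 0], [0, 0, 0, 0, 0]]),
    (8902, 2, 2721, [[0, 1, 1]], [[0, 0, 0], [0, 0, 0, 0, 0]]),
    (8915, 2, 2753, [[0, 1, 1]], [[0, 0, 0], [0, 0, 0, 0, 0]]),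
    (8928, 2, 2772, [[0, 1, 1]], [[0, 0, 0], [0, 0, 0, 0, 0]]),
    (8941, 2, 2804, [[0, 1, 1]], [[0, 0, 0], [0, 0, 0, 0, 0]]),
    (8954, 2, 2823, [[0, 1, 1]], [[0, 0, 0], [0, 0, 0, 0, 0]]),
    (8967, 2, 335, [[1]], [[0, 0, 0], [0]]),
    (8977, 7, 332, [[1]], [[0, 0, 0, 0, 0, 0, 0, 0, 0, 0, 0, 0, 0], [0]]),
    (8987, 4, 2451, [[0, 1, 1]], [[0, 0, 0, 0, 0, 0, 0], [0, 0, 0, 0]]),
    (8997, 4, 2521, [[1, 1, 1, 1, 1]], [[0, 0, 0, 0, 0, 0, 0], [0, 0, 0]]),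
    (9020, 7, 334, [[0, 1, 1, 1, 1, 1, 1, 1, 1, 1, 1, 1, 1]], [[0, 0, 0, 0, 0, 0, 0, 0, 0, 0, 0, 0, 0], [0, 0, 0, 0, 0, 0, 0, 0, 0, 0, 0, 0]]),
    (9030, 2, 334, [[0, 1, 1]], [[0, 0, 0], [0, 0]]),
    (9040, 5, 334, [[1, 1, 1, 1, 1]], [[0, 0, 0, 0, 0, 0], [0, 0, 0, 0, 0]]),
    (9050, 4, 418, [[0, 1, 1, 1, 1]], [[0, 0, 0, 0, 0, 0, 0], [0, 0, 0, 0, 0, 0, 0, 0, 0]]),
    (9073, 4, 337, [[1]], [[0, 0, 0, 0, 0, 0, 0], [0]]),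
    (9083, 1, 334, [[1]], [[0, 0], [0]]),
    (9093, 4, 334, [[0, 1, 1, 1, 1, 1, 1]], [[0, 0, 0, 0, 0, 0, 0], [0, 0, 0, 0, 0, 0]]),
    (9103, 4, 419, [[0, 1, 1, 1]], [[0, 0, 0, 0, 0, 0, 0], [0, 0, 0, 0, 0, 0, 0, 0, 0, 0, 0, 0]]),
    (9113, 5, 325, [[1]], [[0, 0, 0, 0, 0, 0], [0]]),
    (9136, 2, 5169, [[1]], [[0, 0, 0], [0]]),
    (9143, 4, 717, [[0, 1, 1, 1, 1, 1]], [[0, 0, 0, 0, 0, 0, 0], [0, 0, 0, 0, 0, 0, 0, 0, 0, 0]]),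
    (9163, 7, 329, [[0, 1, 1, 1, 1, 1, 1]], [[0, 0, 0, 0, 0, 0, 0, 0, 0, 0, 0, 0, 0], [0, 0, 0, 0, 0, 0, 0, 0, 0, 0, 0, 0, 0, 0, 0, 0, 0, 0, 0, 0, 0, 0, 0, 0]]),
    (9170, 5, 3931, [[0, 1]], [[0, 0, 0, 0, 0, 0], [0, 0, 0, 0, 0, 0, 0]]),
    (9190, 4, 2628, [[0, 1, 1, 1, 1, 1, 1]], [[0, 0, 0, 0, 0, 0, 0], [0, 0, 0, 0, 0, 0, 0, 0, 0, 0, 0, 0, 0]]),
    (9197, 4, 2703, [[0, 1]], [[0, 0, 0, 0, 0, 0, 0], [0, 0, 0, 0, 0, 0, 0, 0]]),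
    (9204, 5, 3964, [[0, 1, 1, 1, 1, 1]], [[0, 0, 0, 0, 0, 0], [0, 0, 0, 0, 0, 0, 0, 0, 0, 0, 0]]),
    (9224, 7, 328, [[1, 1, 1, 1, 1, 1, 1]], [[0, 0, 0, 0, 0, 0, 0, 0, 0, 0, 0, 0, 0], [0, 0, 0, 0, 0, 0, 0, 0, 0, 0, 0, 0, 0, 0, 0]]),
    (9231, 4, 727, [[0, 1, 1]], [[0, 0, 0, 0, 0, 0, 0], [0, 0, 0, 0, 0, 0, 0, 0, 0, 0, 0]]),
    (9251, 2, 5154, [[0, 1, 1]], [[0, 0, 0], [0, 0]]),
    (9258, 4, 2522, [[1, 1, 1]], [[0, 0, 0, 0, 0, 0, 0], [0, 0, 0, 0, 0]]),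
    (9278, 1, 2423, [[1]], [[0, 0], [0]]),
    (9285, 4, 2493, [[0, 1, 1, 1, 1]], [[0, 0, 0, 0, 0, 0, 0], [0, 0]]),
    (9305, 2, 724, [[1]], [[0, 0, 0], [0]]),
    (9309, 4, 2688, [[0, 1, 1]], [[0, 0, 0, 0, 0, 0, 0], [0, 0, 0, 0, 0, 0, 0, 0, 0, 0, 0]]),
    (9326, 5, 727, [[1, 1, 1, 1, 1]], [[0, 0, 0, 0, 0, 0], [0, 0, 0, 0, 0]]),
    (9343, 1, 727, [[1]], [[0, 0], [0]]),
    (9347, 5, 715, [[1]], [[0, 0, 0, 0, 0, 0], [0]]),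
    (9364, 4, 2611, [[0, 1, 1, 1, 1, 1]], [[0, 0, 0, 0, 0, 0, 0], [0, 0, 0, 0, 0, 0, 0, 0, 0, 0]]),
    (9381, 2, 727, [[0, 1, 1]], [[0, 0, 0], [0, 0]]),
    (9398, 4, 718, [[1]], [[0, 0, 0, 0, 0, 0, 0], [0]]),
    (9402, 4, 335, [[0, 1, 1, 1, 1]], [[0, 0, 0, 0, 0, 0, 0], [0, 0]]),
    (9419, 7, 331, [[1, 1, 1, 1, 1, 1, 1, 1, 1]], [[0, 0, 0, 0, 0, 0, 0, 0, 0, 0, 0, 0, 0], [0, 0, 0]]),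
    (9436, 7, 336, [[0, 1, 1, 1, 1]], [[0, 0, 0, 0, 0, 0, 0, 0, 0, 0, 0, 0, 0], [0, 0, 0, 0, 0, 0, 0, 0, 0, 0]]),
    (9440, 4, 337, [[1, 1, 1]], [[0, 0, 0, 0, 0, 0, 0], [0, 0, 0, 0, 0]]),
    (9457, 4, 727, [[0, 1, 1, 1, 1, 1, 1]], [[0, 0, 0, 0, 0, 0, 0], [0, 0, 0, 0, 0, 0]]),
    (9474, 2, 421, [[1]], [[0, 0, 0], [0]]),
    (9488, 7, 333, [[0, 1, 1, 1]], [[0, 0, 0, 0, 0, 0, 0, 0, 0, 0, 0, 0, 0], [0, 0, 0, 0, 0, 0, 0, 0, 0, 0, 0, 0, 0, 0, 0, 0, 0, 0, 0, 0, 0, 0]]),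
    (9502, 4, 422, [[1]], [[0, 0, 0, 0, 0, 0, 0], [0]])]

/-- Steps from class 9, part. -/
def step9_10 : List (Nat × Nat × Nat × List (List Nat) × List (List Nat)) :=
  [(9503, 5, 416, [[1]], [[0, 0, 0, 0, 0, 0], [0]]),
    (9517, 4, 2804, [[0, 1, 1]], [[0, 0, 0, 0, 0, 0, 0], [0, 0, 0, 0, 0, 0, 0, 0, 0, 0, 0]]),
    (9531, 4, 716, [[0, 1, 1, 1, 1]], [[0, 0, 0, 0, 0, 0, 0], [0, 0, 0, 0, 0, 0, 0, 0, 0]]),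
    (9545, 4, 723, [[0, 1, 1, 1]], [[0, 0, 0, 0, 0, 0, 0], [0, 0, 0, 0, 0, 0, 0, 0, 0, 0, 0, 0]]),
    (9559, 4, 2823, [[0, 1, 1, 1, 1, 1]], [[0, 0, 0, 0, 0, 0, 0], [0, 0, 0, 0, 0, 0, 0, 0, 0, 0]]),
    (9573, 5, 427, [[1, 1, 1, 1, 1]], [[0, 0, 0, 0, 0, 0], [0, 0, 0, 0, 0]]),
    (9587, 4, 427, [[0, 1, 1, 1, 1, 1, 1]], [[0, 0, 0, 0, 0, 0, 0], [0, 0, 0, 0, 0, 0]]),
    (9601, 7, 326, [[0, 1, 1, 1, 1, 1, 1, 1, 1, 1, 1]], [[0, 0, 0, 0, 0, 0, 0, 0, 0, 0, 0, 0, 0], [0, 0, 0, 0, 0, 0, 0, 0, 0, 0, 0, 0, 0, 0, 0, 0, 0]]),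
    (9615, 2, 427, [[0, 1, 1]], [[0, 0, 0], [0, 0]]),
    (9629, 1, 427, [[1]], [[0, 0], [0]]),
    (9643, 2, 2984, [[0, 1, 1]], [[0, 0, 0], [0, 0, 0, 0, 0]]),
    (9654, 2, 2874, [[0, 1]], [[0, 0, 0], [0, 0, 0, 0]]),
    (9665, 4, 2381, [[0, 1, 1, 1, 1, 1, 1]], [[0, 0, 0, 0, 0, 0, 0], [0, 0, 0, 0, 0, 0]]),
    (9676, 4, 333, [[0, 1, 1, 1, 1, 1]], [[0, 0, 0, 0, 0, 0, 0], [0, 0, 0, 0, 0, 0, 0, 0, 0, 0]]),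
    (9687, 4, 2721, [[1, 1, 1]], [[0, 0, 0, 0, 0, 0, 0], [0, 0, 0, 0, 0]]),
    (9698, 5, 5710, [[1]], [[0, 0, 0, 0, 0, 0], [0]]),
    (9722, 7, 326, [[0, 1, 1, 1, 1, 1]], [[0, 0, 0, 0, 0, 0, 0, 0, 0, 0, 0, 0, 0], [0, 0, 0, 0, 0, 0, 0, 0]]),
    (9733, 1, 2596, [[1]], [[0, 0], [0]]),
    (9744, 7, 336, [[0, 1, 1, 1, 1, 1, 1, 1, 1]], [[0, 0, 0, 0, 0, 0, 0, 0, 0, 0, 0, 0, 0], [0, 0, 0, 0, 0]]),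
    (9755, 5, 5720, [[1, 1, 1, 1, 1]], [[0, 0, 0, 0, 0, 0], [0, 0, 0, 0, 0]]),
    (9766, 4, 2772, [[0, 1, 1, 1, 1]], [[0, 0, 0, 0, 0, 0, 0], [0, 0]]),
    (9777, 4, 334, [[0, 1, 1]], [[0, 0, 0, 0, 0, 0, 0], [0, 0, 0, 0, 0, 0, 0, 0, 0, 0, 0]]),
    (9801, 4, 2522, [[1]], [[0, 0, 0, 0, 0, 0, 0], [0]]),
    (9812, 2, 2566, [[0, 1, 1]], [[0, 0, 0], [0, 0, 0, 0, 0]]),
    (9820, 5, 2437, [[1, 1, 1, 1, 1]], [[0, 0, 0, 0, 0, 0], [0, 0, 0, 0, 0]]),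
    (9828, 5, 2507, [[1]], [[0, 0, 0, 0, 0, 0], [0]]),
    (9849, 2, 2596, [[0, 1]], [[0, 0, 0], [0, 0, 0, 0]]),
    (9857, 4, 2613, [[0, 1, 1, 1]], [[0, 0, 0, 0, 0, 0, 0], [0, 0, 0, 0, 0, 0, 0, 0, 0, 0, 0, 0]]),
    (9878, 7, 330, [[0, 1, 1]], [[0, 0, 0, 0, 0, 0, 0, 0, 0, 0, 0, 0, 0], [0, 0, 0, 0, 0, 0, 0, 0, 0, 0, 0, 0, 0, 0, 0, 0, 0, 0, 0, 0]]),
    (9886, 4, 2804, [[0, 1, 1, 1, 1, 1, 1]], [[0, 0, 0, 0, 0, 0, 0], [0, 0, 0, 0, 0, 0]]),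
    (9894, 4, 426, [[1, 1, 1, 1, 1]], [[0, 0, 0, 0, 0, 0, 0], [0, 0, 0]]),
    (9915, 1, 5184, [[0, 1]], [[0, 0], [0, 0, 0]]),
    (9923, 4, 420, [[0, 1, 1]], [[0, 0, 0, 0, 0, 0, 0], [0, 0, 0, 0]]),
    (9944, 4, 2721, [[1]], [[0, 0, 0, 0, 0, 0, 0], [0]]),
    (9952, 7, 334, [[1, 1, 1, 1, 1, 1, 1, 1, 1, 1, 1]], [[0, 0, 0, 0, 0, 0, 0, 0, 0, 0, 0, 0, 0], [0, 0, 0, 0, 0, 0, 0, 0, 0, 0, 0, 0, 0, 0, 0, 0, 0, 0, 0]]),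
    (9960, 4, 2628, [[0, 1, 1, 1, 1]], [[0, 0, 0, 0, 0, 0, 0], [0, 0, 0, 0, 0, 0, 0, 0, 0]]),
    (9981, 2, 2551, [[1]], [[0, 0, 0], [0]]),
    (9986, 4, 2581, [[1, 1, 1]], [[0, 0, 0, 0, 0, 0, 0], [0, 0, 0, 0, 0]]),
    (10004, 7, 327, [[0, 1, 1]], [[0, 0, 0, 0, 0, 0, 0, 0, 0, 0, 0, 0, 0], [0, 0, 0, 0, 0, 0, 0]]),
    (10022, 4, 2756, [[0, 1, 1, 1, 1, 1, 1]], [[0, 0, 0, 0, 0, 0, 0], [0, 0, 0, 0, 0, 0, 0, 0, 0, 0, 0, 0, 0]]),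
    (10027, 4, 420, [[0, 1, 1, 1, 1, 1]], [[0, 0, 0, 0, 0, 0, 0], [0, 0, 0, 0, 0, 0, 0, 0, 0, 0]]),
    (10045, 1, 5107, [[1]], [[0, 0], [0]]),
    (10050, 4, 427, [[0, 1, 1]], [[0, 0, 0, 0, 0, 0, 0], [0, 0, 0, 0, 0, 0, 0, 0, 0, 0, 0]]),
    (10068, 4, 2855, [[0, 1]], [[0, 0, 0, 0, 0, 0, 0], [0, 0, 0, 0, 0, 0, 0, 0]]),
    (10086, 7, 331, [[0, 1, 1, 1, 1, 1, 1, 1, 1, 1, 1, 1]], [[0, 0, 0, 0, 0, 0, 0, 0, 0, 0, 0, 0, 0], [0, 0, 0, 0, 0, 0]]),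
    (10091, 4, 2596, [[0, 1, 1, 1, 1]], [[0, 0, 0, 0, 0, 0, 0], [0, 0]]),
    (10109, 2, 2703, [[0, 1, 1]], [[0, 0, 0], [0, 0]]),
    (10114, 5, 2395, [[0, 1, 1, 1, 1, 1]], [[0, 0, 0, 0, 0, 0], [0, 0, 0, 0, 0, 0, 0, 0, 0, 0, 0]]),
    (10132, 5, 2465, [[0, 1]], [[0, 0, 0, 0, 0, 0], [0, 0, 0, 0, 0, 0, 0]]),
    (10150, 2, 3039, [[1]], [[0, 0, 0], [0]]),
    (10165, 4, 2367, [[0, 1, 1, 1, 1, 1, 1]], [[0, 0, 0, 0, 0, 0, 0], [0, 0, 0, 0, 0, 0, 0, 0, 0, 0, 0, 0, 0]]),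
    (10167, 4, 332, [[1, 1, 1, 1, 1]], [[0, 0, 0, 0, 0, 0, 0], [0, 0, 0]]),
    (10182, 4, 2705, [[0, 1, 1, 1]], [[0, 0, 0, 0, 0, 0, 0], [0, 0, 0, 0, 0, 0, 0, 0, 0, 0, 0, 0]]),
    (10197, 5, 5690, [[0, 1]], [[0, 0, 0, 0, 0, 0], [0, 0, 0, 0, 0, 0, 0]]),
    (10212, 7, 325, [[1, 1, 1, 1, 1]], [[0, 0, 0, 0, 0, 0, 0, 0, 0, 0, 0, 0, 0], [0, 0, 0, 0, 0, 0, 0, 0, 0, 0, 0, 0, 0, 0, 0, 0, 0, 0, 0, 0, 0]]),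
    (10227, 1, 2581, [[0, 1]], [[0, 0], [0, 0, 0]]),
    (10242, 7, 335, [[0, 1, 1, 1, 1, 1, 1, 1, 1]], [[0, 0, 0, 0, 0, 0, 0, 0, 0, 0, 0, 0, 0], [0, 0, 0, 0, 0, 0, 0, 0, 0, 0, 0, 0, 0, 0, 0, 0, 0, 0]]),
    (10244, 5, 5700, [[0, 1, 1, 1, 1, 1]], [[0, 0, 0, 0, 0, 0], [0, 0, 0, 0, 0, 0, 0, 0, 0, 0, 0]]),
    (10259, 4, 2756, [[0, 1, 1, 1, 1]], [[0, 0, 0, 0, 0, 0, 0], [0, 0, 0, 0, 0, 0, 0, 0, 0]]),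
    (10274, 4, 333, [[0, 1, 1]], [[0, 0, 0, 0, 0, 0, 0], [0, 0, 0, 0]]),
    (10289, 4, 2521, [[0, 1]], [[0, 0, 0, 0, 0, 0, 0], [0, 0, 0, 0, 0, 0, 0, 0]]),
    (10304, 2, 2967, [[0, 1, 1]], [[0, 0, 0], [0, 0]]),
    (10319, 2, 418, [[0, 1, 1]], [[0, 0, 0], [0, 0, 0, 0, 0]]),
    (10331, 1, 418, [[0, 1]], [[0, 0], [0, 0, 0]])]

/-- Steps from class 9, part. -/
def step9_11 : List (Nat × Nat × Nat × List (List Nat) × List (List Nat)) :=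
  [(10343, 2, 425, [[0, 1]], [[0, 0, 0], [0, 0, 0, 0]]),
    (10355, 7, 335, [[1, 1, 1]], [[0, 0, 0, 0, 0, 0, 0, 0, 0, 0, 0, 0, 0], [0, 0, 0, 0, 0, 0, 0, 0, 0]]),
    (10367, 4, 426, [[0, 1]], [[0, 0, 0, 0, 0, 0, 0], [0, 0, 0, 0, 0, 0, 0, 0]]),
    (10379, 5, 420, [[0, 1]], [[0, 0, 0, 0, 0, 0], [0, 0, 0, 0, 0, 0, 0]]),
    (10391, 4, 2823, [[0, 1, 1]], [[0, 0, 0, 0, 0, 0, 0], [0, 0, 0, 0]]),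
    (10403, 4, 724, [[0, 1, 1, 1, 1]], [[0, 0, 0, 0, 0, 0, 0], [0, 0]]),
    (10415, 4, 718, [[1, 1, 1]], [[0, 0, 0, 0, 0, 0, 0], [0, 0, 0, 0, 0]]),
    (10427, 4, 2855, [[1, 1, 1, 1, 1]], [[0, 0, 0, 0, 0, 0, 0], [0, 0, 0]]),
    (10439, 5, 418, [[0, 1, 1, 1, 1, 1]], [[0, 0, 0, 0, 0, 0], [0, 0, 0, 0, 0, 0, 0, 0, 0, 0, 0]]),
    (10464, 4, 418, [[0, 1, 1, 1, 1, 1, 1]], [[0, 0, 0, 0, 0, 0, 0], [0, 0, 0, 0, 0, 0, 0, 0, 0, 0, 0, 0, 0]]),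
    (10476, 7, 328, [[0, 1, 1, 1, 1, 1, 1, 1, 1, 1, 1]], [[0, 0, 0, 0, 0, 0, 0, 0, 0, 0, 0, 0, 0], [0, 0, 0, 0]]),
    (10488, 2, 716, [[0, 1, 1]], [[0, 0, 0], [0, 0, 0, 0, 0]]),
    (10497, 4, 720, [[0, 1]], [[0, 0, 0, 0, 0, 0, 0], [0, 0, 0, 0, 0, 0, 0, 0]]),
    (10506, 4, 329, [[0, 1, 1, 1, 1]], [[0, 0, 0, 0, 0, 0, 0], [0, 0, 0, 0, 0, 0, 0, 0, 0]]),
    (10528, 7, 325, [[0, 1, 1, 1, 1, 1, 1, 1, 1, 1]], [[0, 0, 0, 0, 0, 0, 0, 0, 0, 0, 0, 0, 0], [0, 0, 0, 0, 0, 0, 0, 0, 0, 0, 0, 0, 0, 0, 0, 0]]),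
    (10537, 7, 330, [[0, 1, 1, 1, 1]], [[0, 0, 0, 0, 0, 0, 0, 0, 0, 0, 0, 0, 0], [0, 0, 0, 0, 0, 0, 0, 0, 0, 0, 0, 0, 0, 0, 0, 0, 0, 0, 0, 0, 0, 0, 0]]),
    (10546, 4, 331, [[0, 1, 1, 1]], [[0, 0, 0, 0, 0, 0, 0], [0, 0, 0, 0, 0, 0, 0, 0, 0, 0, 0, 0]]),
    (10568, 4, 716, [[0, 1, 1, 1, 1, 1, 1]], [[0, 0, 0, 0, 0, 0, 0], [0, 0, 0, 0, 0, 0, 0, 0, 0, 0, 0, 0, 0]]),
    (10577, 2, 726, [[0, 1]], [[0, 0, 0], [0, 0, 0, 0]]),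
    (10586, 4, 2611, [[0, 1, 1]], [[0, 0, 0, 0, 0, 0, 0], [0, 0, 0, 0]]),
    (10595, 5, 716, [[0, 1, 1, 1, 1, 1]], [[0, 0, 0, 0, 0, 0], [0, 0, 0, 0, 0, 0, 0, 0, 0, 0, 0]]),
    (10617, 1, 716, [[0, 1]], [[0, 0], [0, 0, 0]]),
    (10626, 5, 717, [[0, 1]], [[0, 0, 0, 0, 0, 0], [0, 0, 0, 0, 0, 0, 0]]),
    (10635, 4, 2703, [[1, 1, 1, 1, 1]], [[0, 0, 0, 0, 0, 0, 0], [0, 0, 0]]),
    (10657, 2, 5092, [[0, 1, 1]], [[0, 0, 0], [0, 0, 0, 0, 0]]),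
    (10663, 4, 2409, [[0, 1, 1, 1]], [[0, 0, 0, 0, 0, 0, 0], [0, 0, 0, 0, 0, 0, 0, 0, 0, 0, 0, 0]]),
    (10682, 1, 2479, [[0, 1]], [[0, 0], [0, 0, 0]]),
    (10688, 4, 2367, [[0, 1, 1, 1, 1]], [[0, 0, 0, 0, 0, 0, 0], [0, 0, 0, 0, 0, 0, 0, 0, 0]]),
    (10707, 2, 5107, [[0, 1]], [[0, 0, 0], [0, 0, 0, 0]]),
    (10713, 4, 720, [[1, 1, 1, 1, 1]], [[0, 0, 0, 0, 0, 0, 0], [0, 0, 0]]),
    (10732, 7, 333, [[0, 1, 1, 1, 1, 1, 1]], [[0, 0, 0, 0, 0, 0, 0, 0, 0, 0, 0, 0, 0], [0, 0, 0, 0, 0, 0, 0, 0, 0, 0, 0]]),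
    (10738, 5, 3984, [[1]], [[0, 0, 0, 0, 0, 0], [0]]),
    (10757, 4, 2688, [[0, 1, 1, 1, 1, 1, 1]], [[0, 0, 0, 0, 0, 0, 0], [0, 0, 0, 0, 0, 0]]),
    (10776, 4, 2581, [[1]], [[0, 0, 0, 0, 0, 0, 0], [0]]),
    (10782, 5, 4004, [[1, 1, 1, 1, 1]], [[0, 0, 0, 0, 0, 0], [0, 0, 0, 0, 0]]),
    (10801, 7, 332, [[0, 1, 1, 1, 1, 1, 1, 1]], [[0, 0, 0, 0, 0, 0, 0, 0, 0, 0, 0, 0, 0], [0, 0]]),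
    (10807, 4, 717, [[0, 1, 1]], [[0, 0, 0, 0, 0, 0, 0], [0, 0, 0, 0]]),
    (10826, 2, 329, [[0, 1, 1]], [[0, 0, 0], [0, 0, 0, 0, 0]]),
    (10829, 5, 329, [[0, 1, 1, 1, 1, 1]], [[0, 0, 0, 0, 0, 0], [0, 0, 0, 0, 0, 0, 0, 0, 0, 0, 0]]),
    (10845, 4, 421, [[0, 1, 1, 1, 1]], [[0, 0, 0, 0, 0, 0, 0], [0, 0]]),
    (10861, 4, 332, [[0, 1]], [[0, 0, 0, 0, 0, 0, 0], [0, 0, 0, 0, 0, 0, 0, 0]]),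
    (10877, 1, 329, [[0, 1]], [[0, 0], [0, 0, 0]]),
    (10893, 4, 329, [[0, 1, 1, 1, 1, 1, 1]], [[0, 0, 0, 0, 0, 0, 0], [0, 0, 0, 0, 0, 0, 0, 0, 0, 0, 0, 0, 0]]),
    (10896, 4, 422, [[1, 1, 1]], [[0, 0, 0, 0, 0, 0, 0], [0, 0, 0, 0, 0]]),
    (10912, 5, 333, [[0, 1]], [[0, 0, 0, 0, 0, 0], [0, 0, 0, 0, 0, 0, 0]]),
    (10928, 2, 330, [[0, 1]], [[0, 0, 0], [0, 0, 0, 0]]),
    (10944, 7, 327, [[0, 1]], [[0, 0, 0, 0, 0, 0, 0, 0, 0, 0, 0, 0, 0], [0, 0, 0, 0, 0, 0, 0, 0, 0, 0, 0, 0, 0, 0]]),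
    (10947, 4, 2381, [[0, 1, 1]], [[0, 0, 0, 0, 0, 0, 0], [0, 0, 0, 0, 0, 0, 0, 0, 0, 0, 0]]),
    (10963, 4, 2451, [[0, 1, 1, 1, 1, 1]], [[0, 0, 0, 0, 0, 0, 0], [0, 0, 0, 0, 0, 0, 0, 0, 0, 0]]),
    (10979, 7, 329, [[0, 1, 1, 1, 1, 1, 1, 1, 1, 1, 1, 1, 1]], [[0, 0, 0, 0, 0, 0, 0, 0, 0, 0, 0, 0, 0], [0, 0, 0, 0, 0, 0, 0, 0, 0, 0, 0, 0, 0, 0, 0, 0, 0, 0, 0, 0, 0, 0, 0, 0, 0]]),
    (10993, 1, 3166, [[0, 1]], [[0, 0], [0, 0, 0]]),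
    (11006, 1, 3043, [[0, 1]], [[0, 0], [0, 0, 0]]),
    (11019, 1, 3102, [[0, 1]], [[0, 0], [0, 0, 0]]),
    (11032, 1, 3148, [[0, 1]], [[0, 0], [0, 0, 0]]),
    (11045, 1, 3207, [[0, 1]], [[0, 0], [0, 0, 0]]),
    (11058, 1, 3084, [[0, 1]], [[0, 0], [0, 0, 0]]),
    (11071, 1, 3143, [[0, 1]], [[0, 0], [0, 0, 0]]),
    (11084, 1, 3189, [[0, 1]], [[0, 0], [0, 0, 0]]),
    (11097, 1, 3079, [[0, 1]], [[0, 0], [0, 0, 0]]),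
    (11110, 1, 3125, [[0, 1]], [[0, 0], [0, 0, 0]]),
    (11123, 1, 3184, [[0, 1]], [[0, 0], [0, 0, 0]]),
    (11136, 1, 3061, [[0, 1]], [[0, 0], [0, 0, 0]]),
    (11149, 1, 3107, [[0, 1]], [[0, 0], [0, 0, 0]]),
    (11162, 1, 333, [[1]], [[0, 0], [0]])]

/-- Steps from class 9, part. -/
def step9_12 : List (Nat × Nat × Nat × List (List Nat) × List (List Nat)) :=
  [(11170, 4, 2437, [[0, 1, 1]], [[0, 0, 0, 0, 0, 0, 0], [0, 0, 0, 0]]),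
    (11191, 4, 336, [[1]], [[0, 0, 0, 0, 0, 0, 0], [0]]),
    (11199, 7, 331, [[1]], [[0, 0, 0, 0, 0, 0, 0, 0, 0, 0, 0, 0, 0], [0]]),
    (11207, 4, 416, [[0, 1, 1, 1, 1]], [[0, 0, 0, 0, 0, 0, 0], [0, 0, 0, 0, 0, 0, 0, 0, 0]]),
    (11228, 2, 334, [[1]], [[0, 0, 0], [0]]),
    (11236, 5, 333, [[1, 1, 1, 1, 1]], [[0, 0, 0, 0, 0, 0], [0, 0, 0, 0, 0]]),
    (11257, 5, 337, [[1]], [[0, 0, 0, 0, 0, 0], [0]]),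
    (11265, 2, 333, [[0, 1, 1]], [[0, 0, 0], [0, 0]]),
    (11273, 4, 417, [[0, 1, 1, 1]], [[0, 0, 0, 0, 0, 0, 0], [0, 0, 0, 0, 0, 0, 0, 0, 0, 0, 0, 0]]),
    (11294, 7, 333, [[0, 1, 1, 1, 1, 1, 1, 1, 1, 1, 1, 1, 1]], [[0, 0, 0, 0, 0, 0, 0, 0, 0, 0, 0, 0, 0], [0, 0, 0, 0, 0, 0, 0, 0, 0, 0, 0, 0]]),
    (11302, 4, 333, [[0, 1, 1, 1, 1, 1, 1]], [[0, 0, 0, 0, 0, 0, 0], [0, 0, 0, 0, 0, 0]]),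
    (11310, 4, 2507, [[1, 1, 1, 1, 1]], [[0, 0, 0, 0, 0, 0, 0], [0, 0, 0]]),
    (11331, 1, 2507, [[1]], [[0, 0], [0]]),
    (11347, 4, 2536, [[0, 1, 1, 1, 1, 1, 1]], [[0, 0, 0, 0, 0, 0, 0], [0, 0, 0, 0, 0, 0, 0, 0, 0, 0, 0, 0, 0]]),
    (11350, 4, 2437, [[1, 1, 1]], [[0, 0, 0, 0, 0, 0, 0], [0, 0, 0, 0, 0]]),
    (11366, 5, 4004, [[0, 1]], [[0, 0, 0, 0, 0, 0], [0, 0, 0, 0, 0, 0, 0]]),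
    (11382, 2, 5139, [[0, 1, 1]], [[0, 0, 0], [0, 0]]),
    (11398, 7, 335, [[0, 1, 1, 1, 1, 1, 1]], [[0, 0, 0, 0, 0, 0, 0, 0, 0, 0, 0, 0, 0], [0, 0, 0, 0, 0, 0, 0, 0, 0, 0, 0, 0, 0, 0, 0, 0, 0, 0, 0, 0, 0, 0, 0, 0]]),
    (11401, 4, 725, [[0, 1, 1]], [[0, 0, 0, 0, 0, 0, 0], [0, 0, 0, 0, 0, 0, 0, 0, 0, 0, 0]]),
    (11417, 4, 715, [[0, 1, 1, 1, 1, 1]], [[0, 0, 0, 0, 0, 0, 0], [0, 0, 0, 0, 0, 0, 0, 0, 0, 0]]),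
    (11433, 7, 334, [[1, 1, 1, 1, 1, 1, 1]], [[0, 0, 0, 0, 0, 0, 0, 0, 0, 0, 0, 0, 0], [0, 0, 0, 0, 0, 0, 0, 0, 0, 0, 0, 0, 0, 0, 0]]),
    (11449, 2, 5154, [[1]], [[0, 0, 0], [0]]),
    (11465, 5, 4037, [[0, 1, 1, 1, 1, 1]], [[0, 0, 0, 0, 0, 0], [0, 0, 0, 0, 0, 0, 0, 0, 0, 0, 0]]),
    (11468, 4, 2395, [[0, 1, 1, 1, 1]], [[0, 0, 0, 0, 0, 0, 0], [0, 0]]),
    (11484, 4, 2611, [[0, 1]], [[0, 0, 0, 0, 0, 0, 0], [0, 0, 0, 0, 0, 0, 0, 0]]),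
    (11500, 1, 717, [[1]], [[0, 0], [0]]),
    (11511, 7, 335, [[1, 1, 1, 1, 1, 1, 1, 1, 1]], [[0, 0, 0, 0, 0, 0, 0, 0, 0, 0, 0, 0, 0], [0, 0, 0]]),
    (11522, 5, 717, [[1, 1, 1, 1, 1]], [[0, 0, 0, 0, 0, 0], [0, 0, 0, 0, 0]]),
    (11533, 4, 326, [[0, 1, 1, 1, 1]], [[0, 0, 0, 0, 0, 0, 0], [0, 0]]),
    (11544, 4, 2566, [[0, 1, 1]], [[0, 0, 0, 0, 0, 0, 0], [0, 0, 0, 0, 0, 0, 0, 0, 0, 0, 0]]),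
    (11568, 4, 721, [[1]], [[0, 0, 0, 0, 0, 0, 0], [0]]),
    (11579, 2, 727, [[1]], [[0, 0, 0], [0]]),
    (11590, 2, 717, [[0, 1, 1]], [[0, 0, 0], [0, 0]]),
    (11601, 4, 717, [[0, 1, 1, 1, 1, 1, 1]], [[0, 0, 0, 0, 0, 0, 0], [0, 0, 0, 0, 0, 0]]),
    (11612, 4, 2658, [[0, 1, 1, 1, 1, 1]], [[0, 0, 0, 0, 0, 0, 0], [0, 0, 0, 0, 0, 0, 0, 0, 0, 0]]),
    (11623, 4, 328, [[1, 1, 1]], [[0, 0, 0, 0, 0, 0, 0], [0, 0, 0, 0, 0]]),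
    (11647, 5, 718, [[1]], [[0, 0, 0, 0, 0, 0], [0]]),
    (11658, 7, 327, [[0, 1, 1, 1, 1]], [[0, 0, 0, 0, 0, 0, 0, 0, 0, 0, 0, 0, 0], [0, 0, 0, 0, 0, 0, 0, 0, 0, 0]]),
    (11669, 1, 420, [[1]], [[0, 0], [0]]),
    (11675, 4, 715, [[0, 1, 1, 1, 1]], [[0, 0, 0, 0, 0, 0, 0], [0, 0, 0, 0, 0, 0, 0, 0, 0]]),
    (11694, 2, 420, [[0, 1, 1]], [[0, 0, 0], [0, 0]]),
    (11700, 4, 2839, [[0, 1, 1]], [[0, 0, 0, 0, 0, 0, 0], [0, 0, 0, 0, 0, 0, 0, 0, 0, 0, 0]]),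
    (11719, 7, 329, [[0, 1, 1, 1, 1, 1, 1, 1, 1, 1, 1]], [[0, 0, 0, 0, 0, 0, 0, 0, 0, 0, 0, 0, 0], [0, 0, 0, 0, 0, 0, 0, 0, 0, 0, 0, 0, 0, 0, 0, 0, 0]]),
    (11738, 5, 422, [[1]], [[0, 0, 0, 0, 0, 0], [0]]),
    (11744, 4, 420, [[0, 1, 1, 1, 1, 1, 1]], [[0, 0, 0, 0, 0, 0, 0], [0, 0, 0, 0, 0, 0]]),
    (11763, 4, 428, [[1]], [[0, 0, 0, 0, 0, 0, 0], [0]]),
    (11769, 5, 420, [[1, 1, 1, 1, 1]], [[0, 0, 0, 0, 0, 0], [0, 0, 0, 0, 0]]),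
    (11788, 7, 336, [[0, 1, 1, 1]], [[0, 0, 0, 0, 0, 0, 0, 0, 0, 0, 0, 0, 0], [0, 0, 0, 0, 0, 0, 0, 0, 0, 0, 0, 0, 0, 0, 0, 0, 0, 0, 0, 0, 0, 0]]),
    (11794, 4, 2871, [[0, 1, 1, 1, 1, 1]], [[0, 0, 0, 0, 0, 0, 0], [0, 0, 0, 0, 0, 0, 0, 0, 0, 0]]),
    (11813, 2, 427, [[1]], [[0, 0, 0], [0]]),
    (11819, 4, 722, [[0, 1, 1, 1]], [[0, 0, 0, 0, 0, 0, 0], [0, 0, 0, 0, 0, 0, 0, 0, 0, 0, 0, 0]]),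
    (11838, 1, 2658, [[1]], [[0, 0], [0]]),
    (11852, 2, 2874, [[0, 1, 1]], [[0, 0, 0], [0, 0, 0, 0, 0]]),
    (11866, 7, 331, [[0, 1, 1, 1, 1, 1]], [[0, 0, 0, 0, 0, 0, 0, 0, 0, 0, 0, 0, 0], [0, 0, 0, 0, 0, 0, 0, 0]]),
    (11880, 4, 2423, [[1]], [[0, 0, 0, 0, 0, 0, 0], [0]]),
    (11894, 5, 5680, [[1]], [[0, 0, 0, 0, 0, 0], [0]]),
    (11895, 4, 326, [[0, 1, 1]], [[0, 0, 0, 0, 0, 0, 0], [0, 0, 0, 0, 0, 0, 0, 0, 0, 0, 0]]),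
    (11909, 4, 2788, [[1, 1, 1]], [[0, 0, 0, 0, 0, 0, 0], [0, 0, 0, 0, 0]]),
    (11923, 4, 2839, [[0, 1, 1, 1, 1]], [[0, 0, 0, 0, 0, 0, 0], [0, 0]]),
    (11937, 4, 325, [[0, 1, 1, 1, 1, 1]], [[0, 0, 0, 0, 0, 0, 0], [0, 0, 0, 0, 0, 0, 0, 0, 0, 0]]),
    (11951, 5, 5690, [[1, 1, 1, 1, 1]], [[0, 0, 0, 0, 0, 0], [0, 0, 0, 0, 0]]),
    (11965, 4, 2451, [[0, 1, 1, 1, 1, 1, 1]], [[0, 0, 0, 0, 0, 0, 0], [0, 0, 0, 0, 0, 0]]),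
    (11979, 7, 328, [[0, 1, 1, 1, 1, 1, 1, 1, 1]], [[0, 0, 0, 0, 0, 0, 0, 0, 0, 0, 0, 0, 0], [0, 0, 0, 0, 0]]),
    (11993, 2, 2946, [[0, 1]], [[0, 0, 0], [0, 0, 0, 0]])]

/-- Steps from class 9, part. -/
def step9_13 : List (Nat × Nat × Nat × List (List Nat) × List (List Nat)) :=
  [(12007, 1, 5231, [[0, 1]], [[0, 0], [0, 0, 0]]),
    (12016, 5, 2465, [[1, 1, 1, 1, 1]], [[0, 0, 0, 0, 0, 0], [0, 0, 0, 0, 0]]),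
    (12025, 4, 417, [[1, 1, 1, 1, 1]], [[0, 0, 0, 0, 0, 0, 0], [0, 0, 0]]),
    (12047, 2, 2596, [[0, 1, 1]], [[0, 0, 0], [0, 0, 0, 0, 0]]),
    (12056, 4, 2823, [[0, 1, 1, 1, 1, 1, 1]], [[0, 0, 0, 0, 0, 0, 0], [0, 0, 0, 0, 0, 0]]),
    (12065, 4, 2658, [[0, 1, 1, 1, 1]], [[0, 0, 0, 0, 0, 0, 0], [0, 0, 0, 0, 0, 0, 0, 0, 0]]),
    (12087, 7, 332, [[0, 1, 1]], [[0, 0, 0, 0, 0, 0, 0, 0, 0, 0, 0, 0, 0], [0, 0, 0, 0, 0, 0, 0, 0, 0, 0, 0, 0, 0, 0, 0, 0, 0, 0, 0, 0]]),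
    (12096, 7, 336, [[1, 1, 1, 1, 1, 1, 1, 1, 1, 1, 1]], [[0, 0, 0, 0, 0, 0, 0, 0, 0, 0, 0, 0, 0], [0, 0, 0, 0, 0, 0, 0, 0, 0, 0, 0, 0, 0, 0, 0, 0, 0, 0, 0]]),
    (12105, 4, 2643, [[0, 1, 1, 1]], [[0, 0, 0, 0, 0, 0, 0], [0, 0, 0, 0, 0, 0, 0, 0, 0, 0, 0, 0]]),
    (12127, 4, 2753, [[1]], [[0, 0, 0, 0, 0, 0, 0], [0]]),
    (12136, 2, 2613, [[0, 1]], [[0, 0, 0], [0, 0, 0, 0]]),
    (12145, 4, 424, [[0, 1, 1]], [[0, 0, 0, 0, 0, 0, 0], [0, 0, 0, 0]]),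
    (12167, 5, 2522, [[1]], [[0, 0, 0, 0, 0, 0], [0]]),
    (12176, 1, 5216, [[1]], [[0, 0], [0]]),
    (12193, 5, 2367, [[0, 1, 1, 1, 1, 1]], [[0, 0, 0, 0, 0, 0], [0, 0, 0, 0, 0, 0, 0, 0, 0, 0, 0]]),
    (12197, 4, 416, [[0, 1, 1, 1, 1, 1]], [[0, 0, 0, 0, 0, 0, 0], [0, 0, 0, 0, 0, 0, 0, 0, 0, 0]]),
    (12214, 2, 2673, [[0, 1, 1]], [[0, 0, 0], [0, 0]]),
    (12231, 4, 2737, [[0, 1, 1, 1, 1, 1, 1]], [[0, 0, 0, 0, 0, 0, 0], [0, 0, 0, 0, 0, 0, 0, 0, 0, 0, 0, 0, 0]]),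
    (12235, 4, 2566, [[0, 1, 1, 1, 1]], [[0, 0, 0, 0, 0, 0, 0], [0, 0]]),
    (12252, 7, 325, [[0, 1, 1]], [[0, 0, 0, 0, 0, 0, 0, 0, 0, 0, 0, 0, 0], [0, 0, 0, 0, 0, 0, 0]]),
    (12269, 7, 329, [[0, 1, 1, 1, 1, 1, 1, 1, 1, 1, 1, 1]], [[0, 0, 0, 0, 0, 0, 0, 0, 0, 0, 0, 0, 0], [0, 0, 0, 0, 0, 0]]),
    (12273, 4, 2551, [[1, 1, 1]], [[0, 0, 0, 0, 0, 0, 0], [0, 0, 0, 0, 0]]),
    (12290, 4, 2823, [[0, 1]], [[0, 0, 0, 0, 0, 0, 0], [0, 0, 0, 0, 0, 0, 0, 0]]),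
    (12307, 2, 2703, [[1]], [[0, 0, 0], [0]]),
    (12311, 4, 423, [[0, 1, 1]], [[0, 0, 0, 0, 0, 0, 0], [0, 0, 0, 0, 0, 0, 0, 0, 0, 0, 0]]),
    (12328, 5, 2437, [[0, 1]], [[0, 0, 0, 0, 0, 0], [0, 0, 0, 0, 0, 0, 0]]),
    (12345, 1, 2688, [[0, 1]], [[0, 0], [0, 0, 0]]),
    (12357, 2, 2908, [[0, 1, 1]], [[0, 0, 0], [0, 0]]),
    (12369, 7, 333, [[1, 1, 1, 1, 1]], [[0, 0, 0, 0, 0, 0, 0, 0, 0, 0, 0, 0, 0], [0, 0, 0, 0, 0, 0, 0, 0, 0, 0, 0, 0, 0, 0, 0, 0, 0, 0, 0, 0, 0]]),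
    (12381, 4, 2451, [[0, 1]], [[0, 0, 0, 0, 0, 0, 0], [0, 0, 0, 0, 0, 0, 0, 0]]),
    (12393, 5, 5720, [[0, 1]], [[0, 0, 0, 0, 0, 0], [0, 0, 0, 0, 0, 0, 0]]),
    (12405, 4, 328, [[0, 1, 1]], [[0, 0, 0, 0, 0, 0, 0], [0, 0, 0, 0]]),
    (12417, 4, 2820, [[0, 1, 1, 1]], [[0, 0, 0, 0, 0, 0, 0], [0, 0, 0, 0, 0, 0, 0, 0, 0, 0, 0, 0]]),
    (12429, 4, 2871, [[0, 1, 1, 1, 1]], [[0, 0, 0, 0, 0, 0, 0], [0, 0, 0, 0, 0, 0, 0, 0, 0]]),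
    (12441, 4, 327, [[1, 1, 1, 1, 1]], [[0, 0, 0, 0, 0, 0, 0], [0, 0, 0]]),
    (12466, 5, 5743, [[0, 1, 1, 1, 1, 1]], [[0, 0, 0, 0, 0, 0], [0, 0, 0, 0, 0, 0, 0, 0, 0, 0, 0]]),
    (12478, 4, 2479, [[0, 1, 1, 1, 1, 1, 1]], [[0, 0, 0, 0, 0, 0, 0], [0, 0, 0, 0, 0, 0, 0, 0, 0, 0, 0, 0, 0]]),
    (12490, 7, 330, [[0, 1, 1, 1, 1, 1, 1, 1, 1]], [[0, 0, 0, 0, 0, 0, 0, 0, 0, 0, 0, 0, 0], [0, 0, 0, 0, 0, 0, 0, 0, 0, 0, 0, 0, 0, 0, 0, 0, 0, 0]]),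
    (12502, 2, 2967, [[1]], [[0, 0, 0], [0]]),
    (12514, 1, 425, [[0, 1]], [[0, 0], [0, 0, 0]]),
    (12521, 4, 725, [[0, 1, 1, 1, 1]], [[0, 0, 0, 0, 0, 0, 0], [0, 0]]),
    (12541, 2, 425, [[0, 1, 1]], [[0, 0, 0], [0, 0, 0, 0, 0]]),
    (12548, 4, 2788, [[0, 1, 1]], [[0, 0, 0, 0, 0, 0, 0], [0, 0, 0, 0]]),
    (12568, 7, 325, [[0, 1, 1, 1, 1, 1, 1, 1, 1, 1, 1]], [[0, 0, 0, 0, 0, 0, 0, 0, 0, 0, 0, 0, 0], [0, 0, 0, 0]]),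
    (12575, 5, 427, [[0, 1]], [[0, 0, 0, 0, 0, 0], [0, 0, 0, 0, 0, 0, 0]]),
    (12595, 4, 425, [[0, 1, 1, 1, 1, 1, 1]], [[0, 0, 0, 0, 0, 0, 0], [0, 0, 0, 0, 0, 0, 0, 0, 0, 0, 0, 0, 0]]),
    (12602, 4, 420, [[0, 1]], [[0, 0, 0, 0, 0, 0, 0], [0, 0, 0, 0, 0, 0, 0, 0]]),
    (12622, 5, 425, [[0, 1, 1, 1, 1, 1]], [[0, 0, 0, 0, 0, 0], [0, 0, 0, 0, 0, 0, 0, 0, 0, 0, 0]]),
    (12629, 7, 332, [[1, 1, 1]], [[0, 0, 0, 0, 0, 0, 0, 0, 0, 0, 0, 0, 0], [0, 0, 0, 0, 0, 0, 0, 0, 0]]),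
    (12636, 4, 2820, [[1, 1, 1, 1, 1]], [[0, 0, 0, 0, 0, 0, 0], [0, 0, 0]]),
    (12656, 2, 419, [[0, 1]], [[0, 0, 0], [0, 0, 0, 0]]),
    (12663, 4, 719, [[1, 1, 1]], [[0, 0, 0, 0, 0, 0, 0], [0, 0, 0, 0, 0]]),
    (12683, 1, 726, [[0, 1]], [[0, 0], [0, 0, 0]]),
    (12698, 7, 334, [[0, 1, 1, 1, 1, 1, 1, 1, 1, 1]], [[0, 0, 0, 0, 0, 0, 0, 0, 0, 0, 0, 0, 0], [0, 0, 0, 0, 0, 0, 0, 0, 0, 0, 0, 0, 0, 0, 0, 0]]),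
    (12713, 5, 726, [[0, 1, 1, 1, 1, 1]], [[0, 0, 0, 0, 0, 0], [0, 0, 0, 0, 0, 0, 0, 0, 0, 0, 0]]),
    (12715, 4, 325, [[0, 1, 1, 1, 1]], [[0, 0, 0, 0, 0, 0, 0], [0, 0, 0, 0, 0, 0, 0, 0, 0]]),
    (12730, 4, 2551, [[0, 1, 1]], [[0, 0, 0, 0, 0, 0, 0], [0, 0, 0, 0]]),
    (12745, 4, 717, [[0, 1]], [[0, 0, 0, 0, 0, 0, 0], [0, 0, 0, 0, 0, 0, 0, 0]]),
    (12760, 2, 723, [[0, 1]], [[0, 0, 0], [0, 0, 0, 0]]),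
    (12775, 2, 726, [[0, 1, 1]], [[0, 0, 0], [0, 0, 0, 0, 0]]),
    (12790, 4, 726, [[0, 1, 1, 1, 1, 1, 1]], [[0, 0, 0, 0, 0, 0, 0], [0, 0, 0, 0, 0, 0, 0, 0, 0, 0, 0, 0, 0]]),
    (12792, 4, 2643, [[1, 1, 1, 1, 1]], [[0, 0, 0, 0, 0, 0, 0], [0, 0, 0]]),
    (12807, 4, 327, [[0, 1, 1, 1]], [[0, 0, 0, 0, 0, 0, 0], [0, 0, 0, 0, 0, 0, 0, 0, 0, 0, 0, 0]]),
    (12822, 5, 727, [[0, 1]], [[0, 0, 0, 0, 0, 0], [0, 0, 0, 0, 0, 0, 0]])]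

/-- Steps from class 9, part. -/
def step9_14 : List (Nat × Nat × Nat × List (List Nat) × List (List Nat)) :=
  [(12837, 7, 326, [[0, 1, 1, 1, 1]], [[0, 0, 0, 0, 0, 0, 0, 0, 0, 0, 0, 0, 0], [0, 0, 0, 0, 0, 0, 0, 0, 0, 0, 0, 0, 0, 0, 0, 0, 0, 0, 0, 0, 0, 0, 0]]),
    (12852, 1, 2395, [[0, 1]], [[0, 0], [0, 0, 0]]),
    (12862, 4, 2611, [[0, 1, 1, 1, 1, 1, 1]], [[0, 0, 0, 0, 0, 0, 0], [0, 0, 0, 0, 0, 0]]),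
    (12872, 4, 2507, [[0, 1, 1, 1]], [[0, 0, 0, 0, 0, 0, 0], [0, 0, 0, 0, 0, 0, 0, 0, 0, 0, 0, 0]]),
    (12895, 5, 3911, [[1]], [[0, 0, 0, 0, 0, 0], [0]]),
    (12905, 2, 5107, [[0, 1, 1]], [[0, 0, 0], [0, 0, 0, 0, 0]]),
    (12915, 7, 327, [[0, 1, 1, 1, 1, 1, 1]], [[0, 0, 0, 0, 0, 0, 0, 0, 0, 0, 0, 0, 0], [0, 0, 0, 0, 0, 0, 0, 0, 0, 0, 0]]),
    (12925, 4, 719, [[0, 1, 1]], [[0, 0, 0, 0, 0, 0, 0], [0, 0, 0, 0]]),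
    (12935, 4, 722, [[1, 1, 1, 1, 1]], [[0, 0, 0, 0, 0, 0, 0], [0, 0, 0]]),
    (12958, 7, 326, [[0, 1, 1, 1, 1, 1, 1, 1]], [[0, 0, 0, 0, 0, 0, 0, 0, 0, 0, 0, 0, 0], [0, 0]]),
    (12968, 2, 5109, [[0, 1]], [[0, 0, 0], [0, 0, 0, 0]]),
    (12978, 5, 3931, [[1, 1, 1, 1, 1]], [[0, 0, 0, 0, 0, 0], [0, 0, 0, 0, 0]]),
    (12988, 4, 2465, [[0, 1, 1, 1, 1]], [[0, 0, 0, 0, 0, 0, 0], [0, 0, 0, 0, 0, 0, 0, 0, 0]]),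
    (13011, 4, 2673, [[1]], [[0, 0, 0, 0, 0, 0, 0], [0]]),
    (13021, 1, 330, [[0, 1]], [[0, 0], [0, 0, 0]]),
    (13026, 4, 2395, [[0, 1, 1]], [[0, 0, 0, 0, 0, 0, 0], [0, 0, 0, 0, 0, 0, 0, 0, 0, 0, 0]]),
    (13044, 4, 333, [[0, 1]], [[0, 0, 0, 0, 0, 0, 0], [0, 0, 0, 0, 0, 0, 0, 0]]),
    (13062, 7, 328, [[0, 1]], [[0, 0, 0, 0, 0, 0, 0, 0, 0, 0, 0, 0, 0], [0, 0, 0, 0, 0, 0, 0, 0, 0, 0, 0, 0, 0, 0]]),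
    (13067, 4, 423, [[0, 1, 1, 1, 1]], [[0, 0, 0, 0, 0, 0, 0], [0, 0]]),
    (13085, 2, 331, [[0, 1]], [[0, 0, 0], [0, 0, 0, 0]]),
    (13103, 5, 330, [[0, 1, 1, 1, 1, 1]], [[0, 0, 0, 0, 0, 0], [0, 0, 0, 0, 0, 0, 0, 0, 0, 0, 0]]),
    (13108, 5, 334, [[0, 1]], [[0, 0, 0, 0, 0, 0], [0, 0, 0, 0, 0, 0, 0]]),
    (13126, 2, 330, [[0, 1, 1]], [[0, 0, 0], [0, 0, 0, 0, 0]]),
    (13131, 4, 424, [[1, 1, 1]], [[0, 0, 0, 0, 0, 0, 0], [0, 0, 0, 0, 0]]),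
    (13149, 7, 330, [[0, 1, 1, 1, 1, 1, 1, 1, 1, 1, 1, 1, 1]], [[0, 0, 0, 0, 0, 0, 0, 0, 0, 0, 0, 0, 0], [0, 0, 0, 0, 0, 0, 0, 0, 0, 0, 0, 0, 0, 0, 0, 0, 0, 0, 0, 0, 0, 0, 0, 0, 0]]),
    (13167, 4, 330, [[0, 1, 1, 1, 1, 1, 1]], [[0, 0, 0, 0, 0, 0, 0], [0, 0, 0, 0, 0, 0, 0, 0, 0, 0, 0, 0, 0]]),
    (13172, 4, 2465, [[0, 1, 1, 1, 1, 1]], [[0, 0, 0, 0, 0, 0, 0], [0, 0, 0, 0, 0, 0, 0, 0, 0, 0]]),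
    (13193, 5, 2643, [[0, 1, 1, 1, 1, 1]], [[0, 0, 0, 0, 0, 0], [0, 0, 0, 0, 0, 0, 0, 0, 0, 0, 0]]),
    (13206, 5, 2536, [[0, 1, 1, 1, 1, 1]], [[0, 0, 0, 0, 0, 0], [0, 0, 0, 0, 0, 0, 0, 0, 0, 0, 0]]),
    (13219, 5, 2611, [[0, 1, 1, 1, 1, 1]], [[0, 0, 0, 0, 0, 0], [0, 0, 0, 0, 0, 0, 0, 0, 0, 0, 0]]),
    (13232, 5, 2673, [[0, 1, 1, 1, 1, 1]], [[0, 0, 0, 0, 0, 0], [0, 0, 0, 0, 0, 0, 0, 0, 0, 0, 0]]),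
    (13245, 5, 2566, [[0, 1, 1, 1, 1, 1]], [[0, 0, 0, 0, 0, 0], [0, 0, 0, 0, 0, 0, 0, 0, 0, 0, 0]]),
    (13258, 5, 2628, [[0, 1, 1, 1, 1, 1]], [[0, 0, 0, 0, 0, 0], [0, 0, 0, 0, 0, 0, 0, 0, 0, 0, 0]]),
    (13271, 5, 2703, [[0, 1, 1, 1, 1, 1]], [[0, 0, 0, 0, 0, 0], [0, 0, 0, 0, 0, 0, 0, 0, 0, 0, 0]]),
    (13284, 5, 2596, [[0, 1, 1, 1, 1, 1]], [[0, 0, 0, 0, 0, 0], [0, 0, 0, 0, 0, 0, 0, 0, 0, 0, 0]]),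
    (13297, 5, 2658, [[0, 1, 1, 1, 1, 1]], [[0, 0, 0, 0, 0, 0], [0, 0, 0, 0, 0, 0, 0, 0, 0, 0, 0]]),
    (13310, 5, 2551, [[0, 1, 1, 1, 1, 1]], [[0, 0, 0, 0, 0, 0], [0, 0, 0, 0, 0, 0, 0, 0, 0, 0, 0]]),
    (13323, 5, 2613, [[0, 1, 1, 1, 1, 1]], [[0, 0, 0, 0, 0, 0], [0, 0, 0, 0, 0, 0, 0, 0, 0, 0, 0]]),
    (13336, 5, 2688, [[0, 1, 1, 1, 1, 1]], [[0, 0, 0, 0, 0, 0], [0, 0, 0, 0, 0, 0, 0, 0, 0, 0, 0]]),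
    (13349, 5, 2581, [[0, 1, 1, 1, 1, 1]], [[0, 0, 0, 0, 0, 0], [0, 0, 0, 0, 0, 0, 0, 0, 0, 0, 0]]),
    (13362, 5, 336, [[1]], [[0, 0, 0, 0, 0, 0], [0]]),
    (13373, 7, 332, [[0, 1, 1, 1, 1, 1, 1, 1, 1, 1, 1, 1, 1]], [[0, 0, 0, 0, 0, 0, 0, 0, 0, 0, 0, 0, 0], [0, 0, 0, 0, 0, 0, 0, 0, 0, 0, 0, 0]]),
    (13384, 1, 332, [[1]], [[0, 0], [0]]),
    (13395, 7, 330, [[1]], [[0, 0, 0, 0, 0, 0, 0, 0, 0, 0, 0, 0, 0], [0]]),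
    (13406, 5, 332, [[1, 1, 1, 1, 1]], [[0, 0, 0, 0, 0, 0], [0, 0, 0, 0, 0]]),
    (13417, 4, 428, [[0, 1, 1, 1]], [[0, 0, 0, 0, 0, 0, 0], [0, 0, 0, 0, 0, 0, 0, 0, 0, 0, 0, 0]]),
    (13441, 4, 2493, [[1, 1, 1, 1, 1]], [[0, 0, 0, 0, 0, 0, 0], [0, 0, 0]]),
    (13452, 4, 335, [[1]], [[0, 0, 0, 0, 0, 0, 0], [0]]),
    (13463, 2, 333, [[1]], [[0, 0, 0], [0]]),
    (13474, 2, 332, [[0, 1, 1]], [[0, 0, 0], [0, 0]]),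
    (13485, 4, 332, [[0, 1, 1, 1, 1, 1, 1]], [[0, 0, 0, 0, 0, 0, 0], [0, 0, 0, 0, 0, 0]]),
    (13496, 4, 2423, [[0, 1, 1]], [[0, 0, 0, 0, 0, 0, 0], [0, 0, 0, 0]]),
    (13507, 4, 427, [[0, 1, 1, 1, 1]], [[0, 0, 0, 0, 0, 0, 0], [0, 0, 0, 0, 0, 0, 0, 0, 0]]),
    (13531, 5, 3941, [[0, 1, 1, 1, 1, 1]], [[0, 0, 0, 0, 0, 0], [0, 0, 0, 0, 0, 0, 0, 0, 0, 0, 0]]),
    (13540, 1, 2409, [[1]], [[0, 0], [0]]),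
    (13549, 5, 3921, [[0, 1]], [[0, 0, 0, 0, 0, 0], [0, 0, 0, 0, 0, 0, 0]]),
    (13571, 4, 723, [[0, 1, 1]], [[0, 0, 0, 0, 0, 0, 0], [0, 0, 0, 0, 0, 0, 0, 0, 0, 0, 0]]),
    (13580, 2, 5139, [[1]], [[0, 0, 0], [0]]),
    (13589, 4, 2688, [[0, 1]], [[0, 0, 0, 0, 0, 0, 0], [0, 0, 0, 0, 0, 0, 0, 0]]),
    (13598, 4, 2521, [[1, 1, 1]], [[0, 0, 0, 0, 0, 0, 0], [0, 0, 0, 0, 0]]),
    (13620, 7, 328, [[0, 1, 1, 1, 1, 1, 1]], [[0, 0, 0, 0, 0, 0, 0, 0, 0, 0, 0, 0, 0], [0, 0, 0, 0, 0, 0, 0, 0, 0, 0, 0, 0, 0, 0, 0, 0, 0, 0, 0, 0, 0, 0, 0, 0]]),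
    (13629, 7, 327, [[1, 1, 1, 1, 1, 1, 1]], [[0, 0, 0, 0, 0, 0, 0, 0, 0, 0, 0, 0, 0], [0, 0, 0, 0, 0, 0, 0, 0, 0, 0, 0, 0, 0, 0, 0]]),
    (13638, 4, 2479, [[0, 1, 1, 1, 1]], [[0, 0, 0, 0, 0, 0, 0], [0, 0]]),
    (13660, 4, 2613, [[0, 1, 1, 1, 1, 1, 1]], [[0, 0, 0, 0, 0, 0, 0], [0, 0, 0, 0, 0, 0, 0, 0, 0, 0, 0, 0, 0]])]

/-- Steps from class 9, part. -/
def step9_15 : List (Nat × Nat × Nat × List (List Nat) × List (List Nat)) :=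
  [(13669, 2, 5124, [[0, 1, 1]], [[0, 0, 0], [0, 0]]),
    (13678, 4, 726, [[0, 1, 1, 1, 1, 1]], [[0, 0, 0, 0, 0, 0, 0], [0, 0, 0, 0, 0, 0, 0, 0, 0, 0]]),
    (13700, 5, 721, [[1]], [[0, 0, 0, 0, 0, 0], [0]]),
    (13707, 7, 326, [[1, 1, 1, 1, 1, 1, 1, 1, 1]], [[0, 0, 0, 0, 0, 0, 0, 0, 0, 0, 0, 0, 0], [0, 0, 0]]),
    (13727, 4, 2613, [[0, 1, 1]], [[0, 0, 0, 0, 0, 0, 0], [0, 0, 0, 0, 0, 0, 0, 0, 0, 0, 0]]),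
    (13734, 2, 720, [[0, 1, 1]], [[0, 0, 0], [0, 0]]),
    (13741, 4, 332, [[1, 1, 1]], [[0, 0, 0, 0, 0, 0, 0], [0, 0, 0, 0, 0]]),
    (13761, 1, 720, [[1]], [[0, 0], [0]]),
    (13768, 4, 330, [[0, 1, 1, 1, 1]], [[0, 0, 0, 0, 0, 0, 0], [0, 0]]),
    (13788, 2, 717, [[1]], [[0, 0, 0], [0]]),
    (13795, 4, 2536, [[0, 1, 1, 1, 1, 1]], [[0, 0, 0, 0, 0, 0, 0], [0, 0, 0, 0, 0, 0, 0, 0, 0, 0]]),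
    (13815, 7, 331, [[0, 1, 1, 1, 1]], [[0, 0, 0, 0, 0, 0, 0, 0, 0, 0, 0, 0, 0], [0, 0, 0, 0, 0, 0, 0, 0, 0, 0]]),
    (13822, 5, 720, [[1, 1, 1, 1, 1]], [[0, 0, 0, 0, 0, 0], [0, 0, 0, 0, 0]]),
    (13842, 4, 724, [[1]], [[0, 0, 0, 0, 0, 0, 0], [0]]),
    (13849, 4, 720, [[0, 1, 1, 1, 1, 1, 1]], [[0, 0, 0, 0, 0, 0, 0], [0, 0, 0, 0, 0, 0]]),
    (13869, 5, 428, [[1]], [[0, 0, 0, 0, 0, 0], [0]]),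
    (13874, 5, 426, [[1, 1, 1, 1, 1]], [[0, 0, 0, 0, 0, 0], [0, 0, 0, 0, 0]]),
    (13892, 2, 420, [[1]], [[0, 0, 0], [0]]),
    (13897, 4, 727, [[0, 1, 1, 1, 1]], [[0, 0, 0, 0, 0, 0, 0], [0, 0, 0, 0, 0, 0, 0, 0, 0]]),
    (13915, 7, 332, [[0, 1, 1, 1, 1, 1, 1, 1, 1, 1, 1]], [[0, 0, 0, 0, 0, 0, 0, 0, 0, 0, 0, 0, 0], [0, 0, 0, 0, 0, 0, 0, 0, 0, 0, 0, 0, 0, 0, 0, 0, 0]]),
    (13933, 4, 421, [[1]], [[0, 0, 0, 0, 0, 0, 0], [0]]),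
    (13938, 4, 2737, [[0, 1, 1, 1, 1, 1]], [[0, 0, 0, 0, 0, 0, 0], [0, 0, 0, 0, 0, 0, 0, 0, 0, 0]]),
    (13956, 1, 426, [[1]], [[0, 0], [0]]),
    (13974, 4, 2705, [[0, 1, 1]], [[0, 0, 0, 0, 0, 0, 0], [0, 0, 0, 0, 0, 0, 0, 0, 0, 0, 0]]),
    (13979, 4, 426, [[0, 1, 1, 1, 1, 1, 1]], [[0, 0, 0, 0, 0, 0, 0], [0, 0, 0, 0, 0, 0]]),
    (13997, 7, 326, [[0, 1, 1, 1]], [[0, 0, 0, 0, 0, 0, 0, 0, 0, 0, 0, 0, 0], [0, 0, 0, 0, 0, 0, 0, 0, 0, 0, 0, 0, 0, 0, 0, 0, 0, 0, 0, 0, 0, 0]]),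
    (14002, 4, 721, [[0, 1, 1, 1]], [[0, 0, 0, 0, 0, 0, 0], [0, 0, 0, 0, 0, 0, 0, 0, 0, 0, 0, 0]]),
    (14020, 2, 426, [[0, 1, 1]], [[0, 0, 0], [0, 0]]),
    (14038, 5, 5637, [[1]], [[0, 0, 0, 0, 0, 0], [0]]),
    (14041, 4, 2737, [[0, 1, 1, 1, 1]], [[0, 0, 0, 0, 0, 0, 0], [0, 0]]),
    (14057, 4, 2521, [[0, 1, 1, 1, 1, 1, 1]], [[0, 0, 0, 0, 0, 0, 0], [0, 0, 0, 0, 0, 0]]),
    (14073, 1, 2551, [[1]], [[0, 0], [0]]),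
    (14089, 4, 2493, [[1]], [[0, 0, 0, 0, 0, 0, 0], [0]]),
    (14092, 4, 2855, [[1, 1, 1]], [[0, 0, 0, 0, 0, 0, 0], [0, 0, 0, 0, 0]]),
    (14108, 5, 5647, [[1, 1, 1, 1, 1]], [[0, 0, 0, 0, 0, 0], [0, 0, 0, 0, 0]]),
    (14124, 2, 3005, [[0, 1]], [[0, 0, 0], [0, 0, 0, 0]]),
    (14140, 7, 336, [[0, 1, 1, 1, 1, 1]], [[0, 0, 0, 0, 0, 0, 0, 0, 0, 0, 0, 0, 0], [0, 0, 0, 0, 0, 0, 0, 0]]),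
    (14156, 4, 331, [[0, 1, 1]], [[0, 0, 0, 0, 0, 0, 0], [0, 0, 0, 0, 0, 0, 0, 0, 0, 0, 0]]),
    (14159, 4, 330, [[0, 1, 1, 1, 1, 1]], [[0, 0, 0, 0, 0, 0, 0], [0, 0, 0, 0, 0, 0, 0, 0, 0, 0]]),
    (14175, 7, 333, [[0, 1, 1, 1, 1, 1, 1, 1, 1]], [[0, 0, 0, 0, 0, 0, 0, 0, 0, 0, 0, 0, 0], [0, 0, 0, 0, 0]]),
    (14191, 2, 2946, [[0, 1, 1]], [[0, 0, 0], [0, 0, 0, 0, 0]]),
    (14207, 5, 2381, [[1]], [[0, 0, 0, 0, 0, 0], [0]]),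
    (14221, 4, 421, [[1, 1, 1, 1, 1]], [[0, 0, 0, 0, 0, 0, 0], [0, 0, 0]]),
    (14222, 4, 2688, [[0, 1, 1, 1, 1]], [[0, 0, 0, 0, 0, 0, 0], [0, 0, 0, 0, 0, 0, 0, 0, 0]]),
    (14236, 4, 2673, [[0, 1, 1, 1]], [[0, 0, 0, 0, 0, 0, 0], [0, 0, 0, 0, 0, 0, 0, 0, 0, 0, 0, 0]]),
    (14250, 4, 428, [[0, 1, 1]], [[0, 0, 0, 0, 0, 0, 0], [0, 0, 0, 0]]),
    (14264, 5, 2493, [[1, 1, 1, 1, 1]], [[0, 0, 0, 0, 0, 0], [0, 0, 0, 0, 0]]),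
    (14278, 4, 2855, [[0, 1, 1, 1, 1, 1, 1]], [[0, 0, 0, 0, 0, 0, 0], [0, 0, 0, 0, 0, 0]]),
    (14292, 7, 325, [[1, 1, 1, 1, 1, 1, 1, 1, 1, 1, 1]], [[0, 0, 0, 0, 0, 0, 0, 0, 0, 0, 0, 0, 0], [0, 0, 0, 0, 0, 0, 0, 0, 0, 0, 0, 0, 0, 0, 0, 0, 0, 0, 0]]),
    (14306, 2, 2643, [[0, 1]], [[0, 0, 0], [0, 0, 0, 0]]),
    (14320, 1, 5109, [[0, 1]], [[0, 0], [0, 0, 0]]),
    (14334, 2, 2613, [[0, 1, 1]], [[0, 0, 0], [0, 0, 0, 0, 0]]),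
    (14348, 7, 334, [[0, 1, 1]], [[0, 0, 0, 0, 0, 0, 0, 0, 0, 0, 0, 0, 0], [0, 0, 0, 0, 0, 0, 0, 0, 0, 0, 0, 0, 0, 0, 0, 0, 0, 0, 0, 0]]),
    (14362, 4, 2772, [[1]], [[0, 0, 0, 0, 0, 0, 0], [0]]),
    (14376, 5, 2521, [[0, 1, 1, 1, 1, 1]], [[0, 0, 0, 0, 0, 0], [0, 0, 0, 0, 0, 0, 0, 0, 0, 0, 0]]),
    (14388, 4, 2705, [[0, 1, 1, 1, 1, 1, 1]], [[0, 0, 0, 0, 0, 0, 0], [0, 0, 0, 0, 0, 0, 0, 0, 0, 0, 0, 0, 0]]),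
    (14400, 7, 327, [[0, 1, 1, 1, 1, 1, 1, 1, 1, 1, 1, 1]], [[0, 0, 0, 0, 0, 0, 0, 0, 0, 0, 0, 0, 0], [0, 0, 0, 0, 0, 0]]),
    (14412, 2, 2673, [[1]], [[0, 0, 0], [0]]),
    (14424, 1, 5169, [[1]], [[0, 0], [0]]),
    (14436, 2, 2643, [[0, 1, 1]], [[0, 0, 0], [0, 0]]),
    (14448, 7, 336, [[0, 1, 1]], [[0, 0, 0, 0, 0, 0, 0, 0, 0, 0, 0, 0, 0], [0, 0, 0, 0, 0, 0, 0]]),
    (14460, 4, 2804, [[0, 1]], [[0, 0, 0, 0, 0, 0, 0], [0, 0, 0, 0, 0, 0, 0, 0]]),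
    (14472, 5, 2409, [[0, 1]], [[0, 0, 0, 0, 0, 0], [0, 0, 0, 0, 0, 0, 0]]),
    (14484, 4, 425, [[0, 1, 1, 1, 1, 1]], [[0, 0, 0, 0, 0, 0, 0], [0, 0, 0, 0, 0, 0, 0, 0, 0, 0]])]

/-- Steps from class 9, part. -/
def step9_16 : List (Nat × Nat × Nat × List (List Nat) × List (List Nat)) :=
  [(14496, 4, 2536, [[0, 1, 1, 1, 1]], [[0, 0, 0, 0, 0, 0, 0], [0, 0]]),
    (14508, 4, 2703, [[1, 1, 1]], [[0, 0, 0, 0, 0, 0, 0], [0, 0, 0, 0, 0]]),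
    (14533, 4, 419, [[0, 1, 1]], [[0, 0, 0, 0, 0, 0, 0], [0, 0, 0, 0, 0, 0, 0, 0, 0, 0, 0]]),
    (14545, 5, 5604, [[0, 1, 1, 1, 1, 1]], [[0, 0, 0, 0, 0, 0], [0, 0, 0, 0, 0, 0, 0, 0, 0, 0, 0]]),
    (14555, 2, 2908, [[1]], [[0, 0, 0], [0]]),
    (14565, 7, 328, [[1, 1, 1, 1, 1]], [[0, 0, 0, 0, 0, 0, 0, 0, 0, 0, 0, 0, 0], [0, 0, 0, 0, 0, 0, 0, 0, 0, 0, 0, 0, 0, 0, 0, 0, 0, 0, 0, 0, 0]]),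
    (14575, 4, 336, [[0, 1, 1]], [[0, 0, 0, 0, 0, 0, 0], [0, 0, 0, 0]]),
    (14598, 4, 335, [[1, 1, 1, 1, 1]], [[0, 0, 0, 0, 0, 0, 0], [0, 0, 0]]),
    (14608, 7, 325, [[0, 1, 1, 1, 1, 1, 1, 1, 1]], [[0, 0, 0, 0, 0, 0, 0, 0, 0, 0, 0, 0, 0], [0, 0, 0, 0, 0, 0, 0, 0, 0, 0, 0, 0, 0, 0, 0, 0, 0, 0]]),
    (14618, 2, 3005, [[0, 1, 1]], [[0, 0, 0], [0, 0]]),
    (14628, 5, 5594, [[0, 1]], [[0, 0, 0, 0, 0, 0], [0, 0, 0, 0, 0, 0, 0]]),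
    (14638, 4, 2804, [[0, 1, 1, 1, 1]], [[0, 0, 0, 0, 0, 0, 0], [0, 0, 0, 0, 0, 0, 0, 0, 0]]),
    (14661, 4, 2409, [[0, 1, 1, 1, 1, 1, 1]], [[0, 0, 0, 0, 0, 0, 0], [0, 0, 0, 0, 0, 0, 0, 0, 0, 0, 0, 0, 0]]),
    (14671, 1, 2613, [[0, 1]], [[0, 0], [0, 0, 0]]),
    (14681, 4, 2381, [[0, 1]], [[0, 0, 0, 0, 0, 0, 0], [0, 0, 0, 0, 0, 0, 0, 0]]),
    (14691, 4, 2753, [[0, 1, 1, 1]], [[0, 0, 0, 0, 0, 0, 0], [0, 0, 0, 0, 0, 0, 0, 0, 0, 0, 0, 0]]),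
    (14714, 5, 419, [[0, 1, 1, 1, 1, 1]], [[0, 0, 0, 0, 0, 0], [0, 0, 0, 0, 0, 0, 0, 0, 0, 0, 0]]),
    (14722, 2, 426, [[0, 1]], [[0, 0, 0], [0, 0, 0, 0]]),
    (14730, 4, 726, [[0, 1, 1, 1, 1]], [[0, 0, 0, 0, 0, 0, 0], [0, 0]]),
    (14751, 7, 335, [[0, 1, 1, 1, 1, 1, 1, 1, 1, 1, 1]], [[0, 0, 0, 0, 0, 0, 0, 0, 0, 0, 0, 0, 0], [0, 0, 0, 0]]),
    (14759, 4, 427, [[0, 1]], [[0, 0, 0, 0, 0, 0, 0], [0, 0, 0, 0, 0, 0, 0, 0]]),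
    (14780, 4, 2772, [[1, 1, 1, 1, 1]], [[0, 0, 0, 0, 0, 0, 0], [0, 0, 0]]),
    (14788, 1, 419, [[0, 1]], [[0, 0], [0, 0, 0]]),
    (14796, 4, 2753, [[0, 1, 1]], [[0, 0, 0, 0, 0, 0, 0], [0, 0, 0, 0]]),
    (14817, 4, 419, [[0, 1, 1, 1, 1, 1, 1]], [[0, 0, 0, 0, 0, 0, 0], [0, 0, 0, 0, 0, 0, 0, 0, 0, 0, 0, 0, 0]]),
    (14825, 7, 329, [[1, 1, 1]], [[0, 0, 0, 0, 0, 0, 0, 0, 0, 0, 0, 0, 0], [0, 0, 0, 0, 0, 0, 0, 0, 0]]),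
    (14833, 4, 720, [[1, 1, 1]], [[0, 0, 0, 0, 0, 0, 0], [0, 0, 0, 0, 0]]),
    (14854, 2, 419, [[0, 1, 1]], [[0, 0, 0], [0, 0, 0, 0, 0]]),
    (14862, 5, 421, [[0, 1]], [[0, 0, 0, 0, 0, 0], [0, 0, 0, 0, 0, 0, 0]]),
    (14883, 5, 723, [[0, 1, 1, 1, 1, 1]], [[0, 0, 0, 0, 0, 0], [0, 0, 0, 0, 0, 0, 0, 0, 0, 0, 0]]),
    (14889, 4, 727, [[0, 1]], [[0, 0, 0, 0, 0, 0, 0], [0, 0, 0, 0, 0, 0, 0, 0]]),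
    (14908, 4, 723, [[0, 1, 1, 1, 1, 1, 1]], [[0, 0, 0, 0, 0, 0, 0], [0, 0, 0, 0, 0, 0, 0, 0, 0, 0, 0, 0, 0]]),
    (14914, 5, 724, [[0, 1]], [[0, 0, 0, 0, 0, 0], [0, 0, 0, 0, 0, 0, 0]]),
    (14933, 7, 330, [[0, 1, 1, 1, 1, 1, 1, 1, 1, 1]], [[0, 0, 0, 0, 0, 0, 0, 0, 0, 0, 0, 0, 0], [0, 0, 0, 0, 0, 0, 0, 0, 0, 0, 0, 0, 0, 0, 0, 0]]),
    (14939, 4, 2673, [[0, 1, 1]], [[0, 0, 0, 0, 0, 0, 0], [0, 0, 0, 0]]),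
    (14958, 2, 723, [[0, 1, 1]], [[0, 0, 0], [0, 0, 0, 0, 0]]),
    (14964, 4, 336, [[0, 1, 1, 1]], [[0, 0, 0, 0, 0, 0, 0], [0, 0, 0, 0, 0, 0, 0, 0, 0, 0, 0, 0]]),
    (14983, 1, 723, [[0, 1]], [[0, 0], [0, 0, 0]]),
    (14989, 4, 334, [[0, 1, 1, 1, 1]], [[0, 0, 0, 0, 0, 0, 0], [0, 0, 0, 0, 0, 0, 0, 0, 0]]),
    (15008, 2, 720, [[0, 1]], [[0, 0, 0], [0, 0, 0, 0]]),
    (15027, 4, 2596, [[1, 1, 1, 1, 1]], [[0, 0, 0, 0, 0, 0, 0], [0, 0, 0]]),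
    (15033, 7, 335, [[0, 1, 1, 1, 1]], [[0, 0, 0, 0, 0, 0, 0, 0, 0, 0, 0, 0, 0], [0, 0, 0, 0, 0, 0, 0, 0, 0, 0, 0, 0, 0, 0, 0, 0, 0, 0, 0, 0, 0, 0, 0]]),
    (15052, 5, 3994, [[1]], [[0, 0, 0, 0, 0, 0], [0]]),
    (15056, 4, 721, [[0, 1, 1]], [[0, 0, 0, 0, 0, 0, 0], [0, 0, 0, 0]]),
    (15073, 2, 5124, [[0, 1]], [[0, 0, 0], [0, 0, 0, 0]]),
    (15090, 4, 2596, [[1]], [[0, 0, 0, 0, 0, 0, 0], [0]]),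
    (15094, 4, 2423, [[0, 1, 1, 1]], [[0, 0, 0, 0, 0, 0, 0], [0, 0, 0, 0, 0, 0, 0, 0, 0, 0, 0, 0]]),
    (15111, 7, 334, [[0, 1, 1, 1, 1, 1, 1]], [[0, 0, 0, 0, 0, 0, 0, 0, 0, 0, 0, 0, 0], [0, 0, 0, 0, 0, 0, 0, 0, 0, 0, 0]]),
    (15128, 7, 333, [[0, 1, 1, 1, 1, 1, 1, 1]], [[0, 0, 0, 0, 0, 0, 0, 0, 0, 0, 0, 0, 0], [0, 0]]),
    (15132, 4, 2381, [[0, 1, 1, 1, 1]], [[0, 0, 0, 0, 0, 0, 0], [0, 0, 0, 0, 0, 0, 0, 0, 0]]),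
    (15149, 4, 2703, [[0, 1, 1, 1, 1, 1, 1]], [[0, 0, 0, 0, 0, 0, 0], [0, 0, 0, 0, 0, 0]]),
    (15166, 2, 5109, [[0, 1, 1]], [[0, 0, 0], [0, 0, 0, 0, 0]]),
    (15183, 4, 724, [[1, 1, 1, 1, 1]], [[0, 0, 0, 0, 0, 0, 0], [0, 0, 0]]),
    (15187, 5, 4027, [[1, 1, 1, 1, 1]], [[0, 0, 0, 0, 0, 0], [0, 0, 0, 0, 0]]),
    (15204, 1, 2493, [[0, 1]], [[0, 0], [0, 0, 0]]),
    (15221, 5, 331, [[0, 1, 1, 1, 1, 1]], [[0, 0, 0, 0, 0, 0], [0, 0, 0, 0, 0, 0, 0, 0, 0, 0, 0]]),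
    (15223, 4, 426, [[1, 1, 1]], [[0, 0, 0, 0, 0, 0, 0], [0, 0, 0, 0, 0]]),
    (15238, 4, 2479, [[0, 1, 1, 1, 1, 1]], [[0, 0, 0, 0, 0, 0, 0], [0, 0, 0, 0, 0, 0, 0, 0, 0, 0]]),
    (15253, 4, 334, [[0, 1]], [[0, 0, 0, 0, 0, 0, 0], [0, 0, 0, 0, 0, 0, 0, 0]]),
    (15268, 2, 332, [[0, 1]], [[0, 0, 0], [0, 0, 0, 0]]),
    (15283, 2, 331, [[0, 1, 1]], [[0, 0, 0], [0, 0, 0, 0, 0]]),
    (15298, 4, 331, [[0, 1, 1, 1, 1, 1, 1]], [[0, 0, 0, 0, 0, 0, 0], [0, 0, 0, 0, 0, 0, 0, 0, 0, 0, 0, 0, 0]]),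
    (15313, 4, 2409, [[0, 1, 1]], [[0, 0, 0, 0, 0, 0, 0], [0, 0, 0, 0, 0, 0, 0, 0, 0, 0, 0]]),
    (15315, 4, 425, [[0, 1, 1, 1, 1]], [[0, 0, 0, 0, 0, 0, 0], [0, 0]])]

/-- Steps from class 9, part. -/
def step9_17 : List (Nat × Nat × Nat × List (List Nat) × List (List Nat)) :=
  [(15330, 5, 335, [[0, 1]], [[0, 0, 0, 0, 0, 0], [0, 0, 0, 0, 0, 0, 0]]),
    (15345, 7, 331, [[0, 1, 1, 1, 1, 1, 1, 1, 1, 1, 1, 1, 1]], [[0, 0, 0, 0, 0, 0, 0, 0, 0, 0, 0, 0, 0], [0, 0, 0, 0, 0, 0, 0, 0, 0, 0, 0, 0, 0, 0, 0, 0, 0, 0, 0, 0, 0, 0, 0, 0, 0]]),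
    (15360, 1, 331, [[0, 1]], [[0, 0], [0, 0, 0]]),
    (15375, 7, 329, [[0, 1]], [[0, 0, 0, 0, 0, 0, 0, 0, 0, 0, 0, 0, 0], [0, 0, 0, 0, 0, 0, 0, 0, 0, 0, 0, 0, 0, 0]])]

/-- Steps from class 9. -/
def step9 : List (Nat × Nat × Nat × List (List Nat) × List (List Nat)) := List.flatten [step9_0, step9_1, step9_2, step9_3, step9_4, step9_5, step9_6, step9_7, step9_8, step9_9, step9_10, step9_11, step9_12, step9_13, step9_14, step9_15, step9_16, step9_17]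

/-- Steps from class 10, part. -/
def step10_0 : List (Nat × Nat × Nat × List (List Nat) × List (List Nat)) :=
  [(325, 10, 325, [[0], [0, 0, 0, 1, 0]], [])]

/-- Steps from class 10. -/
def step10 : List (Nat × Nat × Nat × List (List Nat) × List (List Nat)) := List.flatten [step10_0]

/-- Steps from class 11, part. -/
def step11_0 : List (Nat × Nat × Nat × List (List Nat) × List (List Nat)) :=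
  [(325, 11, 325, [[0], [0, 0, 0, 1, 0]], [[0], [0, 0, 0, 1, 0], [0]]),
    (326, 10, 325, [[0], [0, 0, 0, 2, 0]], []),
    (327, 10, 325, [[0], [0, 0, 0, 1, 0, 2, 0, 2, 1]], []),
    (2381, 10, 325, [[0], [1, 2, 1, 2, 1, 2, 2, 1, 0]], []),
    (2395, 10, 325, [[0], [0, 0, 1, 0, 2, 1, 2, 1]], []),
    (2409, 10, 325, [[0], [2, 2, 0, 2, 1]], []),
    (2423, 10, 325, [[0], [0, 0, 2, 2, 2, 1, 0, 1, 0]], []),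
    (2437, 10, 325, [[0], [0, 2, 0, 2, 0, 2, 2, 2]], []),
    (2451, 10, 325, [[0], [1, 2, 2, 2, 1, 0, 1, 2, 1, 0]], []),
    (2581, 10, 325, [[0], [2, 0, 2, 2, 2, 0]], []),
    (2643, 10, 325, [[0], [1, 2, 0, 1, 2, 1]], []),
    (2658, 10, 325, [[0], [2, 2, 0, 1, 0, 2, 0]], [])]

/-- Steps from class 11. -/
def step11 : List (Nat × Nat × Nat × List (List Nat) × List (List Nat)) := List.flatten [step11_0]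

/-- Steps from class 12, part. -/
def step12_0 : List (Nat × Nat × Nat × List (List Nat) × List (List Nat)) :=
  [(325, 12, 325, [[0], [0, 0, 0, 1, 0]], [[0], [0, 0, 0, 1, 0], [0]]),
    (326, 10, 325, [[0], [0, 0, 0, 2, 0]], [])]

/-- Steps from class 12. -/
def step12 : List (Nat × Nat × Nat × List (List Nat) × List (List Nat)) := List.flatten [step12_0]

/-- Steps from class 13, part. -/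
def step13_0 : List (Nat × Nat × Nat × List (List Nat) × List (List Nat)) :=
  [(325, 13, 325, [[0], [0, 0, 0, 1, 0]], [[0], [0, 0, 0, 1, 0], [0]]),
    (326, 10, 325, [[0], [0, 0, 0, 2, 0]], []),
    (327, 10, 325, [[0], [0, 1, 0, 2, 0, 2, 1, 2, 0]], []),
    (329, 10, 325, [[0], [1, 0, 2, 0, 1, 2, 1, 0]], []),
    (332, 10, 325, [[0], [0, 2, 0, 2, 0]], []),
    (416, 11, 325, [[0], [1, 0, 2]], [[0], [1, 0, 1], [0, 0, 0, 1, 0]]),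
    (417, 10, 325, [[0], [0, 0, 1, 0, 2, 2, 0, 2, 2]], []),
    (418, 10, 325, [[0], [2, 2, 2, 2, 1, 0, 2, 0, 1]], []),
    (420, 10, 325, [[0], [0, 1, 0, 2, 0, 2, 0]], []),
    (423, 10, 325, [[0], [2, 2, 0, 2, 0, 2, 0, 2, 2, 0, 2]], []),
    (2381, 10, 325, [[0], [2, 2, 1, 2, 2, 2, 0, 1, 2, 0]], []),
    (2395, 10, 325, [[0], [2, 0, 1, 2, 1, 2, 2, 1]], []),
    (2409, 10, 325, [[0], [0, 2, 0, 2, 2, 0, 1, 2, 2, 0, 2, 2, 1]], []),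
    (2423, 10, 325, [[0], [0, 0, 2, 2, 2, 0, 1]], []),
    (2437, 10, 325, [[0], [0, 2, 0, 2, 0, 2, 2, 2]], []),
    (2451, 10, 325, [[0], [2, 0, 2, 2, 1, 0, 2, 1, 0]], []),
    (2465, 10, 325, [[0], [0, 0, 2, 1, 2, 0, 2, 1]], []),
    (2479, 10, 325, [[0], [2, 2, 1, 2, 1, 2, 1]], []),
    (2493, 10, 325, [[0], [0, 2, 2, 0, 2, 2, 2, 2, 0, 2, 0, 1]], []),
    (2507, 10, 325, [[0], [0, 1, 2, 2, 1, 2, 1, 2, 2]], []),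
    (2521, 10, 325, [[0], [0, 1, 2, 0, 1, 2, 0, 2, 1]], []),
    (2566, 10, 325, [[0], [1, 2, 0, 1, 2, 2, 1]], []),
    (2581, 10, 325, [[0], [2, 0, 2, 2, 2, 0]], []),
    (2611, 10, 325, [[0], [2, 0, 2, 0, 2, 2, 1, 2, 0]], []),
    (2628, 10, 325, [[0], [0, 0, 2, 1, 2, 0, 2, 0]], []),
    (2643, 10, 325, [[0], [0, 2, 2, 2, 0, 1, 2, 2, 1, 0]], []),
    (2658, 10, 325, [[0], [2, 2, 0, 1, 2, 0, 1]], []),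
    (2688, 10, 325, [[0], [1, 2, 1, 0, 2, 0, 2]], []),
    (3401, 10, 325, [[0], [0, 2, 0, 2, 0, 2, 2, 2, 0]], []),
    (3408, 10, 325, [[0], [0, 1, 2, 1, 0, 2, 1, 0]], []),
    (3482, 10, 325, [[0], [0, 2, 1, 2, 1, 2, 0, 1, 0, 2]], []),
    (3489, 10, 325, [[0], [1, 2, 2, 0, 1, 2, 1]], []),
    (4838, 10, 325, [[0], [0, 0, 1, 2, 2, 1, 2, 0, 2, 2, 1]], []),
    (4880, 10, 325, [[0], [0, 0, 1, 2, 2, 0, 2, 2, 0, 1, 0]], [])]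

/-- Steps from class 13. -/
def step13 : List (Nat × Nat × Nat × List (List Nat) × List (List Nat)) := List.flatten [step13_0]

/-- Steps from class 14, part. -/
def step14_0 : List (Nat × Nat × Nat × List (List Nat) × List (List Nat)) :=
  [(325, 14, 325, [[0], [0, 0, 0, 1, 0]], [[0], [0, 0, 0, 1, 0], [0]]),
    (326, 10, 325, [[0], [0, 0, 0, 2, 0]], []),
    (327, 10, 325, [[0], [0, 1, 2, 0, 2, 1, 2, 2, 2]], []),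
    (332, 10, 325, [[0], [0, 2, 0, 2, 0]], []),
    (416, 10, 325, [[0], [1, 1, 2, 0, 1, 2]], []),
    (417, 10, 325, [[0], [1, 2, 2, 0, 1, 2, 1, 0, 2]], []),
    (419, 10, 325, [[0], [0, 1, 0, 2, 2, 2, 2, 1, 2]], []),
    (420, 10, 325, [[0], [0, 0, 1, 0, 2, 2, 2, 0]], []),
    (421, 10, 325, [[0], [1, 2, 2, 1, 2, 2, 0]], []),
    (2423, 10, 325, [[0], [0, 2, 2, 1, 2, 1, 1, 2]], []),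
    (2465, 10, 325, [[0], [0, 1, 2, 2, 2, 1, 2, 2]], [])]

/-- Steps from class 14. -/
def step14 : List (Nat × Nat × Nat × List (List Nat) × List (List Nat)) := List.flatten [step14_0]

/-- Steps from class 15, part. -/
def step15_0 : List (Nat × Nat × Nat × List (List Nat) × List (List Nat)) :=
  [(325, 15, 325, [[0], [0, 0, 1]], [[0], [0, 0, 1], [0]]),
    (326, 10, 325, [[0], [0, 0, 0, 2, 0]], []),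
    (327, 10, 325, [[0], [2, 2, 1, 0, 2, 2]], []),
    (328, 10, 325, [[0], [0, 0, 1, 2, 0, 2, 0, 2, 0, 2, 1]], []),
    (329, 10, 325, [[0], [1, 2, 0, 2, 0, 2, 1]], []),
    (330, 10, 325, [[0], [1, 2, 0, 2, 0, 2, 0, 2, 0, 2, 1]], []),
    (331, 10, 325, [[0], [0, 0, 1, 2, 0, 2, 1]], []),
    (416, 11, 325, [[0], [1, 2, 1]], [[0], [1, 0, 1, 0, 1], [0, 0, 0, 1, 0]]),
    (417, 10, 325, [[0], [0, 2, 0, 2, 1, 2, 0]], []),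
    (418, 10, 325, [[0], [2, 0, 2, 2, 2, 2, 1, 2, 0, 2]], []),
    (419, 10, 325, [[0], [0, 0, 1, 2, 1, 2, 0, 2, 1]], []),
    (420, 10, 325, [[0], [0, 2, 0, 2, 0, 2, 1]], []),
    (421, 10, 325, [[0], [1, 0, 2, 2, 1, 2, 2, 2]], []),
    (422, 10, 325, [[0], [1, 2, 2, 1, 2, 0, 1, 2, 2]], []),
    (716, 10, 325, [[0], [2, 1, 0, 2, 1, 2, 2, 1, 2]], []),
    (717, 10, 325, [[0], [0, 0, 0, 2, 1, 2, 0, 2, 1]], []),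
    (718, 10, 325, [[0], [2, 1, 2, 0, 2, 1, 2, 2]], []),
    (719, 10, 325, [[0], [2, 2, 2, 2, 1, 2, 1, 0, 2, 0]], []),
    (720, 10, 325, [[0], [2, 1, 0, 2, 2, 0]], []),
    (721, 10, 325, [[0], [1, 2, 1, 2, 1, 2, 1]], []),
    (2381, 10, 325, [[0], [2, 2, 2, 1, 0]], []),
    (2395, 10, 325, [[0], [0, 2, 2, 0, 2, 1, 0, 2]], []),
    (2409, 10, 325, [[0], [0, 1, 2, 2, 2, 1, 2, 1, 2, 0]], []),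
    (2423, 10, 325, [[0], [2, 0, 2, 2, 1, 0, 2, 0]], []),
    (2437, 10, 325, [[0], [0, 2, 0, 2, 0, 2, 2, 2]], []),
    (2451, 10, 325, [[0], [0, 2, 0, 2, 2, 1, 2, 2, 2, 0]], []),
    (2551, 10, 325, [[0], [0, 1, 2, 1, 0, 2, 0, 2, 2, 1]], []),
    (2566, 10, 325, [[0], [0, 2, 1, 0, 2, 1, 2, 2, 2, 0]], []),
    (2581, 10, 325, [[0], [2, 0, 2, 2, 2, 0]], []),
    (2596, 10, 325, [[0], [2, 0, 2, 1, 2, 2, 0]], []),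
    (2611, 10, 325, [[0], [1, 0, 2, 2, 0, 2, 0]], []),
    (2628, 10, 325, [[0], [0, 2, 1, 0, 2, 2, 2, 2]], []),
    (2643, 10, 325, [[0], [2, 1, 2, 2, 0, 2, 1, 2, 0, 2]], []),
    (2658, 10, 325, [[0], [0, 2, 1, 2, 2, 0, 2]], []),
    (2673, 10, 325, [[0], [2, 2, 1, 2, 2, 2, 1, 2, 1, 2, 2, 1, 0]], []),
    (2688, 10, 325, [[0], [0, 1, 2, 0, 1, 2, 0, 1]], []),
    (2721, 10, 325, [[0], [2, 0, 1, 2, 2, 1, 2]], []),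
    (2737, 10, 325, [[0], [2, 0, 2, 2, 2, 2, 2]], []),
    (2753, 10, 325, [[0], [2, 2, 2, 0, 1, 2, 1, 2, 2, 2]], []),
    (2788, 10, 325, [[0], [1, 2, 0, 2, 1, 2, 1, 2]], []),
    (2804, 10, 325, [[0], [0, 1, 2, 2, 2, 0, 1, 2]], []),
    (2820, 10, 325, [[0], [2, 0, 1, 2, 1, 2, 0, 1, 2, 1]], []),
    (2823, 10, 325, [[0], [0, 1, 2, 1, 2, 2, 2, 2, 2]], []),
    (2855, 10, 325, [[0], [0, 1, 2, 0, 2, 0, 2, 2, 2, 2, 1, 2, 2]], []),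
    (2891, 10, 325, [[0], [0, 0, 0, 2, 0, 2, 1, 2, 2]], []),
    (2908, 10, 325, [[0], [1, 2, 2, 1, 2, 0, 2, 1, 0]], []),
    (2929, 10, 325, [[0], [1, 0, 2, 2, 2, 1, 2, 2, 2, 1, 2, 2, 2]], []),
    (2963, 10, 325, [[0], [1, 0, 2, 0, 2, 1, 2, 0, 2, 0]], []),
    (2967, 10, 325, [[0], [0, 0, 0, 2, 0, 2, 0, 2, 1, 2, 0]], []),
    (2984, 10, 325, [[0], [2, 2, 2, 0, 2, 2, 2, 1, 2, 1, 2]], []),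
    (3001, 10, 325, [[0], [2, 0, 2, 0, 1, 2, 0, 2, 1, 0, 2, 0, 2]], []),
    (3005, 10, 325, [[0], [2, 2, 2, 2, 2, 1, 2, 1, 0]], []),
    (3022, 10, 325, [[0], [0, 2, 1, 0, 2, 1, 2]], []),
    (3061, 10, 325, [[0], [2, 1, 2, 2, 2, 1, 2, 1]], []),
    (3079, 10, 325, [[0], [0, 0, 1, 2, 0, 2, 2]], []),
    (3143, 10, 325, [[0], [2, 0, 2, 0, 1, 2, 1, 0, 2]], []),
    (3166, 10, 325, [[0], [2, 0, 2, 2, 1, 2, 1, 2, 2, 2, 2]], []),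
    (3231, 10, 325, [[0], [1, 2, 2, 2, 2, 0, 2, 2, 0]], []),
    (3256, 10, 325, [[0], [0, 2, 2, 2, 2, 0, 2, 1]], []),
    (3300, 10, 325, [[0], [0, 2, 1, 2, 1, 2, 1, 0, 2, 1, 2, 1, 2, 1]], []),
    (3306, 10, 325, [[0], [0, 1, 2, 2, 2, 0, 2, 2, 2, 1, 0]], []),
    (3331, 10, 325, [[0], [0, 2, 1, 2, 0, 2, 0, 2, 0]], []),
    (3350, 10, 325, [[0], [2, 0, 1, 2, 2, 2, 0, 1]], []),
    (3356, 10, 325, [[0], [1, 2, 0, 2, 0, 1, 2, 2]], [])]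

/-- Steps from class 15, part. -/
def step15_1 : List (Nat × Nat × Nat × List (List Nat) × List (List Nat)) :=
  [(4767, 10, 325, [[0], [1, 2, 0, 1, 2, 0]], []),
    (4781, 14, 3608, [[0, 1], [2, 0]], [[1, 1, 0, 1, 0], [1, 1, 0, 1], [0, 1, 0]]),
    (4852, 10, 325, [[0], [2, 1, 0, 2, 1, 2, 1, 2, 1]], []),
    (4937, 14, 3608, [[0, 1], [0, 2, 2]], [[1, 1, 0, 1, 0], [1, 1, 0, 1], [1, 0, 1, 0]]),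
    (4982, 10, 325, [[0], [0, 1, 2, 0, 2, 0, 2, 2, 1]], []),
    (5003, 10, 325, [[0], [2, 1, 2, 1, 0, 2, 0, 2, 1, 2, 0]], []),
    (5124, 11, 3231, [[0, 0, 0, 2], [0, 2, 2]], [[0, 0, 0, 1, 0], [1, 0, 1, 0, 1, 0], [0, 1]]),
    (5154, 10, 325, [[0], [1, 2, 2, 2, 0, 2, 0, 2, 2]], []),
    (5466, 10, 325, [[0], [0, 1, 2, 2, 1, 2, 0, 2, 2, 2]], []),
    (5501, 11, 2984, [[2, 1, 0], [1, 2]], [[0, 1, 0, 1, 0, 1], [1, 0, 1], [1, 0]]),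
    (9559, 10, 325, [[0], [1, 2, 0, 2, 2, 0, 2, 0, 1]], [])]

/-- Steps from class 15. -/
def step15 : List (Nat × Nat × Nat × List (List Nat) × List (List Nat)) := List.flatten [step15_0, step15_1]

/-- Steps from class 16, part. -/
def step16_0 : List (Nat × Nat × Nat × List (List Nat) × List (List Nat)) :=
  [(325, 16, 325, [[0], [0, 0, 1, 1]], [[0], [0, 0, 1, 1], [0]]),
    (326, 10, 325, [[0], [0, 0, 0, 2, 0]], []),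
    (327, 10, 325, [[0], [1, 2, 0, 2, 1, 2, 2, 0, 2]], []),
    (328, 10, 325, [[0], [0, 2, 2, 0, 1, 2, 2]], []),
    (329, 10, 325, [[0], [1, 0, 2, 0, 2, 2, 1, 1]], []),
    (330, 10, 325, [[0], [0, 1, 2, 1, 2, 2, 1, 2, 2, 0, 1]], []),
    (331, 10, 325, [[0], [0, 0, 2, 0, 2, 2, 0, 2]], []),
    (416, 10, 325, [[0], [1, 1, 2, 0, 2, 0, 1, 2, 0, 2]], []),
    (417, 10, 325, [[0], [2, 0, 2, 0, 2, 2, 1]], []),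
    (418, 10, 325, [[0], [1, 2, 1, 2, 2, 0, 2]], []),
    (419, 10, 325, [[0], [0, 0, 1, 2, 2, 0]], []),
    (420, 10, 325, [[0], [0, 1, 2, 2, 0, 1, 2, 2]], []),
    (421, 10, 325, [[0], [2, 2, 2, 1, 1, 0, 2]], []),
    (422, 10, 325, [[0], [1, 2, 1, 2, 2, 1, 1, 2, 1]], []),
    (716, 10, 325, [[0], [0, 2, 1, 0, 2, 2, 1, 2, 1, 2, 0, 1]], []),
    (717, 10, 325, [[0], [2, 0, 2, 2, 1, 0, 2]], []),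
    (720, 10, 325, [[0], [2, 2, 1, 2, 2, 1, 1]], []),
    (722, 10, 325, [[0], [1, 1, 0, 2, 0, 2, 2]], []),
    (723, 10, 325, [[0], [2, 1, 2, 1, 2, 0, 2, 0]], []),
    (2381, 10, 325, [[0], [0, 1, 2, 2, 2, 1, 2, 2, 2]], []),
    (2409, 10, 325, [[0], [2, 1, 1, 0, 2, 2, 0]], []),
    (2423, 10, 325, [[0], [0, 1, 2, 0, 1, 2, 2, 0, 1]], []),
    (2451, 10, 325, [[0], [1, 2, 1, 2, 0, 2, 2, 0]], []),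
    (2493, 10, 325, [[0], [2, 2, 1, 1, 2, 0]], []),
    (2521, 10, 325, [[0], [0, 2, 1, 2, 1, 1, 2, 0, 2, 1]], []),
    (2566, 10, 325, [[0], [1, 0, 2, 2, 1, 0, 2]], []),
    (2596, 10, 325, [[0], [2, 0, 1, 2, 2, 0, 2, 2, 0]], []),
    (2611, 10, 325, [[0], [0, 1, 2, 0, 1, 1, 2]], []),
    (2658, 10, 325, [[0], [1, 1, 2, 2, 0, 1, 2, 1, 1]], []),
    (2721, 10, 325, [[0], [0, 2, 2, 2, 0, 1, 2]], []),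
    (2772, 10, 325, [[0], [2, 1, 2, 2, 2, 0, 2]], []),
    (2788, 10, 325, [[0], [1, 2, 0, 1, 1, 2, 0, 1]], []),
    (2929, 10, 325, [[0], [1, 2, 2, 1, 2, 2, 1, 0, 2, 2, 1, 2]], []),
    (5549, 11, 2788, [[0, 2, 0], [0, 1, 1]], [[0, 1, 0], [1, 0, 1, 0], [0, 0, 0, 1, 0, 1, 0]])]

/-- Steps from class 16. -/
def step16 : List (Nat × Nat × Nat × List (List Nat) × List (List Nat)) := List.flatten [step16_0]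

/-- Steps from class 17, part. -/
def step17_0 : List (Nat × Nat × Nat × List (List Nat) × List (List Nat)) :=
  [(325, 17, 325, [[0], [0, 0, 0, 1, 0]], [[0], [0, 0, 0, 1, 0], [0]]),
    (326, 10, 325, [[0], [0, 0, 0, 2, 0]], []),
    (327, 10, 325, [[0], [1, 0, 2, 0, 2, 1, 0, 2]], []),
    (329, 10, 325, [[0], [0, 0, 0, 2, 2, 2, 1, 1, 1]], []),
    (428, 12, 328, [[0, 0, 1, 1, 0], [0, 0, 2, 1, 1]], [[1, 0, 1, 0, 1, 1, 0, 1, 1], [1, 0, 1, 0, 1], [0, 0, 0, 1, 1, 0, 1, 0, 1, 1, 0, 1, 1]]),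
    (719, 12, 328, [[0, 0, 1, 1, 0], [1, 2, 1, 1, 2]], [[1, 0, 1, 0, 1, 1, 0, 1, 1], [1, 0, 1, 0, 1], [1, 0, 1, 1, 0, 1, 1, 0]])]

/-- Steps from class 17. -/
def step17 : List (Nat × Nat × Nat × List (List Nat) × List (List Nat)) := List.flatten [step17_0]

/-- Steps from class 18, part. -/
def step18_0 : List (Nat × Nat × Nat × List (List Nat) × List (List Nat)) :=
  [(325, 18, 325, [[0], [0, 0, 0, 1, 0]], [[0], [0, 0, 0, 1, 0], [0]]),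
    (326, 10, 325, [[0], [0, 0, 0, 2, 0]], []),
    (327, 10, 325, [[0], [0, 0, 2, 2, 1, 2]], []),
    (328, 10, 325, [[0], [0, 0, 0, 2, 1, 2, 2]], []),
    (329, 10, 325, [[0], [0, 2, 2, 1, 2, 0, 1, 2]], []),
    (331, 10, 325, [[0], [0, 0, 1, 2, 1, 1, 1, 2]], []),
    (419, 10, 325, [[0], [0, 1, 0, 2, 1, 1, 1, 2]], []),
    (421, 10, 325, [[0], [0, 2, 1, 0, 2, 1, 1, 1]], []),
    (427, 10, 325, [[0], [0, 0, 0, 2, 2, 2, 2, 1]], [])]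

/-- Steps from class 18. -/
def step18 : List (Nat × Nat × Nat × List (List Nat) × List (List Nat)) := List.flatten [step18_0]

/-- Steps from class 19, part. -/
def step19_0 : List (Nat × Nat × Nat × List (List Nat) × List (List Nat)) :=
  [(325, 10, 325, [[2], [2, 0, 2, 2, 2]], []),
    (326, 19, 326, [[0], [0, 0, 0, 0, 1, 0, 0]], [[0], [1, 0, 1, 0, 1], [0]]),
    (328, 10, 325, [[0, 2, 1, 0, 2, 1, 2], [0, 1, 0, 1, 0, 2, 2]], []),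
    (425, 12, 330, [[0, 2, 0, 1], [2, 1, 2, 0]], [[1, 0, 1, 0, 1, 1], [0, 1, 1, 0, 1, 0, 1, 1, 0], [0, 0, 0, 1, 1, 0, 1, 0, 1, 1]])]

/-- Steps from class 19. -/
def step19 : List (Nat × Nat × Nat × List (List Nat) × List (List Nat)) := List.flatten [step19_0]

/-- Steps from class 20, part. -/
def step20_0 : List (Nat × Nat × Nat × List (List Nat) × List (List Nat)) :=
  [(325, 10, 325, [[2], [0, 2, 1, 2, 0, 1, 2, 0]], []),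
    (326, 10, 325, [[2, 1, 0, 1, 0, 1, 2], [2, 0, 0, 1, 0, 1, 1, 2]], []),
    (327, 20, 327, [[0], [1, 0, 0]], [[0], [0, 0, 0, 1, 0, 0], [0]]),
    (328, 10, 325, [[2, 0, 1, 0, 2, 0, 2], [0, 0, 1, 2, 1, 2, 2]], []),
    (329, 10, 325, [[0, 1, 1, 2, 1, 2, 1], [2, 0, 2, 0, 0, 1, 0]], []),
    (425, 12, 334, [[1, 2, 1], [0, 2, 2, 1, 1]], [[0, 1, 1, 0, 1, 0, 1, 1, 0, 1], [0, 1, 0, 1, 1, 0, 1, 0], [0, 0, 1, 1, 0, 1, 0, 1, 0]]),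
    (716, 19, 330, [[0, 0, 1, 1, 2], [0, 2, 0, 0]], [[1, 0], [0, 0, 0, 0, 0, 1, 1, 0], [1, 1, 0, 1, 0]]),
    (1335, 12, 334, [[2, 2, 2], [0, 0, 2, 0, 2]], [[0, 1, 1, 0, 1, 0, 1, 1, 0, 1], [0, 1, 0, 1, 1, 0, 1, 0], [0, 0, 1, 0, 1, 0, 1, 1, 0, 1]])]

/-- Steps from class 20. -/
def step20 : List (Nat × Nat × Nat × List (List Nat) × List (List Nat)) := List.flatten [step20_0]

/-- Normalisers. -/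
def normT : List (Nat × Nat × List (List (List Nat))) := [(10, 325, [[], []]), (11, 2984, [[[0, 0, 0]], [[0, 0, 0]]]), (11, 2673, [[[0, 0, 0, 0, 0]], [[0, 0, 0, 0, 0]]]), (12, 334, [[[0, 0, 0, 0, 0, 0, 0, 0, 0, 0, 0, 0]], [[0, 0, 0, 0, 0, 0, 0, 0, 0]]]), (18, 3102, [[[0, 0, 0, 0, 0, 0, 0, 0, 0, 0, 0, 0, 0]], [[0]]]), (11, 3189, [[[0, 0, 0, 0, 0, 0, 0, 0, 0, 0, 0]], [[0, 0, 0, 0, 0, 0, 0, 0, 0, 0, 0]]]), (18, 2596, [[[0, 0, 0, 0, 0, 0]], [[0]]]), (12, 332, [[[0, 0, 0, 0, 0, 0, 0, 0, 0, 0, 0, 0, 0, 0, 0, 0, 0, 0, 0, 0, 0, 0, 0, 0, 0]], [[0, 0, 0, 0, 0, 0, 0, 0, 0]]]), (11, 2658, [[[0, 0]], [[0, 0]]]), (10, 325, [[[0]], [[0]]]), (10, 325, [[[0], [0, 0, 0, 1, 0]], [[0, 1, 0, 1, 1, 0], [0, 0, 0, 1, 0, 1, 0, 1, 1, 0]]]), (11, 325, [[[0], [0, 0, 0, 1, 0]], [[0, 1, 0, 1,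 0], [0, 0, 1, 0, 1, 0, 1]]]), (12, 325, [[[0], [0, 0, 0, 1, 0]], [[0, 1, 0, 1, 1, 0], [0, 0, 0, 1, 0, 1, 0, 1, 1, 0]]]), (11, 325, [[[0], [0, 0, 0, 1, 0]], [[0, 0, 1], [0, 0, 0]]]), (14, 325, [[[0], [0, 0, 0, 1, 0]], [[1, 0, 1, 1], [1, 0]]]), (14, 3608, [[[0, 0, 0], [0, 0, 1]], [[0, 0, 1], [1, 0]]]), (11, 2788, [[[1, 0], [0, 0, 1, 1]], [[1, 1, 0], [0, 0, 1, 1]]]), (12, 328, [[[1, 1, 1, 1, 0], [0, 0, 0, 1, 0]], [[0, 1, 1, 1, 1, 1, 1], [0, 0, 0, 1, 1, 1, 1, 0]]]), (18, 325, [[[0], [0, 0, 0, 1, 0]], [[0, 1, 1], [1]]]), (12, 330, [[[0, 0, 1, 0, 1], [1, 1, 0, 1, 0]], [[0, 1, 0], [1, 0, 1, 1, 0, 1, 0]]]), (12, 334, [[[1, 0, 1, 0, 1], [0, 0, 1, 0, 0]], [[1, 0, 1, 1], [0, 1, 0, 0]]])]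

/-- All steps. -/
def stepT : List (List (Nat × Nat × Nat × List (List Nat) × List (List Nat))) := [step0, step1, step2, step3, step4, step5, step6, step7, step8, step9, step10, step11, step12, step13, step14, step15, step16, step17, step18, step19, step20]

end Cfsg.Agent.SL213
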