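import Cfsg.Agent.Lib.SL213.Data
import Mathlib.Data.Nat.Bitwise

/-! Codes of two by two matrices over thirteen elements and the checks of the tables of classes of subgroups. -/

namespace Cfsg.Agent.SL213

/-- The digits of a code. -/
def dA (n : ℕ) : ℕ := n % 13
/-- Second digit. -/
def dB (n : ℕ) : ℕ := n / 13 % 13
/-- Third digit. -/
def dC (n : ℕ) : ℕ := n / 169 % 13
/-- Fourth digit. -/
def dD (n : ℕ) : ℕ := n / 2197 % 13

/-- Code from digits. -/
def mkC (a b c d : ℕ) : ℕ := a + 13 * (b + 13 * (c + 13 * d))

/-- Product. -/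
def mulC (x y : ℕ) : ℕ :=
  mkC ((dA x * dA y + dB x * dC y) % 13) ((dA x * dB y + dB x * dD y) % 13)
    ((dC x * dA y + dD x * dC y) % 13) ((dC x * dB y + dD x * dD y) % 13)

/-- Inverse. -/
def invC (x : ℕ) : ℕ := mkC (dD x) ((13 - dB x) % 13) ((13 - dC x) % 13) (dA x)

/-- The identity. -/
def oneC : ℕ := 2198

/-- Determinant one. -/
def validC (n : ℕ) : Bool := Nat.blt n 28561 && Nat.beq ((dA n * dD n + 169 - dB n * dC n) % 13) 1

/-- Generators of a class. -/
def gensOf (k : ℕ) : List ℕ := gensT.getD k []

/-- Value of a word. -/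
def evalC (gs : List ℕ) (w : List ℕ) : ℕ := w.foldl (fun a j => mulC a (gs.getD j oneC)) oneC

/-- Conjugate of a code. -/
def conjC (c h : ℕ) : ℕ := mulC (mulC c h) (invC c)

/-- Pack a list in blocks of fifteen bits. -/
def packL : List ℕ → ℕ
  | [] => 0
  | a :: l => a + 32768 * packL l

/-- An entry of a packed list. -/
def getP (p i : ℕ) : ℕ := (p >>> (15 * i)) % 32768

/-- The elements of a class come from its generators. -/
def elsOK (k : ℕ) : Bool :=
  Nat.beq ((elsT.getD k []).getD 0 0) oneC && (elsT.getD k []).all (fun x => Nat.blt x 32768) &&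
    Nat.beq (elsT.getD k []).length ((parT.getD k []).length + 1) &&
    (let p := packL (elsT.getD k [])
    (((elsT.getD k []).tail.zip (parT.getD k [])).zipIdx.all fun e =>
      Nat.blt e.1.2.1 (e.2 + 1) && Nat.blt e.1.2.2 (gensOf k).length &&
        Nat.beq e.1.1 (mulC (getP p e.1.2.1) ((gensOf k).getD e.1.2.2 oneC))))

/-- Bits of a list. -/
def unionB (l : List ℕ) : ℕ := l.foldl (fun r n => r ||| 2 ^ n) 0

/-- All codes of determinant one. -/
def allB : ℕ := (List.range 28561).foldl (fun r n => bif validC n then r ||| 2 ^ n else r) 0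

/-- Double cosets of a class cover everything. -/
def coverB (k : ℕ) : Bool :=
  Nat.beq (allB &&& unionB ((stepT.getD k []).flatMap fun row => (elsT.getD k []).flatMap fun r =>
    (elsT.getD k []).map fun r' => mulC (mulC r row.1) r')) allB

/-- A step leads to a listed class. -/
def rowOK (k : ℕ) (row : ℕ × ℕ × ℕ × List (List ℕ) × List (List ℕ)) : Bool :=
  validC row.1 && Nat.blt row.2.1 21 && validC row.2.2.1 &&
    Nat.beq row.2.2.2.1.length (gensOf row.2.1).length &&
    ((gensOf row.2.1).zip row.2.2.2.1).all (fun e =>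
      Nat.beq (conjC row.2.2.1 e.1) (evalC (gensOf k ++ [row.1]) e.2)) &&
    (Nat.beq row.2.1 topIdx || (Nat.beq row.2.2.2.2.length (gensOf k ++ [row.1]).length &&
      ((gensOf k ++ [row.1]).zip row.2.2.2.2).all (fun e =>
        Nat.beq (conjC (invC row.2.2.1) e.1) (evalC (gensOf row.2.1) e.2))))

/-- The steps of a class work. -/
def stepsOK (k : ℕ) : Bool := coverB k && (stepT.getD k []).all (rowOK k)

/-- A class is maximal or the whole group. -/
def maxB (m : ℕ) : Bool :=
  Nat.beq m topIdx || (let u := unionB (elsT.getD m [])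
    (stepT.getD m []).all fun row => Nat.beq row.2.1 topIdx || u.testBit row.1)

/-- The normaliser of a class contains a maximal class. -/
def normOK (k : ℕ) : Bool :=
  let row := normT.getD k (0, 0, [])
  Nat.blt row.1 21 && validC row.2.1 && maxB row.1 && Nat.beq row.2.2.length (gensOf row.1).length &&
    ((gensOf row.1).zip row.2.2).all fun e => Nat.beq e.2.length (gensOf k).length &&
      ((gensOf k).zip e.2).all fun f => Nat.beq (conjC (conjC row.2.1 e.1) f.1) (evalC (gensOf k) f.2)

/-- All checks for a class apart from its steps. -/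
def baseOK (k : ℕ) : Bool :=
  (gensOf k).all validC && elsOK k && normOK k

/-- The whole group is listed. -/
def topOK : Bool := Nat.beq (allB &&& unionB (elsT.getD topIdx [])) allB

end Cfsg.Agent.SL213
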