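import Cfsg.Agent.Lib.SL213.Defs
import Mathlib.LinearAlgebra.Matrix.SpecialLinearGroup
import Mathlib.Data.ZMod.Basic
import Mathlib.Tactic

/-! Codes of elements of the special linear group of degree two over thirteen elements. -/

namespace Cfsg.Agent.SL213

/-- The special linear group of degree two over thirteen elements. -/
abbrev SL := Matrix.SpecialLinearGroup (Fin 2) (ZMod 13)

/-- The code of an element. -/
def code (x : SL) : ℕ :=
  mkC ((x : Matrix (Fin 2) (Fin 2) (ZMod 13)) 0 0).val ((x : Matrix (Fin 2) (Fin 2) (ZMod 13)) 0 1).val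
    ((x : Matrix (Fin 2) (Fin 2) (ZMod 13)) 1 0).val ((x : Matrix (Fin 2) (Fin 2) (ZMod 13)) 1 1).val

theorem digits {a b c d : ℕ} (ha : a < 13) (hb : b < 13) (hc : c < 13) (hd : d < 13) :
    dA (mkC a b c d) = a ∧ dB (mkC a b c d) = b ∧ dC (mkC a b c d) = c ∧ dD (mkC a b c d) = d := by
  simp only [dA, dB, dC, dD, mkC]; omega

theorem code_digits (x : SL) :
    dA (code x) = ((x : Matrix (Fin 2) (Fin 2) (ZMod 13)) 0 0).val ∧
    dB (code x) = ((x : Matrix (Fin 2) (Fin 2) (ZMod 13)) 0 1).val ∧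
    dC (code x) = ((x : Matrix (Fin 2) (Fin 2) (ZMod 13)) 1 0).val ∧
    dD (code x) = ((x : Matrix (Fin 2) (Fin 2) (ZMod 13)) 1 1).val :=
  digits (ZMod.val_lt _) (ZMod.val_lt _) (ZMod.val_lt _) (ZMod.val_lt _)

theorem code_injective : Function.Injective code := by
  intro x y e
  obtain ⟨a, b, c, d⟩ := code_digits x
  obtain ⟨a', b', c', d'⟩ := code_digits y
  rw [e] at a b c d
  refine Subtype.ext (Matrix.ext fun i j => ZMod.val_injective 13 ?_)
  fin_cases i <;> fin_cases j
  · exact a.symm.trans a'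
  · exact b.symm.trans b'
  · exact c.symm.trans c'
  · exact d.symm.trans d'

theorem code_one : code 1 = oneC := by decide +kernel

theorem code_mul (x y : SL) : code (x * y) = mulC (code x) (code y) := by
  obtain ⟨a, b, c, d⟩ := code_digits x
  obtain ⟨a', b', c', d'⟩ := code_digits y
  rw [mulC, a, b, c, d, a', b', c', d', code, Matrix.SpecialLinearGroup.coe_mul]
  simp only [Matrix.mul_apply, Fin.sum_univ_two, ZMod.val_add, ZMod.val_mul, ← Nat.add_mod]

theorem code_inv (x : SL) : code x⁻¹ = invC (code x) := by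
  obtain ⟨a, b, c, d⟩ := code_digits x
  rw [invC, a, b, c, d, code, Matrix.SpecialLinearGroup.coe_inv, Matrix.adjugate_fin_two]
  simp [ZMod.neg_val']

theorem code_conj (x y : SL) : code (x * y * x⁻¹) = conjC (code x) (code y) := by
  rw [conjC, code_mul, code_mul, code_inv]

theorem valid_code (x : SL) : validC (code x) = true := by
  obtain ⟨a, b, c, d⟩ := code_digits x
  simp only [validC, a, b, c, d, Bool.and_eq_true, Nat.blt_eq, Nat.beq_eq]
  constructor
  · have := ZMod.val_lt ((x : Matrix (Fin 2) (Fin 2) (ZMod 13)) 0 0)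
    have := ZMod.val_lt ((x : Matrix (Fin 2) (Fin 2) (ZMod 13)) 0 1)
    have := ZMod.val_lt ((x : Matrix (Fin 2) (Fin 2) (ZMod 13)) 1 0)
    have := ZMod.val_lt ((x : Matrix (Fin 2) (Fin 2) (ZMod 13)) 1 1)
    simp only [code, mkC]; omega
  · have hdet := x.det_coe
    rw [Matrix.det_fin_two] at hdet
    generalize ha : (x : Matrix (Fin 2) (Fin 2) (ZMod 13)) 0 0 = p at *
    generalize hb : (x : Matrix (Fin 2) (Fin 2) (ZMod 13)) 0 1 = q at *
    generalize hc : (x : Matrix (Fin 2) (Fin 2) (ZMod 13)) 1 0 = r at *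
    generalize hd : (x : Matrix (Fin 2) (Fin 2) (ZMod 13)) 1 1 = s at *
    have hle : q.val * r.val ≤ p.val * s.val + 169 :=
      le_trans (Nat.mul_le_mul (ZMod.val_lt q).le (ZMod.val_lt r).le) (by omega)
    have key : ((p.val * s.val + 169 - q.val * r.val : ℕ) : ZMod 13) = ((1 : ℕ) : ZMod 13) := by
      rw [Nat.cast_sub hle]
      push_cast [ZMod.natCast_zmod_val]
      rw [show (169 : ZMod 13) = 0 by decide, add_zero, hdet]
    exact (ZMod.natCast_eq_natCast_iff' _ _ _).1 key

/-- The matrix of a code. -/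
def matC (n : ℕ) : Matrix (Fin 2) (Fin 2) (ZMod 13) :=
  !![(dA n : ZMod 13), (dB n : ZMod 13); (dC n : ZMod 13), (dD n : ZMod 13)]

theorem det_matC {n : ℕ} (h : validC n = true) : (matC n).det = 1 := by
  rw [matC, Matrix.det_fin_two_of]
  simp only [validC, Bool.and_eq_true, Nat.beq_eq] at h
  have hle : dB n * dC n ≤ dA n * dD n + 169 :=
    le_trans (Nat.mul_le_mul (Nat.mod_lt _ (by norm_num)).le (Nat.mod_lt _ (by norm_num)).le) (by omega)
  have key : ((dA n * dD n + 169 - dB n * dC n : ℕ) : ZMod 13) = ((1 : ℕ) : ZMod 13) :=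
    (ZMod.natCast_eq_natCast_iff' _ _ _).2 h.2
  rw [Nat.cast_sub hle] at key
  push_cast at key
  rw [show (169 : ZMod 13) = 0 by decide, add_zero] at key
  exact key

/-- The element of a code. -/
def el (n : ℕ) : SL := if h : (matC n).det = 1 then (⟨matC n, h⟩ : SL) else 1

theorem code_el {n : ℕ} (h : validC n = true) : code (el n) = n := by
  have e : ((el n : SL) : Matrix (Fin 2) (Fin 2) (ZMod 13)) = matC n :=
    congrArg (fun z : SL => (z : Matrix (Fin 2) (Fin 2) (ZMod 13))) (dif_pos (det_matC h))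
  simp only [code, e, matC, mkC, Matrix.of_apply, Matrix.cons_val', Matrix.cons_val_zero, Matrix.cons_val_one,
    Matrix.empty_val', Matrix.cons_val_fin_one, ZMod.val_natCast]
  simp only [validC, Bool.and_eq_true, Nat.blt_eq] at h
  have := h.1
  simp only [dA, dB, dC, dD]
  omega

theorem el_code (x : SL) : el (code x) = x := code_injective (code_el (valid_code x))

end Cfsg.Agent.SL213
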