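import Cfsg.Agent.Lib.SL213.ChecksCoverHigh
import Cfsg.Agent.Lib.SL213.Semantics
import Mathlib.GroupTheory.Index
import Mathlib.Algebra.Group.Subgroup.Pointwise

/-! Every subgroup of the special linear group of degree two over thirteen elements is conjugate to a listed one,
and every subgroup which is not normal has a maximal normaliser. -/

namespace Cfsg.Agent.SL213

set_option maxHeartbeats 400000

attribute [local irreducible] gensT parT elsT stepT normT

theorem topIdx_lt : topIdx < 21 := by decide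

theorem getP_packL : ∀ (l : List ℕ) (i : ℕ), (∀ x ∈ l, x < 32768) → getP (packL l) i = l.getD i 0 := by
  intro l
  induction l with
  | nil => intro i _; simp [getP, packL]
  | cons a l ih =>
    intro i h
    have ha : a < 32768 := h a List.mem_cons_self
    cases i with
    | zero =>
      simp only [getP, packL, Nat.mul_zero, Nat.shiftRight_zero, List.getD_cons_zero]
      omega
    | succ i =>
      rw [List.getD_cons_succ, ← ih i (fun x hx => h x (List.mem_cons_of_mem _ hx))]
      simp only [getP, packL, Nat.shiftRight_eq_div_pow]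
      rw [show 2 ^ (15 * (i + 1)) = 32768 * 2 ^ (15 * i) by ring, ← Nat.div_div_eq_div_mul,
        show (a + 32768 * packL l) / 32768 = packL l by omega]

theorem testBit_fold (p : ℕ → Bool) (q : ℕ) : ∀ (l : List ℕ) (r : ℕ),
    (l.foldl (fun r n => bif p n then r ||| 2 ^ n else r) r).testBit q = true ↔
      r.testBit q = true ∨ (q ∈ l ∧ p q = true) := by
  intro l
  induction l with
  | nil => simp
  | cons a l ih =>
    intro r
    rw [List.foldl_cons, ih]
    cases hp : p a
    · simp only [cond_false, List.mem_cons]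
      constructor
      · rintro (h | h)
        · exact Or.inl h
        · exact Or.inr ⟨Or.inr h.1, h.2⟩
      · rintro (h | ⟨rfl | h, h'⟩)
        · exact Or.inl h
        · rw [hp] at h'; exact Bool.noConfusion h'
        · exact Or.inr ⟨h, h'⟩
    · simp only [cond_true, Nat.testBit_or, Bool.or_eq_true, Nat.testBit_two_pow, decide_eq_true_eq, List.mem_cons]
      constructor
      · rintro ((h | rfl) | h)
        · exact Or.inl h
        · exact Or.inr ⟨Or.inl rfl, hp⟩
        · exact Or.inr ⟨Or.inr h.1, h.2⟩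
      · rintro (h | ⟨rfl | h, h'⟩)
        · exact Or.inl (Or.inl h)
        · exact Or.inl (Or.inr rfl)
        · exact Or.inr ⟨h, h'⟩

theorem testBit_unionB {l : List ℕ} {q : ℕ} (h : (unionB l).testBit q = true) : q ∈ l := by
  have e : unionB l = l.foldl (fun r n => bif (fun _ => true) n then r ||| 2 ^ n else r) 0 := rfl
  rw [e, testBit_fold] at h
  simpa using h

theorem testBit_allB {n : ℕ} (h : validC n = true) : allB.testBit n = true := by
  rw [allB, testBit_fold]
  refine Or.inr ⟨List.mem_range.2 ?_, h⟩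
  simp only [validC, Bool.and_eq_true, Nat.blt_eq] at h
  exact h.1

theorem testBit_of_cover {U n : ℕ} (hU : Nat.beq (allB &&& U) allB = true) (h : validC n = true) :
    U.testBit n = true := by
  have e := congrArg (fun z => Nat.testBit z n) (Nat.eq_of_beq_eq_true hU)
  simp only [Nat.testBit_and, testBit_allB h, Bool.true_and] at e
  exact e

attribute [local irreducible] unionB allB

/-- The subgroup of a class. -/
def K (k : ℕ) : Subgroup SL := Subgroup.closure {x | code x ∈ gensOf k}

theorem base_spec {k : ℕ} (hk : k < 21) : baseOK k = true :=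
  List.all_eq_true.1 base_ok k (List.mem_range.2 hk)

theorem gens_valid {k : ℕ} (hk : k < 21) {g : ℕ} (hg : g ∈ gensOf k) : validC g = true := by
  have h := base_spec hk
  simp only [baseOK, Bool.and_eq_true, List.all_eq_true] at h
  exact h.1.1 g hg

theorem gen_mem {k : ℕ} (hk : k < 21) {g : ℕ} (hg : g ∈ gensOf k) : el g ∈ K k :=
  Subgroup.subset_closure (show code (el g) ∈ gensOf k by rw [code_el (gens_valid hk hg)]; exact hg)

/-- A word evaluates inside the subgroup generated by the letters. -/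
theorem evalC_spec {S : Subgroup SL} {gs : List ℕ} (h : ∀ g ∈ gs, ∃ x ∈ S, code x = g) (w : List ℕ) :
    ∃ x ∈ S, code x = evalC gs w := by
  have key : ∀ (w : List ℕ) (a : SL), a ∈ S →
      ∃ x ∈ S, code x = w.foldl (fun a j => mulC a (gs.getD j oneC)) (code a) := by
    intro w
    induction w with
    | nil => intro a ha; exact ⟨a, ha, rfl⟩
    | cons j w ih =>
      intro a ha
      obtain ⟨y, hy, hyc⟩ : ∃ y ∈ S, code y = gs.getD j oneC := by
        rcases lt_or_ge j gs.length with hj | hj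
        · rw [List.getD_eq_getElem _ _ hj]; exact h _ (List.getElem_mem hj)
        · rw [List.getD_eq_default _ _ hj]; exact ⟨1, S.one_mem, code_one⟩
      rw [List.foldl_cons, ← hyc, ← code_mul]
      exact ih _ (S.mul_mem ha hy)
  obtain ⟨x, hx, e⟩ := key w 1 S.one_mem
  exact ⟨x, hx, by rw [e, code_one]; rfl⟩

theorem els_mem {k : ℕ} (hk : k < 21) {q : ℕ} (hq : q ∈ elsT.getD k []) : ∃ x ∈ K k, code x = q := by
  have h := base_spec hk
  simp only [baseOK, elsOK, Bool.and_eq_true, List.all_eq_true, Nat.beq_eq, Nat.blt_eq] at h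
  have h0 := h.1.2.1.1.1
  have hlt := h.1.2.1.1.2
  have hlen' := h.1.2.1.2
  have hstep := h.1.2.2
  generalize elsT.getD k [] = E at hq h0 hlt hlen' hstep
  generalize parT.getD k [] = P at hlen' hstep
  suffices hs : ∀ i, i < E.length → ∃ x ∈ K k, code x = E.getD i 0 by
    obtain ⟨i, hi, rfl⟩ := List.getElem_of_mem hq
    have h' := hs i hi
    rw [List.getD_eq_getElem _ _ hi] at h'
    exact h'
  intro i
  induction i using Nat.strong_induction_on with
  | _ i ih =>
    intro hi
    rcases i with _ | i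
    · exact ⟨1, (K k).one_mem, by rw [code_one, h0]⟩
    · have ht : i < E.tail.length := by simp; omega
      have hP : i < P.length := by omega
      have hmem : ((E.tail[i], P[i]), i) ∈ (E.tail.zip P).zipIdx := by
        rw [List.mem_zipIdx_iff_getElem?]
        simp only [List.getElem?_eq_getElem (show i < (E.tail.zip P).length by simp; omega), List.getElem_zip]
      obtain ⟨⟨h1, h2⟩, h3⟩ := hstep _ hmem
      simp only at h1 h2 h3
      obtain ⟨x, hx, hxc⟩ := ih _ h1 (by omega)
      rw [List.getD_eq_getElem _ _ hi, show E[i + 1] = E.tail[i] by simp, h3, getP_packL E _ hlt, ← hxc]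
      have hg : (gensOf k).getD P[i].2 oneC ∈ gensOf k := by
        rw [List.getD_eq_getElem _ _ h2]; exact List.getElem_mem h2
      refine ⟨x * el ((gensOf k).getD P[i].2 oneC), (K k).mul_mem hx (gen_mem hk hg), ?_⟩
      rw [code_mul, code_el (gens_valid hk hg)]

theorem K_top : K topIdx = ⊤ := by
  refine eq_top_iff.2 fun x _ => ?_
  obtain ⟨y, hy, e⟩ := els_mem topIdx_lt (testBit_unionB (testBit_of_cover (U := unionB (elsT.getD topIdx [])) top_ok (valid_code x)))
  exact code_injective e ▸ hy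

theorem rows_ok {k : ℕ} (hk : k < 21) (hk' : k ≠ topIdx) {row : ℕ × ℕ × ℕ × List (List ℕ) × List (List ℕ)}
    (hr : row ∈ stepT.getD k []) : rowOK k row = true := by
  rcases Nat.eq_zero_or_pos k with rfl | h0
  · exact List.all_eq_true.1 rows_zero row hr
  · have := List.all_eq_true.1 rows_other k (List.mem_range'_1.2 ⟨h0, by omega⟩)
    simp only [Bool.or_eq_true, Nat.beq_eq, List.all_eq_true, decide_eq_true_eq] at this
    exact (this.resolve_left hk') row hr

theorem cover_ok {k : ℕ} (hk : k < 21) (hk' : k ≠ topIdx) : coverB k = true := by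
  have hc : topIdx = 10 := rfl
  rcases Nat.lt_or_ge k 10 with h | h
  · exact List.all_eq_true.1 cover_low k (List.mem_range.2 h)
  · rcases Nat.lt_or_ge k 16 with h' | h'
    · exact List.all_eq_true.1 cover_mid k (List.mem_range'_1.2 ⟨by omega, by omega⟩)
    · exact List.all_eq_true.1 cover_high k (List.mem_range'_1.2 ⟨by omega, by omega⟩)

theorem mem_of_zip {α β : Type*} {l : List α} {l' : List β} (h : l'.length = l.length) {a : α} (ha : a ∈ l) :
    ∃ b, (a, b) ∈ l.zip l' := by
  obtain ⟨i, hi, rfl⟩ := List.getElem_of_mem ha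
  refine ⟨l'[i]'(by omega), List.mem_iff_getElem.2 ⟨i, by simp; omega, by simp⟩⟩

/-- Conjugate of a class. -/
def Kc (k : ℕ) (c : SL) : Subgroup SL := (K k).map (MulAut.conj c).toMonoidHom

theorem mem_Kc {k : ℕ} {c x : SL} (h : x ∈ K k) : c * x * c⁻¹ ∈ Kc k c := ⟨x, h, rfl⟩

theorem mem_Kc_iff {k : ℕ} {c x : SL} : x ∈ Kc k c ↔ c⁻¹ * x * c ∈ K k := by
  rw [Kc, Subgroup.mem_map_equiv, MulAut.conj_symm_apply]

theorem K_zero : K 0 = ⊥ := by
  rw [eq_bot_iff, K, Subgroup.closure_le]
  intro x hx
  exact absurd hx (by simp [show gensOf 0 = [] by decide +kernel])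

/-- A double coset step inside a subgroup. -/
theorem step {k : ℕ} (hk : k < 21) (hk' : k ≠ topIdx) {H : Subgroup SL} {c : SL} (hle : Kc k c ≤ H) {g : SL}
    (hg : g ∈ H) (hgn : g ∉ Kc k c) :
    ∃ row ∈ stepT.getD k [], el row.1 ∉ K k ∧ row.2.1 < 21 ∧ ∃ c', Kc row.2.1 c' ≤ H ∧
      (row.2.1 ≠ topIdx → Kc k c < Kc row.2.1 c') := by
  have hc := cover_ok hk hk'
  unfold coverB at hc
  have hcov := testBit_unionB (testBit_of_cover hc (valid_code (c⁻¹ * g * c)))
  obtain ⟨row, hrow, hcov⟩ := List.mem_flatMap.1 hcov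
  obtain ⟨r, hr, hcov⟩ := List.mem_flatMap.1 hcov
  obtain ⟨r', hr', hcov⟩ := List.mem_map.1 hcov
  obtain ⟨x, hx, rfl⟩ := els_mem hk hr
  obtain ⟨x', hx', rfl⟩ := els_mem hk hr'
  have hok := rows_ok hk hk' hrow
  simp only [rowOK, Bool.and_eq_true, Bool.or_eq_true, List.all_eq_true, Nat.beq_eq, Nat.blt_eq] at hok
  obtain ⟨⟨⟨⟨⟨vg, hlt⟩, vc⟩, flen⟩, hfw⟩, hbw⟩ := hok
  rw [← code_el vg, ← code_mul, ← code_mul] at hcov
  have e := code_injective hcov
  have hmid : el row.1 = x⁻¹ * (c⁻¹ * g * c) * x'⁻¹ := by rw [← e]; group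
  set r₀ := el row.1 with hr₀
  have hn : r₀ ∉ K k := fun h => hgn (mem_Kc_iff.2 (e ▸ (K k).mul_mem ((K k).mul_mem hx h) hx'))
  let H' := H.map (MulAut.conj c⁻¹).toMonoidHom
  have hH' : ∀ y, y ∈ H' ↔ c * y * c⁻¹ ∈ H := fun y => by
    show y ∈ H.map (MulAut.conj c⁻¹).toMonoidHom ↔ _
    rw [Subgroup.mem_map_equiv, MulAut.conj_symm_apply, inv_inv]
  have hKH : K k ≤ H' := fun y hy => (hH' y).2 (hle (mem_Kc hy))
  have hrH : r₀ ∈ H' := by
    rw [hmid]
    refine H'.mul_mem (H'.mul_mem (H'.inv_mem (hKH hx)) ((hH' _).2 ?_)) (H'.inv_mem (hKH hx'))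
    have : c * (c⁻¹ * g * c) * c⁻¹ = g := by group
    rwa [this]
  refine ⟨row, hrow, hn, hlt, c * el row.2.2.1, ?_, fun hnt => ?_⟩
  · intro y hy
    rw [mem_Kc_iff] at hy
    suffices hz : el row.2.2.1 * ((c * el row.2.2.1)⁻¹ * y * (c * el row.2.2.1)) * (el row.2.2.1)⁻¹ ∈ H' by
      have := (hH' _).1 hz
      have e' : c * (el row.2.2.1 * ((c * el row.2.2.1)⁻¹ * y * (c * el row.2.2.1)) * (el row.2.2.1)⁻¹) * c⁻¹ = y := by
        group
      rwa [e'] at this
    have hle' : K row.2.1 ≤ H'.comap (MulAut.conj (el row.2.2.1)).toMonoidHom := by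
      refine (Subgroup.closure_le _).2 fun z hz => ?_
      obtain ⟨w, hw⟩ := mem_of_zip flen hz
      have he := hfw _ hw
      simp only at he
      obtain ⟨v, hv, hvc⟩ := evalC_spec (S := H') (gs := gensOf k ++ [row.1]) (by
        intro q hq
        rcases List.mem_append.1 hq with hq | hq
        · exact ⟨el q, hKH (gen_mem hk hq), code_el (gens_valid hk hq)⟩
        · rw [List.mem_singleton] at hq; subst hq
          exact ⟨r₀, hrH, code_el vg⟩) w
      rw [← hvc] at he
      show el row.2.2.1 * z * (el row.2.2.1)⁻¹ ∈ H'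
      have hv' : el row.2.2.1 * z * (el row.2.2.1)⁻¹ = v := code_injective (by rw [code_conj, code_el vc]; exact he)
      rw [hv']; exact hv
    exact hle' hy
  · obtain ⟨blen, hb⟩ := hbw.resolve_left hnt
    set d := el row.2.2.1
    have hin : ∀ q ∈ gensOf k ++ [row.1], validC q = true → d⁻¹ * el q * d ∈ K row.2.1 := by
      intro q hq vq
      obtain ⟨w, hw⟩ := mem_of_zip blen hq
      have he := hb _ hw
      simp only at he
      obtain ⟨v, hv, hvc⟩ := evalC_spec (S := K row.2.1) (gs := gensOf row.2.1)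
        (fun q hq => ⟨el q, gen_mem hlt hq, code_el (gens_valid hlt hq)⟩) w
      rw [← hvc] at he
      have : code (d⁻¹ * el q * d) = code v := by
        rw [show d⁻¹ * el q * d = d⁻¹ * el q * d⁻¹⁻¹ by rw [inv_inv], code_conj, code_inv, code_el vc, code_el vq]
        exact he
      rw [code_injective this]; exact hv
    have hKd : K k ≤ (K row.2.1).map (MulAut.conj d).toMonoidHom := by
      refine (Subgroup.closure_le _).2 fun z hz => ?_
      refine ⟨d⁻¹ * z * d, ?_, by simp [mul_assoc]⟩
      have := hin (code z) (List.mem_append_left _ hz) (valid_code z)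
      rwa [el_code] at this
    refine lt_of_le_of_ne (fun y hy => ?_) fun heq => hn ?_
    · obtain ⟨z, hz, rfl⟩ := hy
      obtain ⟨u, hu, rfl⟩ := hKd hz
      exact ⟨u, hu, by simp [mul_assoc]⟩
    · have := hin row.1 (List.mem_append_right _ (List.mem_singleton_self _)) vg
      have h2 : c * r₀ * c⁻¹ ∈ Kc row.2.1 (c * d) := ⟨_, this, by simp [mul_assoc, r₀]⟩
      rw [← heq, mem_Kc_iff] at h2
      simpa [mul_assoc] using h2

theorem exists_class (H : Subgroup SL) : ∃ k < 21, ∃ c, H = Kc k c := by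
  have h0 : Kc ((0 : Fin 21) : ℕ) 1 ≤ H := by
    show Kc 0 1 ≤ H
    rw [Kc, K_zero, Subgroup.map_bot]; exact bot_le
  haveI : Nonempty {p : Fin 21 × SL // Kc (p.1 : ℕ) p.2 ≤ H} := ⟨⟨(0, 1), h0⟩⟩
  obtain ⟨⟨⟨⟨k, hk⟩, c⟩, hm⟩, hmax'⟩ :=
    Finite.exists_max fun p : {p : Fin 21 × SL // Kc (p.1 : ℕ) p.2 ≤ H} => Nat.card (Kc (p.1.1 : ℕ) p.1.2)
  have hmax : ∀ p : Fin 21 × SL, Kc (p.1 : ℕ) p.2 ≤ H → Nat.card (Kc (p.1 : ℕ) p.2) ≤ Nat.card (Kc k c) :=
    fun p hp => hmax' ⟨p, hp⟩
  refine ⟨k, hk, c, le_antisymm (fun g hg => ?_) hm⟩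
  by_contra hgn
  have hk' : k ≠ topIdx := by
    rintro rfl
    refine hgn ?_
    rw [mem_Kc_iff, K_top]; exact Subgroup.mem_top _
  obtain ⟨row, -, -, hlt, c', hle, hgt⟩ := step hk hk' hm hg hgn
  by_cases ht : row.2.1 = topIdx
  · have htop : Kc row.2.1 c' = ⊤ := by
      rw [Kc, ht, K_top]; exact Subgroup.map_top_of_surjective _ (MulEquiv.surjective _)
    have := hmax (⟨row.2.1, hlt⟩, c') hle
    simp only [htop, Subgroup.card_top] at this
    exact hgn (Subgroup.eq_top_of_le_card _ this ▸ Subgroup.mem_top g)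
  · have hlt' := hgt ht
    have := hmax (⟨row.2.1, hlt⟩, c') hle
    exact hlt'.ne (Subgroup.eq_of_le_of_card_ge hlt'.le this)

theorem le_normalizer_of_gens {G : Type*} [Group G] [Finite G] {S : Set G} {y : G}
    (h : ∀ x ∈ S, y * x * y⁻¹ ∈ Subgroup.closure S) :
    y ∈ Subgroup.normalizer (Subgroup.closure S : Set G) := by
  have hle : (Subgroup.closure S).map (MulAut.conj y).toMonoidHom ≤ Subgroup.closure S := by
    rw [Subgroup.map_le_iff_le_comap, Subgroup.closure_le]
    exact h
  have e := Subgroup.eq_of_le_of_card_ge hle (by rw [Subgroup.card_map_of_injective (MulEquiv.injective _)])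
  rw [Subgroup.mem_normalizer_iff]
  intro x
  conv_rhs => rw [← e, Subgroup.mem_map_equiv]
  simp [MulAut.conj_symm_apply, mul_assoc]

/-- The normaliser of a listed class is everything or maximal. -/
theorem normalizer_class {k : ℕ} (hk : k < 21) :
    Subgroup.normalizer (K k : Set SL) = ⊤ ∨ IsCoatom (Subgroup.normalizer (K k : Set SL)) := by
  have h := base_spec hk
  simp only [baseOK, normOK, Bool.and_eq_true, List.all_eq_true, Nat.beq_eq, Nat.blt_eq] at h
  obtain ⟨-, ⟨⟨⟨hm, vd⟩, hmax⟩, hlen⟩, hws⟩ := h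
  set m := (normT.getD k (0, 0, [])).1
  set d := el (normT.getD k (0, 0, [])).2.1
  have hN : Kc m d ≤ Subgroup.normalizer (K k : Set SL) := by
    rw [Kc, Subgroup.map_le_iff_le_comap, K, Subgroup.closure_le]
    intro y hy
    obtain ⟨ws, hw⟩ := mem_of_zip hlen hy
    obtain ⟨hlen', hws'⟩ := hws _ hw
    show d * y * d⁻¹ ∈ Subgroup.normalizer (Subgroup.closure {x | code x ∈ gensOf k} : Set SL)
    refine le_normalizer_of_gens fun x hx => ?_
    obtain ⟨w, hw'⟩ := mem_of_zip hlen' hx
    have he := hws' _ hw'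
    simp only at he
    obtain ⟨v, hv, hvc⟩ := evalC_spec (S := K k) (gs := gensOf k)
      (fun q hq => ⟨el q, gen_mem hk hq, code_el (gens_valid hk hq)⟩) w
    rw [← hvc] at he
    show (d * y * d⁻¹) * x * (d * y * d⁻¹)⁻¹ ∈ K k
    have hv' : (d * y * d⁻¹) * x * (d * y * d⁻¹)⁻¹ = v := code_injective (by rw [code_conj, code_conj, code_el vd]; exact he)
    rw [hv']; exact hv
  rcases eq_or_ne (Subgroup.normalizer (K k : Set SL)) ⊤ with h | hne
  · exact Or.inl h
  refine Or.inr ⟨hne, fun B hB => ?_⟩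
  obtain ⟨g, hgB, hgn⟩ := SetLike.exists_of_lt hB
  have hmt : m ≠ topIdx := fun e => hgn (hN (by rw [mem_Kc_iff, e, K_top]; exact Subgroup.mem_top _))
  obtain ⟨row, hrow, hn, -, c', hle, -⟩ := step hm hmt (hN.trans hB.le) hgB (fun h => hgn (hN h))
  simp only [maxB, Bool.or_eq_true, Nat.beq_eq, List.all_eq_true] at hmax
  have := hmax.resolve_left hmt row hrow
  rcases this with e | e
  · rw [eq_top_iff]
    refine fun x _ => hle ?_
    rw [mem_Kc_iff, e, K_top]; exact Subgroup.mem_top _
  · exfalso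
    obtain ⟨x, hx, hxc⟩ := els_mem hm (testBit_unionB e)
    have := rows_ok hm hmt hrow
    simp only [rowOK, Bool.and_eq_true] at this
    exact hn (code_injective (hxc.trans (code_el this.1.1.1.1.1).symm) ▸ hx)

/-- Subgroups which are not normal have maximal normalisers. -/
theorem maximal_normalizer (H : Subgroup SL) (hH : ¬ H.Normal) :
    IsCoatom (Subgroup.normalizer (H : Set SL)) := by
  obtain ⟨k, hk, c, rfl⟩ := exists_class H
  have e : Subgroup.normalizer (Kc k c : Set SL) =
      (Subgroup.normalizer (K k : Set SL)).map (MulAut.conj c).toMonoidHom :=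
    (Subgroup.map_equiv_normalizer_eq (K k) (MulAut.conj c)).symm
  rw [e]
  rcases normalizer_class hk with h | h
  · exfalso
    refine hH (Subgroup.normalizer_eq_top_iff.1 ?_)
    rw [e, h]; exact Subgroup.map_top_of_surjective _ (MulEquiv.surjective _)
  · exact (OrderIso.isCoatom_iff (MulEquiv.mapSubgroup (MulAut.conj c)) _).2 h

end Cfsg.Agent.SL213
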